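import Cfsg.Agent.H188.Der.Grp

/-!
# Small groups (helper188, task 2988)
-/

set_option autoImplicit false

namespace Cfsg.Agent.H188.Der

open Cfsg.Agent.H439.Der Subgroup

section G

variable {G : Type*} [Group G] [Finite G]

theorem exists_normal_sylow {p : ℕ} [hp : Fact p.Prime] {k m : ℕ} (hG : Nat.card G = p ^ k * m) (hm : ¬ p ∣ m)
    (h1 : ∀ n, n ∣ m → n ≡ 1 [MOD p] → n = 1) : ∃ P : Subgroup G, P.Normal ∧ Nat.card P = p ^ k := by
  obtain ⟨P⟩ := (inferInstance : Nonempty (Sylow p G))
  have hm0 : m ≠ 0 := by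
    rintro rfl
    exact hm (dvd_zero p)
  have hc : Nat.card P = p ^ k := by
    rw [P.card_eq_multiplicity, hG, Nat.factorization_mul (pow_ne_zero k hp.out.ne_zero) hm0, Finsupp.add_apply,
      hp.out.factorization_pow, Finsupp.single_eq_same, Nat.factorization_eq_zero_of_not_dvd hm, add_zero]
  have hidx : (P : Subgroup G).index = m := by
    have h2 := (P : Subgroup G).card_mul_index
    have h3 : Nat.card (P : Subgroup G) = p ^ k := hc
    rw [h3, hG] at h2
    exact Nat.eq_of_mul_eq_mul_left (pow_pos hp.out.pos k) h2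
  have h2 := P.card_dvd_index
  rw [hidx] at h2
  have h3 := h1 _ h2 (card_sylow_modEq_one p G)
  have h4 : Subsingleton (Sylow p G) := (Nat.card_eq_one_iff_unique.1 h3).1
  exact ⟨P, Sylow.normal_of_subsingleton P, hc⟩

omit [Finite G] in
theorem orderOf_dvd_card_of_mem {H : Subgroup G} {x : G} (hx : x ∈ H) : orderOf x ∣ Nat.card H :=
  Subgroup.orderOf_dvd_natCard H hx

omit [Finite G] in
theorem card_cent_map (φ : G ≃* G) (u : G) :
    Nat.card (centralizer ({φ u} : Set G)) = Nat.card (centralizer ({u} : Set G)) := by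
  have h1 : centralizer ({φ u} : Set G) = (centralizer ({u} : Set G)).map φ.toMonoidHom := by
    ext a
    rw [Subgroup.mem_centralizer_singleton_iff]
    constructor
    · intro ha
      refine ⟨φ.symm a, Subgroup.mem_centralizer_singleton_iff.2 ?_, φ.apply_symm_apply a⟩
      apply φ.injective
      rw [map_mul, map_mul, φ.apply_symm_apply]
      exact ha
    · rintro ⟨b, hb, rfl⟩
      have h2 := Subgroup.mem_centralizer_singleton_iff.1 hb
      show φ b * φ u = φ u * φ b
      rw [← map_mul, h2, map_mul]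
  rw [h1]
  exact Subgroup.card_map_of_injective φ.injective

omit [Finite G] in
theorem card_cent_conj (g u : G) :
    Nat.card (centralizer ({g * u * g⁻¹} : Set G)) = Nat.card (centralizer ({u} : Set G)) :=
  card_cent_map (MulAut.conj g) u

theorem no_150 (hG : Nat.card G = 150) {z y : G} (hz : orderOf z = 5) (hzc : Commute z y) (hy : orderOf y = 3)
    (hC : Nat.card (centralizer ({y} : Set G)) = 15) : False := by
  have h2f : Fact (Nat.Prime 2) := ⟨Nat.prime_two⟩
  have h3f : Fact (Nat.Prime 3) := ⟨Nat.prime_three⟩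
  have h5f : Fact (Nat.Prime 5) := ⟨by norm_num⟩
  obtain ⟨t, ht⟩ := exists_prime_orderOf_dvd_card' (G := G) 2 (by rw [hG]; norm_num)
  obtain ⟨K, hK, hKc⟩ := burnside_two (G := G) (w := t) (k := 1) (m := 75) one_ne_zero (by rw [ht]; rfl)
    (by norm_num) (by rw [hG]; rfl)
  have hzK : z ∈ K := mem_normal_of_coprime hK (k := 2) (by rw [hKc, hG]) (by rw [hz]; decide)
  have hyK : y ∈ K := mem_normal_of_coprime hK (k := 2) (by rw [hKc, hG]) (by rw [hy]; decide)
  obtain ⟨P, hP, hPc⟩ := exists_normal_sylow (G := K) (p := 5) (k := 2) (m := 3) (by rw [hKc]; rfl) (by norm_num) (by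
    intro n hn h1
    have : n ≤ 3 := Nat.le_of_dvd (by norm_num) hn
    interval_cases n <;> first | rfl | (exfalso; revert h1; decide))
  have hzP : (⟨z, hzK⟩ : K) ∈ P := mem_normal_of_coprime hP (k := 3) (by rw [hPc, hKc]; rfl) (by
    rw [Subgroup.orderOf_mk, hz]; decide)
  have h1 := card_modEq_fix (r := 3) (y := (⟨y, hyK⟩ : K)) (by
    apply Subtype.ext
    show y ^ 3 = 1
    rw [← hy, pow_orderOf_eq_one]) P (fun n hn => hP.conj_mem n hn _)
  have h2 : Nat.card (P ⊓ centralizer ({⟨y, hyK⟩} : Set K) : Subgroup K) = 5 := by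
    set C := (P ⊓ centralizer ({⟨y, hyK⟩} : Set K) : Subgroup K) with hCd
    have h3 : Nat.card C ∣ 25 := by
      have := Subgroup.card_dvd_of_le (inf_le_left : C ≤ P)
      rwa [hPc] at this
    have h4 : Nat.card C ∣ 15 := by
      have e := Subgroup.card_map_of_injective (K := C) (f := K.subtype) K.subtype_injective
      rw [← hC, ← e]
      apply Subgroup.card_dvd_of_le
      rintro _ ⟨g, hg, rfl⟩
      rw [Subgroup.mem_centralizer_singleton_iff]
      exact congrArg Subtype.val (Subgroup.mem_centralizer_singleton_iff.1 hg.2)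
    have h5 : 5 ∣ Nat.card C := by
      have h6 : (⟨z, hzK⟩ : K) ∈ C := ⟨hzP, Subgroup.mem_centralizer_singleton_iff.2 (Subtype.ext hzc.eq)⟩
      have := orderOf_dvd_card_of_mem h6
      rwa [Subgroup.orderOf_mk, hz] at this
    have h6 : Nat.card C ∣ Nat.gcd 25 15 := Nat.dvd_gcd h3 h4
    exact Nat.dvd_antisymm h6 h5
  rw [h2, hPc] at h1
  revert h1; decide

theorem exists_of_120 (hG : Nat.card G = 120) {w : G} (hw : orderOf w = 8) :
    ∃ x y : G, orderOf x = 5 ∧ orderOf y = 3 ∧ Commute x y := by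
  have h2f : Fact (Nat.Prime 2) := ⟨Nat.prime_two⟩
  have h3f : Fact (Nat.Prime 3) := ⟨Nat.prime_three⟩
  have h5f : Fact (Nat.Prime 5) := ⟨by norm_num⟩
  obtain ⟨K, hK, hKc⟩ := burnside_two (G := G) (w := w) (k := 3) (m := 15) (by norm_num) (by rw [hw]; rfl)
    (by norm_num) (by rw [hG]; rfl)
  obtain ⟨y, hy⟩ := exists_prime_orderOf_dvd_card' (G := K) 3 (by rw [hKc]; norm_num)
  obtain ⟨P, hP, hPc⟩ := exists_normal_sylow (G := K) (p := 5) (k := 1) (m := 3) (by rw [hKc]; rfl) (by norm_num) (by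
    intro n hn h1
    have : n ≤ 3 := Nat.le_of_dvd (by norm_num) hn
    interval_cases n <;> first | rfl | (exfalso; revert h1; decide))
  have h1 := card_modEq_fix (r := 3) (y := y) (by rw [← hy, pow_orderOf_eq_one]) P (fun n hn => hP.conj_mem n hn _)
  rw [pow_one] at hPc
  obtain ⟨x, hx⟩ := exists_prime_orderOf_dvd_card' (G := P) 5 (by rw [hPc])
  have h2 : Nat.card (P ⊓ centralizer ({y} : Set K) : Subgroup K) ∣ 5 := by
    have := Subgroup.card_dvd_of_le (inf_le_left : (P ⊓ centralizer ({y} : Set K) : Subgroup K) ≤ P)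
    rwa [hPc] at this
  rcases (Nat.dvd_prime (by norm_num)).1 h2 with h3 | h3
  · exfalso
    rw [h3, hPc] at h1
    revert h1; decide
  · have h4 : P ⊓ centralizer ({y} : Set K) = P := Subgroup.eq_of_le_of_card_ge inf_le_left (by rw [h3, hPc])
    have h5 : (x : K) ∈ P ⊓ centralizer ({y} : Set K) := by rw [h4]; exact x.2
    refine ⟨(x : K), (y : K), ?_, ?_, ?_⟩
    · rw [Subgroup.orderOf_coe, Subgroup.orderOf_coe, hx]
    · rw [Subgroup.orderOf_coe, hy]
    · exact congrArg Subtype.val (Subgroup.mem_centralizer_singleton_iff.1 h5.2)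

theorem no_756 (hG : Nat.card G = 756) {x : G} (hx : orderOf x = 7)
    (hC : Nat.card (centralizer ({x} : Set G)) = 21) (hN : Nat.card (normalizer (zpowers x : Set G)) = 21) : False := by
  have h2f : Fact (Nat.Prime 2) := ⟨Nat.prime_two⟩
  have h7f : Fact (Nat.Prime 7) := ⟨by norm_num⟩
  have h49 : ¬ 7 ^ 2 ∣ Nat.card G := by rw [hG]; norm_num
  obtain ⟨K, hK, hKc⟩ := burnside_prime (G := G) (p := 7) hx h49 (by rw [hC, hN])
  have hK108 : Nat.card K = 108 := by rw [hG] at hKc; omega
  obtain ⟨Q⟩ := (inferInstance : Nonempty (Sylow 2 K))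
  have hQc : Nat.card Q = 4 := by
    rw [Q.card_eq_multiplicity, hK108, show (108 : ℕ) = 2 ^ 2 * 27 by norm_num,
      Nat.factorization_mul (by norm_num) (by norm_num), Finsupp.add_apply,
      Nat.prime_two.factorization_pow, Finsupp.single_eq_same,
      Nat.factorization_eq_zero_of_not_dvd (show ¬ 2 ∣ 27 by norm_num)]
    norm_num
  have hfr := Sylow.normalizer_sup_eq_top Q
  set N := normalizer (((Q : Subgroup K).map K.subtype : Subgroup G) : Set G) with hNd
  have h7N : 7 ∣ Nat.card N := by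
    have h1 : K.relIndex (N ⊔ K) = K.relIndex N := Subgroup.relIndex_sup_right N K
    have h2 : K.relIndex N ∣ Nat.card N := Subgroup.relIndex_dvd_card K N
    rw [← h1] at h2
    have h3 : N ⊔ K = ⊤ := hfr
    rw [h3, Subgroup.relIndex_top_right] at h2
    have h4 : K.index = 7 := by
      have h5 := K.card_mul_index
      rw [hK108, hG] at h5
      omega
    rwa [h4] at h2
  obtain ⟨x', hx'⟩ := exists_prime_orderOf_dvd_card' (G := N) 7 h7N
  obtain ⟨v, hv⟩ : ∃ v : G, v = x'.1 := ⟨_, rfl⟩
  have hvo : orderOf v = 7 := by rw [hv, Subgroup.orderOf_coe, hx']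
  -- centraliser of `v`
  have hCv : Nat.card (centralizer ({v} : Set G)) = 21 := by
    obtain ⟨P, hP⟩ := exists_sylow_zpowers (p := 7) (k := 1) (y := x) (by rw [hx]; rfl) h49
    obtain ⟨P', hP'⟩ := exists_sylow_zpowers (p := 7) (k := 1) (y := v) (by rw [hvo]; rfl) h49
    obtain ⟨g, hg⟩ := MulAction.exists_smul_eq G P P'
    have h1 : (zpowers (g * x * g⁻¹) : Subgroup G) = zpowers v := by
      have h2 : (P : Subgroup G).map (MulAut.conj g).toMonoidHom = (P' : Subgroup G) := by rw [← hg]; rfl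
      rw [hP, hP', MonoidHom.map_zpowers] at h2
      exact h2
    have h2 : centralizer ({v} : Set G) = centralizer ({g * x * g⁻¹} : Set G) := by
      ext a
      rw [Subgroup.mem_centralizer_singleton_iff, Subgroup.mem_centralizer_singleton_iff]
      constructor
      · intro ha
        obtain ⟨n, hn⟩ := mem_zpowers_iff.1 (h1 ▸ mem_zpowers (g * x * g⁻¹) : g * x * g⁻¹ ∈ zpowers v)
        rw [← hn]
        exact ((show Commute a v from ha).zpow_right n).eq
      · intro ha
        obtain ⟨n, hn⟩ := mem_zpowers_iff.1 (h1.symm ▸ mem_zpowers v : v ∈ zpowers (g * x * g⁻¹))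
        rw [← hn]
        exact ((show Commute a (g * x * g⁻¹) from ha).zpow_right n).eq
    rw [h2, card_cent_conj, hC]
  set Q' : Subgroup G := (Q : Subgroup K).map K.subtype with hQ'
  have hQ'c : Nat.card Q' = 4 := by
    rw [hQ', Subgroup.card_map_of_injective K.subtype_injective]
    exact hQc
  have h1 := card_modEq_fix (r := 7) (y := v) (by rw [← hvo, pow_orderOf_eq_one]) Q' (fun n hn =>
    hv ▸ (Subgroup.mem_normalizer_iff.1 x'.2 n).1 hn)
  have h2 : Nat.card (Q' ⊓ centralizer ({v} : Set G) : Subgroup G) ∣ 4 := by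
    rw [← hQ'c]; exact Subgroup.card_dvd_of_le inf_le_left
  have h3 : Nat.card (Q' ⊓ centralizer ({v} : Set G) : Subgroup G) ∣ 21 := by
    rw [← hCv]; exact Subgroup.card_dvd_of_le inf_le_right
  have h4 : Nat.card (Q' ⊓ centralizer ({v} : Set G) : Subgroup G) ∣ Nat.gcd 4 21 := Nat.dvd_gcd h2 h3
  have h5 : Nat.card (Q' ⊓ centralizer ({v} : Set G) : Subgroup G) = 1 := Nat.dvd_one.1 h4
  rw [h5, hQ'c] at h1
  revert h1; decide

theorem no_seven_eight (hG : Nat.card G ∣ 336) {x w : G} (hx : orderOf x = 7) (hw : orderOf w = 8)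
    (hN : Nat.card (normalizer (zpowers x : Set G)) ∣ 21) : False := by
  have h7f : Fact (Nat.Prime 7) := ⟨by norm_num⟩
  have h49 : ¬ 7 ^ 2 ∣ Nat.card G := fun h => by
    have := h.trans hG
    revert this; norm_num
  have h1 := card_norm_mul_index x
  have h2 := index_norm_modEq (p := 7) (k := 1) (by rw [pow_one, hx]) h49
  have h3 : 7 ∣ Nat.card (normalizer (zpowers x : Set G)) := by
    rw [← hx]; exact orderOf_dvd_card_of_mem (Subgroup.le_normalizer (mem_zpowers x))
  have h8 : 8 ∣ Nat.card G := by rw [← hw]; exact orderOf_dvd_natCard w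
  have hcase : Nat.card G = 2 ^ 3 * 7 ∨ Nat.card G = 2 ^ 3 * 21 := by
    have key : ∀ n ∈ Nat.divisors 336, 8 ∣ n → ∀ a ∈ Nat.divisors 21, 7 ∣ a → a ∣ n → n / a ≡ 1 [MOD 7] →
        n = 2 ^ 3 * 7 ∨ n = 2 ^ 3 * 21 := by decide
    refine key _ (Nat.mem_divisors.2 ⟨hG, by norm_num⟩) h8 _ (Nat.mem_divisors.2 ⟨hN, by norm_num⟩) h3 ⟨_, h1.symm⟩ ?_
    rw [← h1, Nat.mul_div_cancel_left _ Nat.card_pos]
    exact h2
  have hfin : ∀ m : ℕ, ¬ 2 ∣ m → Nat.card G = 2 ^ 3 * m → (m = 7 ∨ m = 21) → False := by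
    intro m hm2 hGm hm
    obtain ⟨K, hK, hKc⟩ := burnside_two (G := G) (w := w) (k := 3) (m := m) (by norm_num) (by rw [hw]; rfl) hm2 hGm
    obtain ⟨P, hP, hPc⟩ : ∃ P : Subgroup K, P.Normal ∧ Nat.card P = 7 ^ 1 := by
      rcases hm with rfl | rfl
      · exact exists_normal_sylow (G := K) (p := 7) (k := 1) (m := 1) (by rw [hKc]; rfl) (by norm_num)
          (fun n hn _ => Nat.dvd_one.1 hn)
      · refine exists_normal_sylow (G := K) (p := 7) (k := 1) (m := 3) (by rw [hKc]; rfl) (by norm_num) ?_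
        intro n hn h1
        have : n ≤ 3 := Nat.le_of_dvd (by norm_num) hn
        interval_cases n <;> first | rfl | (exfalso; revert h1; decide)
    have hKG : Nat.card K * 2 ^ 3 = Nat.card G := by rw [hKc, hGm, mul_comm]
    have hmP : ∀ v : G, orderOf v = 7 → ∃ hv : v ∈ K, (⟨v, hv⟩ : K) ∈ P := by
      intro v hv
      have hvK : v ∈ K := mem_normal_of_coprime hK hKG (by rw [hv]; decide)
      refine ⟨hvK, ?_⟩
      rcases hm with rfl | rfl
      · exact mem_normal_of_coprime hP (k := 1) (by rw [hPc, hKc]; rfl) (by rw [Subgroup.orderOf_mk, hv]; decide)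
      · exact mem_normal_of_coprime hP (k := 3) (by rw [hPc, hKc]; rfl) (by rw [Subgroup.orderOf_mk, hv]; decide)
    obtain ⟨hxK, hxP⟩ := hmP x hx
    have hPz : P = zpowers (⟨x, hxK⟩ : K) := by
      symm
      refine Subgroup.eq_of_le_of_card_ge (zpowers_le.2 hxP) ?_
      rw [hPc, Nat.card_zpowers, Subgroup.orderOf_mk, hx]; norm_num
    have htop : ∀ g : G, g ∈ normalizer (zpowers x : Set G) := by
      intro g
      apply mem_normalizer_of
      obtain ⟨hgK, hgP⟩ := hmP (g * x * g⁻¹) (by rw [orderOf_conj, hx])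
      rw [hPz] at hgP
      obtain ⟨n, hn⟩ := mem_zpowers_iff.1 hgP
      exact mem_zpowers_iff.2 ⟨n, congrArg Subtype.val hn⟩
    have h5 : normalizer (zpowers x : Set G) = ⊤ := by
      rw [eq_top_iff]
      intro g _
      exact htop g
    rw [h5, Subgroup.card_top] at hN
    have := h8.trans hN
    revert this; norm_num
  rcases hcase with h | h
  · exact hfin 7 (by norm_num) h (Or.inl rfl)
  · exact hfin 21 (by norm_num) h (Or.inr rfl)

end G

section T

variable {T : Type*} [Group T] [Finite T]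

theorem le_of_27 {P R : Subgroup T} (hP : Nat.card P = 27) (hn : ∀ r ∈ R, ∀ x ∈ P, r * x * r⁻¹ ∈ P) {c u : T}
    (hc : orderOf c = 8) (hcR : c ∈ R) (huR : u ∈ R) (huP : u ∈ P) (hu1 : u ≠ 1)
    (hcu : ∀ g : T, Commute g u → ∃ n, orderOf g = 3 ^ n) (h27 : ¬ 27 ∣ Nat.card (centralizer ({u} : Set T))) :
    P ≤ R := by
  classical
  set N : Subgroup T := R ⊓ P with hN
  have huN : u ∈ N := ⟨huR, huP⟩
  have hconj : ∀ g ∈ zpowers c, g * u * g⁻¹ ∈ N := by
    intro g hg
    have hgR : g ∈ R := (zpowers_le.2 hcR) hg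
    exact ⟨R.mul_mem (R.mul_mem hgR huR) (R.inv_mem hgR), hn g hgR u huP⟩
  let f : Option (zpowers c) → N := fun o => match o with
    | none => 1
    | some g => ⟨g * u * (g : T)⁻¹, hconj g g.2⟩
  have hinj : Function.Injective f := by
    have h0 : ∀ g : zpowers c, f (some g) ≠ f none := by
      intro g h
      have h1 : (g : T) * u * (g : T)⁻¹ = 1 := congrArg Subtype.val h
      exact hu1 (conj_eq_one_iff.1 h1)
    intro a b hab
    match a, b, hab with
    | none, none, _ => rfl
    | none, some g, h => exact absurd h.symm (h0 g)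
    | some g, none, h => exact absurd h (h0 g)
    | some g, some k, h =>
      have h1 : (g : T) * u * (g : T)⁻¹ = k * u * (k : T)⁻¹ := congrArg Subtype.val h
      have h2 : Commute ((k : T)⁻¹ * g) u := by
        show (k : T)⁻¹ * g * u = u * ((k : T)⁻¹ * g)
        have h3 : (g : T) * u = k * u * (k : T)⁻¹ * g := by rw [← h1]; group
        rw [mul_assoc, h3]; group
      obtain ⟨n, hn'⟩ := hcu _ h2
      have h3 := orderOf_dvd_card_of_mem ((zpowers c).mul_mem ((zpowers c).inv_mem k.2) g.2)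
      rw [Nat.card_zpowers, hc, hn'] at h3
      have h4 : 3 ^ n = 1 := Nat.Coprime.eq_one_of_dvd (Nat.Coprime.pow_left n (by norm_num)) h3
      rw [h4, orderOf_eq_one_iff, inv_mul_eq_one] at hn'
      rw [Subtype.ext hn']
  have h9 : 9 ≤ Nat.card N := by
    have h1 := Nat.card_le_card_of_injective f hinj
    rwa [Finite.card_option, Nat.card_zpowers, hc] at h1
  have hNd : Nat.card N ∣ 27 := by rw [← hP]; exact Subgroup.card_dvd_of_le inf_le_right
  have hNc : Nat.card N = 9 ∨ Nat.card N = 27 := by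
    have key : ∀ n ∈ Nat.divisors 27, 9 ≤ n → n = 9 ∨ n = 27 := by decide
    exact key _ (Nat.mem_divisors.2 ⟨hNd, by norm_num⟩) h9
  rcases hNc with h | h
  · exfalso
    have h3f : Fact (Nat.Prime 3) := ⟨Nat.prime_three⟩
    have hsurj : Function.Surjective f := by
      have h1 : Function.Bijective f := (Nat.bijective_iff_injective_and_card f).2 ⟨hinj, by
        rw [Finite.card_option, Nat.card_zpowers, hc, h]⟩
      exact h1.2
    -- the centre of `P`
    have hPp : IsPGroup 3 P := IsPGroup.of_card (n := 3) (by rw [hP]; rfl)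
    have hnt : Nontrivial P := by
      rw [← Finite.one_lt_card_iff_nontrivial, hP]; norm_num
    have hcn := hPp.center_nontrivial
    obtain ⟨s, hs1⟩ := exists_ne (1 : center P)
    set s' : T := ((s : P) : T) with hs'
    have hs'1 : s' ≠ 1 := by
      intro h1
      apply hs1
      apply Subtype.ext
      apply Subtype.ext
      exact h1
    have hsc : ∀ x ∈ P, x * s' = s' * x := by
      intro x hx
      have h1 := mem_center_iff.1 s.2 ⟨x, hx⟩
      exact congrArg Subtype.val h1
    have hsN : s' ∉ N := by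
      intro hsN
      obtain ⟨o, ho⟩ := hsurj ⟨s', hsN⟩
      match o, ho with
      | none, ho => exact hs'1 (congrArg Subtype.val ho).symm
      | some g, ho =>
        have h1 : (g : T) * u * (g : T)⁻¹ = s' := congrArg Subtype.val ho
        apply h27
        have h2 : Nat.card P ∣ Nat.card (centralizer ({s'} : Set T)) :=
          Subgroup.card_dvd_of_le fun x hx => Subgroup.mem_centralizer_singleton_iff.2 (hsc x hx)
        rw [hP] at h2
        rwa [← h1, card_cent_conj] at h2
    -- `N` is commutative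
    have hNcomm : ∀ a ∈ N, ∀ b ∈ N, a * b = b * a := by
      have h1 : IsMulCommutative N := IsPGroup.isMulCommutative_of_card_eq_prime_sq (p := 3) (by rw [h]; rfl)
      intro a ha b hb
      exact congrArg Subtype.val (h1.is_comm.comm ⟨a, ha⟩ ⟨b, hb⟩)
    apply h27
    set C : Subgroup T := P ⊓ centralizer ({u} : Set T) with hCd
    have hNC : N ≤ C := fun a ha => ⟨ha.2, Subgroup.mem_centralizer_singleton_iff.2 (hNcomm a ha u huN)⟩
    have hsC : s' ∈ C := ⟨(s : P).2, Subgroup.mem_centralizer_singleton_iff.2 (hsc u huP).symm⟩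
    have hC1 : 9 ∣ Nat.card C := by rw [← h]; exact Subgroup.card_dvd_of_le hNC
    have hC2 : Nat.card C ∣ 27 := by rw [← hP]; exact Subgroup.card_dvd_of_le inf_le_left
    have hC3 : Nat.card C ≠ 9 := by
      intro h9'
      have h1 : N = C := Subgroup.eq_of_le_of_card_ge hNC (by rw [h9', h])
      exact hsN (h1 ▸ hsC)
    have key : ∀ n ∈ Nat.divisors 27, 9 ∣ n → n ≠ 9 → n = 27 := by decide
    have h27' := key _ (Nat.mem_divisors.2 ⟨hC2, by norm_num⟩) hC1 hC3
    rw [← h27']
    exact Subgroup.card_dvd_of_le inf_le_right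
  · have h1 : N = P := Subgroup.eq_of_le_of_card_ge inf_le_right (by rw [h, hP])
    rw [← h1]
    exact inf_le_left

theorem le_of_64 {P R : Subgroup T} (hP : Nat.card P = 64) (hn : ∀ r ∈ R, ∀ x ∈ P, r * x * r⁻¹ ∈ P) {c u : T}
    (hc : orderOf c = 15) (hcR : c ∈ R) (huR : u ∈ R) (huP : u ∈ P) (hu : orderOf u = 4)
    (hcu : ∀ g : T, Commute g u → ∃ n, orderOf g = 2 ^ n) (hc5 : ∀ g : T, Commute g (c ^ 5) → g ∈ zpowers c) :
    P ≤ R := by
  classical
  set N : Subgroup T := R ⊓ P with hN
  have huN : u ∈ N := ⟨huR, huP⟩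
  have hconj : ∀ g ∈ zpowers c, g * u * g⁻¹ ∈ N := by
    intro g hg
    have hgR : g ∈ R := (zpowers_le.2 hcR) hg
    exact ⟨R.mul_mem (R.mul_mem hgR huR) (R.inv_mem hgR), hn g hgR u huP⟩
  let f : Option (Option (zpowers c)) → N := fun o => match o with
    | none => 1
    | some none => ⟨u ^ 2, N.pow_mem huN 2⟩
    | some (some g) => ⟨g * u * (g : T)⁻¹, hconj g g.2⟩
  have hinj : Function.Injective f := by
    have ho : ∀ g : zpowers c, orderOf ((g : T) * u * (g : T)⁻¹) = 4 := by
      intro g; rw [orderOf_conj, hu]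
    have hu2 : orderOf (u ^ 2) = 2 := by rw [orderOf_pow, hu]; rfl
    have h0 : ∀ g : zpowers c, f (some (some g)) ≠ f none := by
      intro g h
      have h1 : (g : T) * u * (g : T)⁻¹ = 1 := congrArg Subtype.val h
      have h2 := ho g
      rw [h1, orderOf_one] at h2
      omega
    have h1 : ∀ g : zpowers c, f (some (some g)) ≠ f (some none) := by
      intro g h
      have h1 : (g : T) * u * (g : T)⁻¹ = u ^ 2 := congrArg Subtype.val h
      have h2 := ho g
      rw [h1, hu2] at h2
      omega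
    have h2 : f (some none) ≠ f none := by
      intro h
      have h1 : u ^ 2 = 1 := congrArg Subtype.val h
      rw [h1, orderOf_one] at hu2
      omega
    intro a b hab
    match a, b, hab with
    | none, none, _ => rfl
    | none, some none, h => exact absurd h.symm h2
    | some none, none, h => exact absurd h h2
    | some none, some none, _ => rfl
    | none, some (some g), h => exact absurd h.symm (h0 g)
    | some (some g), none, h => exact absurd h (h0 g)
    | some none, some (some g), h => exact absurd h.symm (h1 g)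
    | some (some g), some none, h => exact absurd h (h1 g)
    | some (some g), some (some k), h =>
      have h1 : (g : T) * u * (g : T)⁻¹ = k * u * (k : T)⁻¹ := congrArg Subtype.val h
      have h2 : Commute ((k : T)⁻¹ * g) u := by
        show (k : T)⁻¹ * g * u = u * ((k : T)⁻¹ * g)
        have h3 : (g : T) * u = k * u * (k : T)⁻¹ * g := by rw [← h1]; group
        rw [mul_assoc, h3]; group
      obtain ⟨n, hn'⟩ := hcu _ h2
      have h3 := orderOf_dvd_card_of_mem ((zpowers c).mul_mem ((zpowers c).inv_mem k.2) g.2)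
      rw [Nat.card_zpowers, hc, hn'] at h3
      have h4 : 2 ^ n = 1 := Nat.Coprime.eq_one_of_dvd (Nat.Coprime.pow_left n (by norm_num)) h3
      rw [h4, orderOf_eq_one_iff, inv_mul_eq_one] at hn'
      rw [Subtype.ext hn']
  have h9 : 17 ≤ Nat.card N := by
    have h1 := Nat.card_le_card_of_injective f hinj
    rwa [Finite.card_option, Finite.card_option, Nat.card_zpowers, hc] at h1
  have hNd : Nat.card N ∣ 64 := by rw [← hP]; exact Subgroup.card_dvd_of_le inf_le_right
  have h3f : Fact (Nat.Prime 3) := ⟨Nat.prime_three⟩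
  have h3 := card_modEq_fix (r := 3) (y := c ^ 5) (by rw [← pow_mul, show 5 * 3 = 15 by norm_num, ← hc, pow_orderOf_eq_one]) N (by
    intro x hx
    exact ⟨R.mul_mem (R.mul_mem (R.pow_mem hcR 5) hx.1) (R.inv_mem (R.pow_mem hcR 5)),
      hn _ (R.pow_mem hcR 5) x hx.2⟩)
  have h4 : Nat.card (N ⊓ centralizer ({c ^ 5} : Set T) : Subgroup T) = 1 := by
    have h5 : Nat.card (N ⊓ centralizer ({c ^ 5} : Set T) : Subgroup T) ∣ 64 :=
      (Subgroup.card_dvd_of_le inf_le_left).trans hNd
    have h6 : Nat.card (N ⊓ centralizer ({c ^ 5} : Set T) : Subgroup T) ∣ 15 := by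
      rw [← hc, ← Nat.card_zpowers]
      exact Subgroup.card_dvd_of_le fun g hg => hc5 g (Subgroup.mem_centralizer_singleton_iff.1 hg.2)
    have h7 : Nat.card (N ⊓ centralizer ({c ^ 5} : Set T) : Subgroup T) ∣ Nat.gcd 64 15 := Nat.dvd_gcd h5 h6
    exact Nat.dvd_one.1 h7
  rw [h4] at h3
  have h64 : Nat.card N = 64 := by
    have key : ∀ n ∈ Nat.divisors 64, 17 ≤ n → n ≡ 1 [MOD 3] → n = 64 := by decide
    exact key _ (Nat.mem_divisors.2 ⟨hNd, by norm_num⟩) h9 h3
  have h1 : N = P := Subgroup.eq_of_le_of_card_ge inf_le_right (by rw [h64, hP])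
  rw [← h1]
  exact inf_le_left

end T

end Cfsg.Agent.H188.Der
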