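import Cfsg.Agent.H320.Der.F2
import Cfsg.Agent.StandardComponent.AltAut
import Cfsg.Agent.CpAut.Psl

/-!
# Automorphism groups without elements of order `9` or `21` (helper188, S3502)

* `NoAut S N` : no automorphism of `S` has order `N`
* `noAut_alt_nine` : `A₇`, `A₈` and `N = 9`
* `noAut_alt_twentyone` : `A₉` and `N = 21`
* `noAut_psl34`, `noAut_psl42` : `L₃(4)`, `L₄(2)` and `N = 9`
-/

set_option autoImplicit false
set_option linter.unusedSectionVars false

namespace Cfsg.Agent.H188.Der.AutNo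

open Module Cfsg Matrix
open Cfsg.Agent.H951 (fx cm Inv)
open Cfsg.Agent.ClassicalGeometry.AutPSL.Root Cfsg.Agent.ClassicalGeometry.AutPSL.Auto
  Cfsg.Agent.ClassicalGeometry.AutPSL.Main Cfsg.Agent.CpAut.Psl
open scoped MatrixGroups

universe u v

/-- no automorphism of order `N` -/
def NoAut (S : Type*) [Group S] (N : ℕ) : Prop := ∀ φ : MulAut S, orderOf φ ≠ N

theorem NoAut.congr {S S' : Type*} [Group S] [Group S'] {N : ℕ} (e : S ≃* S') (h : NoAut S' N) : NoAut S N :=
  fun φ hφ => h (MulAut.congr e φ) (by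
    rw [← hφ]
    exact orderOf_injective (MulAut.congr e).toMonoidHom (MulAut.congr e).injective φ)

/-- no element of order `N` in a group with a normal subgroup `L` with `C(L) = 1`, `NoAut L N` -/
theorem NoAut.no {G : Type*} [Group G] {N : ℕ} (L : Subgroup G) [L.Normal]
    (hC : Subgroup.centralizer (L : Set G) = ⊥) (h : NoAut L N) (g : G) : orderOf g ≠ N := by
  intro ho
  apply h (MulAut.conjNormal g)
  rw [← ho]
  refine orderOf_injective (MulAut.conjNormal : G →* MulAut L) ?_ g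
  rw [injective_iff_map_eq_one]
  intro a ha
  rw [← Subgroup.mem_bot, ← hC, Subgroup.mem_centralizer_iff]
  intro l hl
  have h2 : (MulAut.conjNormal a ⟨l, hl⟩ : G) = l := by rw [ha]; rfl
  rw [MulAut.conjNormal_apply] at h2
  calc l * a = (a * l * a⁻¹) * a := by rw [h2]
    _ = a * l := by group

theorem no_of_blk {G : Type*} [Group G] [Finite G] {f N : ℕ} (S : Subgroup G) [S.Normal]
    (hC : Subgroup.centralizer (S : Set G) = ⊥) (hN : N.Coprime (8 * f)) (h : H938.Sax.Blk S f N) (g : G) :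
    orderOf g ≠ N := by
  obtain ⟨c, h1, h2, h3⟩ := h
  intro ho
  have h4 := H938.Sax.mem_of_coprime S hC h2 (hN.coprime_dvd_right h1) ho
  exact h3 ⟨g, h4⟩ (by rw [← ho, ← Subgroup.orderOf_coe])

section Perm

theorem noAut_alt {n N : ℕ} (hn : 7 ≤ n) (h : ∀ σ : Equiv.Perm (Fin n), orderOf σ ≠ N) :
    NoAut (alternatingGroup (Fin n)) N := by
  intro φ hφ
  obtain ⟨ψ, hψ⟩ := Cfsg.Agent.StandardComponent.AltAut.exists_autHom n hn
  apply h (ψ φ)
  rw [← hφ]
  refine orderOf_injective ψ ?_ φ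
  rw [injective_iff_map_eq_one]
  intro e he
  apply MulEquiv.ext
  intro x
  apply Subtype.ext
  rw [hψ, he]
  simp

theorem perm_nine {n : ℕ} (hn : n ≤ 8) (σ : Equiv.Perm (Fin n)) : orderOf σ ≠ 9 := by
  intro h9
  have hle : orderOf σ ∣ 3 := by
    rw [← Equiv.Perm.lcm_cycleType, Multiset.lcm_dvd]
    intro c hc
    have h2 : c ∣ 9 := h9 ▸ Equiv.Perm.dvd_of_mem_cycleType hc
    have h3 : c ≤ n := (Equiv.Perm.le_card_support_of_mem_cycleType hc).trans
      ((Finset.card_le_univ _).trans (by rw [Fintype.card_fin]))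
    have key : ∀ c < 9, c ∣ 9 → c ∣ 3 := by decide
    exact key c (by omega) h2
  rw [h9] at hle
  exact absurd hle (by decide)

theorem perm_twentyone {n : ℕ} (hn : n ≤ 9) (σ : Equiv.Perm (Fin n)) : orderOf σ ≠ 21 := by
  intro h21
  have hle : ∀ c ∈ σ.cycleType, c = 3 ∨ c = 7 := by
    intro c hc
    have h2 : c ∣ 21 := h21 ▸ Equiv.Perm.dvd_of_mem_cycleType hc
    have h3 : c ≤ n := (Equiv.Perm.le_card_support_of_mem_cycleType hc).trans
      ((Finset.card_le_univ _).trans (by rw [Fintype.card_fin]))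
    have h4 := Equiv.Perm.two_le_of_mem_cycleType hc
    have key : ∀ c < 10, c ∣ 21 → 2 ≤ c → c = 3 ∨ c = 7 := by decide
    exact key c (by omega) h2 h4
  have hsum : σ.cycleType.sum ≤ 9 := by
    rw [Equiv.Perm.sum_cycleType]
    exact (Finset.card_le_univ _).trans (by rw [Fintype.card_fin]; exact hn)
  have h7 : 7 ∈ σ.cycleType := by
    by_contra h7
    have h1 : orderOf σ ∣ 3 := by
      rw [← Equiv.Perm.lcm_cycleType, Multiset.lcm_dvd]
      intro c hc
      rcases hle c hc with rfl | rfl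
      · exact dvd_rfl
      · exact absurd hc h7
    rw [h21] at h1
    exact absurd h1 (by decide)
  have h3 : 3 ∈ σ.cycleType := by
    by_contra h3
    have h1 : orderOf σ ∣ 7 := by
      rw [← Equiv.Perm.lcm_cycleType, Multiset.lcm_dvd]
      intro c hc
      rcases hle c hc with rfl | rfl
      · exact absurd hc h3
      · exact dvd_rfl
    rw [h21] at h1
    exact absurd h1 (by decide)
  obtain ⟨s, hs⟩ := Multiset.exists_cons_of_mem h7
  have h3s : 3 ∈ s := by
    rw [hs, Multiset.mem_cons] at h3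
    rcases h3 with h3 | h3
    · omega
    · exact h3
  obtain ⟨t, ht⟩ := Multiset.exists_cons_of_mem h3s
  rw [hs, ht, Multiset.sum_cons, Multiset.sum_cons] at hsum
  omega

theorem noAut_alt_nine {n : ℕ} (hn : 7 ≤ n) (hn8 : n ≤ 8) : NoAut (alternatingGroup (Fin n)) 9 :=
  noAut_alt hn (perm_nine hn8)

theorem noAut_alt_twentyone : NoAut (alternatingGroup (Fin 9)) 21 := noAut_alt (by norm_num) (perm_twentyone le_rfl)

/-- free action of a cyclic group of prime power order -/
theorem perm_dvd {X : Type*} [Fintype X] [DecidableEq X] {p k : ℕ} (hp : p.Prime) (σ : Equiv.Perm X)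
    (h9 : σ ^ p ^ (k + 1) = 1) (h3 : ∀ x, (σ ^ p ^ k) x ≠ x) : p ^ (k + 1) ∣ Fintype.card X := by
  have hsup : σ.support = Finset.univ := by
    ext x
    simp only [Equiv.Perm.mem_support, Finset.mem_univ, iff_true]
    intro h
    exact h3 x (Equiv.Perm.pow_apply_eq_self_of_apply_eq_self h _)
  rw [← Finset.card_univ, ← hsup, ← Equiv.Perm.sum_cycleType]
  apply Multiset.dvd_sum
  intro c hc
  have h1 : c ∣ p ^ (k + 1) := (Equiv.Perm.dvd_of_mem_cycleType hc).trans (orderOf_dvd_of_pow_eq_one h9)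
  obtain ⟨d, τ, hσ, hd, hcyc, hcard⟩ := Equiv.Perm.mem_cycleType_iff.1 hc
  have h4 : ¬ c ∣ p ^ k := by
    intro h
    obtain ⟨x, hx⟩ : d.support.Nonempty := by
      rw [← Finset.card_pos, hcard]
      exact lt_of_lt_of_le two_pos (Equiv.Perm.two_le_of_mem_cycleType hc)
    apply h3 x
    have h8 : τ x = x := (hd x).resolve_left (Equiv.Perm.mem_support.1 hx)
    have h9' : d ^ p ^ k = 1 := by
      apply orderOf_dvd_iff_pow_eq_one.1
      rw [hcyc.orderOf, hcard]
      exact h
    rw [hσ, hd.commute.mul_pow, Equiv.Perm.mul_apply, Equiv.Perm.pow_apply_eq_self_of_apply_eq_self h8, h9']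
    rfl
  obtain ⟨j, hj, rfl⟩ := (Nat.dvd_prime_pow hp).1 h1
  have h5 : k + 1 ≤ j := by
    by_contra hlt
    exact h4 (pow_dvd_pow p (by omega))
  exact pow_dvd_pow p h5

end Perm

section lin

variable {F : Type u} [Field F] [Fintype F] {V : Type v} [AddCommGroup V] [Module F V] [FiniteDimensional F V]
  {y : Module.End F V}

theorem lin_dvd {p k : ℕ} (hp : p.Prime) {W : Submodule F V} (hW : Inv y W) (h9 : y ^ p ^ (k + 1) = 1)
    (h0 : W ⊓ fx (y ^ p ^ k) = ⊥) : p ^ (k + 1) ∣ Nat.card W - 1 := by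
  classical
  have hfin : Finite V := Module.finite_of_finite F
  have hpos : 0 < p ^ (k + 1) := pow_pos hp.pos _
  obtain ⟨m, hm⟩ : ∃ m, p ^ (k + 1) = m + 1 := ⟨p ^ (k + 1) - 1, by omega⟩
  rw [hm] at h9
  have hpow : ∀ n : ℕ, ∀ w ∈ W, (y ^ n) w ∈ W := by
    intro n
    induction n with
    | zero => intro w hw; exact hw
    | succ n ih =>
      intro w hw
      rw [pow_succ, Module.End.mul_apply]
      exact ih _ (hW w hw)
  have h81 : ∀ w : V, (y ^ m) (y w) = w := fun w => by
    rw [← Module.End.mul_apply, ← pow_succ, h9]; rfl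
  have h18 : ∀ w : V, y ((y ^ m) w) = w := fun w => by
    rw [← Module.End.mul_apply, ← pow_succ', h9]; rfl
  let X := {w : V // w ∈ W ∧ w ≠ 0}
  have hfX : Fintype X := Fintype.ofFinite X
  let σ : Equiv.Perm X :=
    { toFun := fun w => ⟨y w.1, hW _ w.2.1, fun h => w.2.2 (by rw [← h81 w.1, h, map_zero])⟩
      invFun := fun w => ⟨(y ^ m) w.1, hpow m _ w.2.1, fun h => w.2.2 (by rw [← h18 w.1, h, map_zero])⟩
      left_inv := fun w => Subtype.ext (h81 w.1)
      right_inv := fun w => Subtype.ext (h18 w.1) }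
  have hσ : ∀ (n : ℕ) (w : X), ((σ ^ n) w).1 = (y ^ n) w.1 := by
    intro n
    induction n with
    | zero => intro w; rfl
    | succ n ih =>
      intro w
      rw [pow_succ, Equiv.Perm.mul_apply, ih, pow_succ, Module.End.mul_apply]
      rfl
  have h1 := perm_dvd (k := k) hp σ (by
    ext w : 1
    apply Subtype.ext
    rw [hσ, hm, h9]
    rfl) (by
    intro w hw
    apply w.2.2
    rw [← Submodule.mem_bot F, ← h0]
    refine ⟨w.2.1, H951.mem_fx.2 ?_⟩
    rw [← hσ, hw])
  have h2 : Fintype.card X = Nat.card W - 1 := by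
    have h3 : Nat.card X = Nat.card {w : W // w ≠ 0} := Nat.card_congr
      { toFun := fun w => ⟨⟨w.1, w.2.1⟩, fun h => w.2.2 (congrArg Subtype.val h)⟩
        invFun := fun w => ⟨w.1.1, w.1.2, fun h => w.2 (Subtype.ext h)⟩
        left_inv := fun _ => rfl
        right_inv := fun _ => rfl }
    have : Fintype W := Fintype.ofFinite W
    rw [← Nat.card_eq_fintype_card, h3, Nat.card_eq_fintype_card, Fintype.card_subtype_compl,
      Fintype.card_subtype_eq, Nat.card_eq_fintype_card]
  rwa [h2] at h1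

/-- elements of `GL₃(4)` whose ninth power is a scalar -/
theorem nine_scalar_four (hF : Fintype.card F = 4) (hd : finrank F V = 3) {r : F} (hr0 : r ≠ 0)
    (h : ∀ v, (y ^ 9) v = r • v) : ∃ s : F, ∀ v, (y ^ 3) v = s • v := by
  have hcard : ∀ W : Submodule F V, Nat.card W = 4 ^ finrank F W := fun W => by
    rw [Module.natCard_eq_pow_finrank (K := F), Nat.card_eq_fintype_card, hF]
  have hle : ∀ W : Submodule F V, finrank F W ≤ 3 := fun W => hd ▸ Submodule.finrank_le W
  have hcube : ∀ a : F, a ≠ 0 → a ^ 3 = 1 := fun a ha => by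
    have := FiniteField.pow_card_sub_one_eq_one a ha
    rwa [hF] at this
  by_cases hr : r = 1
  · subst hr
    have h9 : y ^ 9 = 1 := LinearMap.ext fun v => by rw [h, one_smul]; rfl
    -- the eigenspaces
    have key : ∀ s : F, s ≠ 1 → LinearMap.ker (y ^ 3 - s • (1 : Module.End F V)) = ⊥ ∨
        LinearMap.ker (y ^ 3 - s • (1 : Module.End F V)) = ⊤ := by
      intro s hs
      have hmem : ∀ v, v ∈ LinearMap.ker (y ^ 3 - s • (1 : Module.End F V)) ↔ (y ^ 3) v = s • v := by
        intro v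
        rw [LinearMap.mem_ker, LinearMap.sub_apply, sub_eq_zero, LinearMap.smul_apply, Module.End.one_apply]
      have hW : Inv y (LinearMap.ker (y ^ 3 - s • (1 : Module.End F V))) := by
        intro w hw
        rw [hmem] at hw ⊢
        have h1 : (y ^ 3) (y w) = y ((y ^ 3) w) := by
          rw [← Module.End.mul_apply, ← pow_succ, pow_succ', Module.End.mul_apply]
        rw [h1, hw, map_smul]
      have h1 := lin_dvd (k := 1) Nat.prime_three hW (by exact h9) (by
        rw [eq_bot_iff]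
        rintro v ⟨h2, h3⟩
        rw [SetLike.mem_coe, hmem] at h2
        rw [pow_one, SetLike.mem_coe, H951.mem_fx, h2] at h3
        rw [Submodule.mem_bot]
        have h4 : (s - 1) • v = 0 := by rw [sub_smul, one_smul, h3, sub_self]
        exact (smul_eq_zero.1 h4).resolve_left (sub_ne_zero.2 hs))
      rw [hcard] at h1
      have h5 := hle (LinearMap.ker (y ^ 3 - s • (1 : Module.End F V)))
      have h6 : ∀ n < 4, 3 ^ (1 + 1) ∣ 4 ^ n - 1 → n = 0 ∨ n = 3 := by decide
      rcases h6 _ (by omega) h1 with h7 | h7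
      · exact Or.inl (Submodule.finrank_eq_zero.1 h7)
      · exact Or.inr (Submodule.eq_top_of_finrank_eq (by rw [h7, hd]))
    -- an element different from `0`, `1`
    obtain ⟨s, hs0, hs1⟩ : ∃ s : F, s ≠ 0 ∧ s ≠ 1 := by
      classical
      by_contra hcon
      push Not at hcon
      have h1 : Fintype.card F ≤ 2 := by
        rw [← Finset.card_univ]
        refine (Finset.card_le_card (t := ({0, 1} : Finset F)) ?_).trans Finset.card_le_two
        intro x _
        rw [Finset.mem_insert, Finset.mem_singleton]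
        by_cases hx : x = 0
        · exact Or.inl hx
        · exact Or.inr (hcon x hx)
      omega
    have hs3 := hcube s hs0
    have hq : s ^ 2 + s + 1 = 0 := by
      have h1 : (s - 1) * (s ^ 2 + s + 1) = 0 := by
        have : (s - 1) * (s ^ 2 + s + 1) = s ^ 3 - 1 := by ring
        rw [this, hs3, sub_self]
      exact (mul_eq_zero.1 h1).resolve_left (sub_ne_zero.2 hs1)
    have hs21 : s ^ 2 ≠ 1 := by
      intro h1
      apply hs1
      have : s ^ 3 = s := by rw [pow_succ, h1, one_mul]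
      rw [← this, hs3]
    by_cases ht1 : LinearMap.ker (y ^ 3 - s • (1 : Module.End F V)) = ⊤
    · refine ⟨s, fun v => ?_⟩
      have h1 : v ∈ LinearMap.ker (y ^ 3 - s • (1 : Module.End F V)) := by rw [ht1]; trivial
      rwa [LinearMap.mem_ker, LinearMap.sub_apply, sub_eq_zero, LinearMap.smul_apply, Module.End.one_apply] at h1
    by_cases ht2 : LinearMap.ker (y ^ 3 - s ^ 2 • (1 : Module.End F V)) = ⊤
    · refine ⟨s ^ 2, fun v => ?_⟩
      have h1 : v ∈ LinearMap.ker (y ^ 3 - s ^ 2 • (1 : Module.End F V)) := by rw [ht2]; trivial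
      rwa [LinearMap.mem_ker, LinearMap.sub_apply, sub_eq_zero, LinearMap.smul_apply, Module.End.one_apply] at h1
    have hk1 := LinearMap.ker_eq_bot.1 ((key s hs1).resolve_right ht1)
    have hk2 := LinearMap.ker_eq_bot.1 ((key (s ^ 2) hs21).resolve_right ht2)
    refine ⟨1, fun v => ?_⟩
    rw [one_smul, ← sub_eq_zero]
    have hw : (y ^ 3 - s • (1 : Module.End F V)) ((y ^ 3 - s ^ 2 • (1 : Module.End F V)) ((y ^ 3) v - v)) = 0 := by
      have h1 : (y ^ 3 - s • (1 : Module.End F V)) * (y ^ 3 - s ^ 2 • (1 : Module.End F V)) * (y ^ 3 - 1) =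
          y ^ 9 - 1 := by
        have h2 : (y ^ 3 - s • (1 : Module.End F V)) * (y ^ 3 - s ^ 2 • (1 : Module.End F V)) =
            y ^ 3 * y ^ 3 - (s ^ 2 + s) • y ^ 3 + (s ^ 3) • (1 : Module.End F V) := by
          rw [sub_mul, mul_sub, mul_sub, smul_mul_smul_comm, mul_one, smul_mul_assoc, one_mul, mul_smul_comm, mul_one,
            add_smul, show s * s ^ 2 = s ^ 3 by ring]
          abel
        have h3 : s ^ 2 + s = -1 := by linear_combination hq
        rw [h2, hs3, h3]
        have h4 : y ^ 9 = y ^ 3 * y ^ 3 * y ^ 3 := by rw [← pow_add, ← pow_add]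
        rw [h4, neg_smul, one_smul, one_smul]
        noncomm_ring
      have h5 := congrArg (fun f : Module.End F V => f v) h1
      rw [h9, sub_self] at h5
      exact h5
    have h1 := hk1 (hw.trans (map_zero _).symm)
    exact hk2 (h1.trans (map_zero _).symm)
  · exfalso
    have hr3 := hcube r hr0
    have h27 : y ^ 27 = 1 := by
      apply LinearMap.ext
      intro v
      have h1 : y ^ 27 = y ^ 9 * (y ^ 9 * y ^ 9) := by rw [← pow_add, ← pow_add]
      rw [h1, Module.End.mul_apply, Module.End.mul_apply, h, h, h, smul_smul, smul_smul,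
        show r * r * r = r ^ 3 by ring, hr3, one_smul]
      rfl
    have h1 := lin_dvd (y := y) (k := 2) (W := ⊤) Nat.prime_three (fun w _ => trivial) (by exact h27) (by
      rw [eq_bot_iff]
      rintro v ⟨-, h3⟩
      rw [SetLike.mem_coe, H951.mem_fx] at h3
      have h3' : (y ^ 9) v = v := h3
      rw [h] at h3'
      rw [Submodule.mem_bot]
      have h4 : (r - 1) • v = 0 := by rw [sub_smul, one_smul, h3', sub_self]
      exact (smul_eq_zero.1 h4).resolve_left (sub_ne_zero.2 hr))
    rw [hcard, finrank_top, hd] at h1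
    exact absurd h1 (by decide)

/-- elements of order nine of `GL₄(2)` -/
theorem nine_two (hF : Fintype.card F = 2) (hd : finrank F V ≤ 5) (h9 : y ^ 9 = 1) : y ^ 3 = 1 := by
  by_contra hne
  have hpp := H320.Der.pp3 hF
  have hz : ((3 : ℕ) : F) ≠ 0 := hpp.ne0 (by norm_num)
  have hz3 : (y ^ 3) ^ 3 = 1 := by rw [← pow_mul, h9]
  have hzz : y ^ 3 * y = y * y ^ 3 := by rw [← pow_succ, ← pow_succ']
  have h8 := lin_dvd (y := y) (k := 1) (W := cm (y ^ 3)) Nat.prime_three (H938.Sax.Typ.inv_cm_of_comm hzz)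
    (by exact h9) (by rw [pow_one]; exact H951.inf_fx_of_le_cm hz hz3 le_rfl)
  rw [Module.natCard_eq_pow_finrank (K := F), Nat.card_eq_fintype_card, hF] at h8
  have h6 : ∀ n < 6, 3 ^ (1 + 1) ∣ 2 ^ n - 1 → n = 0 := by decide
  have h7 : finrank F (cm (y ^ 3)) ≤ finrank F V := Submodule.finrank_le _
  exact H884.El.cm_ne_bot hne (Submodule.finrank_eq_zero.1 (h6 _ (by omega) h8))

end lin

section psl

variable {F : Type u} [Field F] [Fintype F] {n : ℕ}

/-- an automorphism `α` with `α ^ 9 = 1` comes from `GL_n(F)` if `|Aut F|` divides `2` -/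
theorem exists_lin (hn : 2 ≤ n) (h2 : ∀ σ : F ≃+* F, σ ^ 2 = 1) {α : MulAut (Matrix.ProjectiveSpecialLinearGroup (Fin n) F)}
    (hα : α ^ 9 = 1) : ∃ A : GL (Fin n) F, α = lift (cj A) ∧ ∃ r : F, scalar (Fin n) r = ((A ^ 9 : GL (Fin n) F) :
      Matrix (Fin n) (Fin n) F) := by
  have : Nontrivial (Fin n) := Fin.nontrivial_iff_two_le.2 hn
  obtain ⟨A, σ, hA⟩ := exists_of_odd hn (by decide : Odd 9) hα
  obtain ⟨D, hD, -⟩ := exists_pow A σ 9
  have h1 : lift (cj D * fld (σ ^ 9)) = lift (fld (1 : F ≃+* F)) := by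
    rw [← hD, map_pow, ← hA, hα, map_one, map_one]
  obtain ⟨-, h3⟩ := injective_aux h1
  have hσ : σ = 1 := by
    have h4 : σ ^ 9 = (σ ^ 2) ^ 4 * σ := by rw [← pow_mul, ← pow_succ]
    rwa [h4, h2, one_pow, one_mul] at h3
  subst hσ
  rw [map_one, mul_one] at hA
  refine ⟨A, hA, ?_⟩
  have h5 : lift (cj (A ^ 9) * fld (1 : F ≃+* F)) = lift (fld (1 : F ≃+* F)) := by
    rw [map_one, mul_one, map_pow, map_pow, ← hA, hα, map_one]
  exact (injective_aux h5).1

theorem noAut_of {hn : 2 ≤ n} (h2 : ∀ σ : F ≃+* F, σ ^ 2 = 1)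
    (h : ∀ A : GL (Fin n) F, ∀ r : F, scalar (Fin n) r = ((A ^ 9 : GL (Fin n) F) : Matrix (Fin n) (Fin n) F) →
      ∃ s : F, scalar (Fin n) s = ((A ^ 3 : GL (Fin n) F) : Matrix (Fin n) (Fin n) F)) :
    NoAut (Matrix.ProjectiveSpecialLinearGroup (Fin n) F) 9 := by
  intro α hα
  obtain ⟨A, hA, r, hr⟩ := exists_lin hn h2 (α := α) (by rw [← hα, pow_orderOf_eq_one])
  obtain ⟨s, hs⟩ := h A r hr
  have h3 : α ^ 3 = 1 := by rw [hA, ← map_pow, ← map_pow, cj_eq_one_of_scalar hs, map_one]
  have h4 := orderOf_dvd_of_pow_eq_one h3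
  rw [hα] at h4
  exact absurd h4 (by decide)

theorem toLin_pow (A : GL (Fin n) F) (k : ℕ) (v : Fin n → F) :
    ((Matrix.toLin' (A : Matrix (Fin n) (Fin n) F)) ^ k) v = ((A ^ k : GL (Fin n) F) : Matrix (Fin n) (Fin n) F) *ᵥ v := by
  rw [← Matrix.toLin'_pow, Matrix.toLin'_apply, Units.val_pow_eq_pow_val]

theorem scalar_of_mulVec {C : GL (Fin n) F} {r : F} (h : ∀ v, (C : Matrix (Fin n) (Fin n) F) *ᵥ v = r • v) :
    scalar (Fin n) r = (C : Matrix (Fin n) (Fin n) F) := by
  apply Matrix.toLin'.injective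
  apply LinearMap.ext
  intro v
  rw [Matrix.toLin'_apply, Matrix.toLin'_apply, h]
  funext i
  simp [Matrix.scalar_apply, mulVec_diagonal]

theorem noAut_psl34 (hF : Fintype.card F = 4) : NoAut (Matrix.ProjectiveSpecialLinearGroup (Fin 3) F) 9 := by
  have hp : Fact (Nat.Prime 2) := ⟨Nat.prime_two⟩
  have : CharP F 2 := charP_of_card_eq_prime_pow (f := 2) (by rw [hF]; norm_num)
  have hc : Nat.card (F ≃+* F) = 2 := Cfsg.Agent.Lib.FieldAutCard.card_ringAut (p := 2) (f := 2) (by norm_num)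
    (by rw [hF]; norm_num)
  refine noAut_of (hn := by norm_num) (fun σ => ?_) fun A r hr => ?_
  · rw [← hc]
    exact pow_card_eq_one'
  · have hr0 := scalar_ne_zero hr
    obtain ⟨s, hs⟩ := nine_scalar_four (y := Matrix.toLin' (A : Matrix (Fin 3) (Fin 3) F)) hF (by simp) hr0
      (fun v => by rw [toLin_pow, scalar_apply_eq hr])
    exact ⟨s, scalar_of_mulVec fun v => by rw [← toLin_pow, hs]⟩

theorem noAut_psl42 (hF : Fintype.card F = 2) : NoAut (Matrix.ProjectiveSpecialLinearGroup (Fin 4) F) 9 := by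
  have hp : Fact (Nat.Prime 2) := ⟨Nat.prime_two⟩
  have : CharP F 2 := charP_of_card_eq_prime_pow (f := 1) (by rw [hF]; norm_num)
  have hc : Nat.card (F ≃+* F) = 1 := Cfsg.Agent.Lib.FieldAutCard.card_ringAut (p := 2) (f := 1) (by norm_num)
    (by rw [hF]; norm_num)
  refine noAut_of (hn := by norm_num) (fun σ => ?_) fun A r hr => ?_
  · have : Subsingleton (F ≃+* F) := (Nat.card_eq_one_iff_unique.1 hc).1
    exact Subsingleton.elim _ _
  · have hr0 := scalar_ne_zero hr
    have hr1 : r = 1 := by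
      have h1 := FiniteField.pow_card_sub_one_eq_one r hr0
      rw [hF] at h1
      simpa using h1
    subst hr1
    have h1 : (Matrix.toLin' (A : Matrix (Fin 4) (Fin 4) F)) ^ 3 = 1 := by
      refine nine_two hF (by simp) ?_
      apply LinearMap.ext
      intro v
      rw [toLin_pow, scalar_apply_eq hr, one_smul]
      rfl
    exact ⟨1, scalar_of_mulVec fun v => by rw [← toLin_pow, h1, one_smul]; rfl⟩

end psl

end Cfsg.Agent.H188.Der.AutNo
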