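import Cfsg.Agent.H188.Der.GeoB

/-!
# Elements of `PSU₃(q)` (helper188, task 2988)
-/

set_option autoImplicit false

namespace Cfsg.Agent.H188.Der

open Cfsg Cfsg.Geo Cfsg.Agent.H439.Der Cfsg.Agent.H918 Module Subgroup Cfsg.Agent.H322.Der
  Cfsg.Agent.ClassicalGeometry.PSUAutBasic Cfsg.Agent.LieClassical.HermSiegel
  Cfsg.Agent.LieClassical.HermBasic Cfsg.Agent.LieClassical.SUBasic
open scoped MatrixGroups Matrix

variable {F : Type*} [Field F] [Fintype F] {q : ℕ}

theorem tor_pow_iff (hF : Fintype.card F = q ^ 2) {a : F} (ha : a ^ (q + 1) = 1) (k : ℕ) :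
    pr 3 F q (tor q a ha) ^ k = 1 ↔ a ^ k = 1 := by
  have ha0 := ne_zero_of_norm ha
  have hpow : mat (tor q a ha ^ k) = Matrix.diagonal ![1, a ^ k, (a⁻¹) ^ k] := by
    have h1 : mat (tor q a ha ^ k) = mat (tor q a ha) ^ k := by
      induction k with
      | zero => rw [pow_zero, pow_zero, mat_one]
      | succ k ih => rw [pow_succ, pow_succ, mat_mul, ih]
    rw [h1]
    show (Matrix.diagonal ![1, a, a⁻¹]) ^ k = _
    rw [Matrix.diagonal_pow]
    congr 1
    funext i
    fin_cases i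
    · show (1 : F) ^ k = 1
      exact one_pow k
    · rfl
    · rfl
  rw [← map_pow, pr_eq_one_iff]
  constructor
  · intro h
    obtain ⟨c, hc0, -, hc⟩ := exists_scalar_of_mem_center hF le_rfl h
    have h5 := congrFun (hc (Pi.single 0 1)) 0
    have h6 := congrFun (hc (Pi.single 1 1)) 1
    rw [act_def, hpow, Matrix.mulVec_diagonal] at h5 h6
    simp at h5 h6
    rw [h6, ← h5]
  · intro h
    refine mem_center_of_act (c := 1) fun v => ?_
    rw [act_def, hpow, inv_pow, h, inv_one]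
    funext i
    rw [Matrix.mulVec_diagonal]
    fin_cases i <;> rfl

theorem orderOf_tor (hF : Fintype.card F = q ^ 2) {a : F} (ha : a ^ (q + 1) = 1) :
    orderOf (pr 3 F q (tor q a ha)) = orderOf a := by
  apply Nat.dvd_antisymm
  · exact orderOf_dvd_of_pow_eq_one ((tor_pow_iff hF ha _).2 (pow_orderOf_eq_one a))
  · exact orderOf_dvd_of_pow_eq_one ((tor_pow_iff hF ha _).1 (pow_orderOf_eq_one _))

omit [Fintype F] in
theorem orderOf_gen {a : F} {n : ℕ} (ha : a ^ n = 1) (hgen : ∀ k : ℕ, a ^ k = 1 → n ∣ k) : orderOf a = n :=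
  Nat.dvd_antisymm (orderOf_dvd_of_pow_eq_one ha) (hgen _ (pow_orderOf_eq_one a))

omit [Fintype F] in
/-- a regular torus element of order `q + 1`, and its power -/
theorem reg_of_order {a : F} (h : 2 < orderOf a) : a ≠ 1 ∧ a⁻¹ ≠ 1 ∧ a ≠ a⁻¹ := by
  have h1 : a ≠ 1 := by
    rintro rfl
    rw [orderOf_one] at h
    omega
  refine ⟨h1, fun h2 => h1 (inv_eq_one.1 h2), fun h2 => ?_⟩
  have h3 : a ^ 2 = 1 := by
    have h0 : a ≠ 0 := by
      rintro rfl
      rw [orderOf_eq_zero_iff'.2 (fun n hn => by rw [zero_pow hn.ne']; exact zero_ne_one)] at h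
      omega
    rw [pow_two]
    nth_rewrite 2 [h2]
    exact mul_inv_cancel₀ h0
  have := Nat.le_of_dvd (by norm_num) (orderOf_dvd_of_pow_eq_one h3)
  omega

/-- an element of order `p (q + 1) / d` -/
theorem exists_order_mul (p : ℕ) [hp : Fact p.Prime] [CharP F p] (hF : Fintype.card F = q ^ 2) (hq : 1 < q)
    (hpq : ¬ p ∣ q + 1) : ∃ x : PSU 3 F q, orderOf x = p * ((q + 1) / Nat.gcd 3 (q + 1)) := by
  have hfin : Finite (PSU 3 F q) := Quotient.finite _
  obtain ⟨a, ha, hgen⟩ := exists_gen hF hq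
  have ho := orderOf_zel hF ha hgen
  obtain ⟨y, hy⟩ := exists_norm_eq hF (c := (-1 : F)) (by rw [neg_pow_q hF, one_pow])
  set v : Fin 3 → F := ![0, 1, y] with hv
  have hv0 : v ≠ 0 := by
    intro h
    have := congrFun h 1
    exact one_ne_zero this
  have hvv : hermForm 3 F q v v = 0 := by
    rw [herm_def, Fin.sum_univ_three]
    show 0 * 0 ^ q + 1 * 1 ^ q + y * y ^ q = (0 : F)
    rw [hy, one_pow]; ring
  have hact : act (zel q a ha) v = a • v := by
    rw [act_zel]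
    show a • v + (((a⁻¹) ^ 2 - a) * 0) • (Pi.single 0 1 : Fin 3 → F) = a • v
    rw [mul_zero, zero_smul, add_zero]
  have hpow : pr 3 F q (zel q a ha) ^ (q + 1) = 1 := by
    rw [← orderOf_dvd_iff_pow_eq_one, ho]
    exact Nat.div_dvd_of_dvd (Nat.gcd_dvd_right _ _)
  obtain ⟨g, hg, hgc⟩ := exists_commute_of_iso (p := p) hF hpow hv0 hvv hact
  refine ⟨g * pr 3 F q (zel q a ha), ?_⟩
  rw [hgc.orderOf_mul_eq_mul_orderOf_of_coprime, hg, ho]
  rw [hg, ho]
  refine (Nat.Prime.coprime_iff_not_dvd hp.out).2 fun h => hpq (h.trans ?_)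
  exact Nat.div_dvd_of_dvd (Nat.gcd_dvd_right _ _)

end Cfsg.Agent.H188.Der
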