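import Cfsg.Agent.H188.Der.Sug

/-!
# Consequences of the rank one facts (helper188, task 2988)
-/

set_option autoImplicit false

namespace Cfsg.Agent.H188.Der

open Cfsg Subgroup Cfsg.Agent.LieRecognition.RankOneAbstract Cfsg.Agent.H439.Der

theorem exists_sylow_of_card {T : Type*} [Group T] [Finite T] {p : ℕ} [hp : Fact p.Prime] {U : Subgroup T} {k : ℕ}
    (hU : Nat.card U = p ^ k) (h2 : ¬ p ^ (k + 1) ∣ Nat.card T) : ∃ P : Sylow p T, (P : Subgroup T) = U := by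
  have h1 : IsPGroup p U := IsPGroup.of_card hU
  obtain ⟨P, hP⟩ := h1.exists_le_sylow
  refine ⟨P, (Subgroup.eq_of_le_of_card_ge hP ?_).symm⟩
  rw [hU, P.card_eq_multiplicity]
  refine Nat.pow_le_pow_right hp.out.pos ?_
  by_contra hlt
  push Not at hlt
  exact h2 ((hp.out.pow_dvd_iff_le_factorization Nat.card_pos.ne').2 hlt)

/-- a `p`-element is conjugate into a Sylow subgroup -/
theorem exists_conj_mem {T : Type*} [Group T] [Finite T] {p : ℕ} [hp : Fact p.Prime] {U : Subgroup T} {k : ℕ}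
    (hU : Nat.card U = p ^ k) (h2 : ¬ p ^ (k + 1) ∣ Nat.card T) {y : T} {n : ℕ} (hy : y ^ p ^ n = 1) :
    ∃ g : T, g⁻¹ * y * g ∈ U := by
  obtain ⟨P, hP⟩ := exists_sylow_of_card hU h2
  have h1 : IsPGroup p (zpowers y) := by
    obtain ⟨m, -, hm⟩ := (Nat.dvd_prime_pow hp.out).1 (orderOf_dvd_of_pow_eq_one hy)
    exact IsPGroup.of_card (n := m) (by rw [Nat.card_zpowers, hm])
  obtain ⟨Q, hQ⟩ := h1.exists_le_sylow
  obtain ⟨g, hg⟩ := MulAction.exists_smul_eq T P Q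
  refine ⟨g, ?_⟩
  have h3 : y ∈ ((g • P : Sylow p T) : Subgroup T) := by rw [hg]; exact hQ (mem_zpowers y)
  obtain ⟨z, hz, hzy⟩ := h3
  have hzy' : g * z * g⁻¹ = y := hzy
  rw [← hzy', ← hP]
  have : g⁻¹ * (g * z * g⁻¹) * g = z := by group
  rw [this]
  exact hz

namespace RO

variable {T : Type*} [Group T] {p q N : ℕ} {B U : Subgroup T} {c w : T} (h : RO T p q N B U c w)
include h

theorem w_inv : w⁻¹ = w := inv_eq_of_mul_eq_one_right h.w2

theorem zB : zpowers c ≤ B := zpowers_le.2 h.cB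

theorem wck (k : ℕ) : w * c ^ k * w⁻¹ = (c ^ (q * k))⁻¹ := by
  rw [← conj_pow, h.wc, inv_pow, ← pow_mul]

theorem w_zp {x : T} (hx : x ∈ zpowers c) : w⁻¹ * x * w ∈ zpowers c := by
  obtain ⟨n, rfl⟩ := mem_zpowers_iff.1 hx
  have h1 : w⁻¹ * c ^ n * w = (w * c * w⁻¹) ^ n := by
    rw [conj_zpow, h.w_inv]
  rw [h1, h.wc]
  exact Subgroup.zpow_mem _ (Subgroup.inv_mem _ (npow_mem_zpowers c q)) n

theorem inter_zp {x : T} (hx : x ∈ U) (hx' : x ∈ zpowers c) : x = 1 :=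
  h.data.inter x hx (h.zB (h.w_zp hx'))

theorem zp_aux {k : ℕ} (hk : ¬ (q - 1) ∣ k) {u : T} (hu : u ∈ U) (h1 : u * c ^ k * u⁻¹ ∈ zpowers c) : u = 1 := by
  have h2 : u * (c ^ k * u⁻¹ * (c ^ k)⁻¹) ∈ U :=
    U.mul_mem hu (h.data.norm _ (B.pow_mem h.cB k) _ (U.inv_mem hu))
  have h3 : u * (c ^ k * u⁻¹ * (c ^ k)⁻¹) ∈ zpowers c := by
    have : u * (c ^ k * u⁻¹ * (c ^ k)⁻¹) = u * c ^ k * u⁻¹ * (c ^ k)⁻¹ := by group
    rw [this]
    exact Subgroup.mul_mem _ h1 (Subgroup.inv_mem _ (npow_mem_zpowers c k))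
  have h4 := h.inter_zp h2 h3
  apply h.fix k hk u hu
  have h5 : u * c ^ k * u⁻¹ * (c ^ k)⁻¹ = 1 := by rw [← h4]; group
  have h6 := mul_inv_eq_one.1 h5
  exact mul_inv_eq_iff_eq_mul.1 h6

theorem mem_B_of_conj {y g : T} (hy : y ∈ U) (hy1 : y ≠ 1) (hg : g⁻¹ * y * g ∈ B) : g ∈ B := by
  by_contra hgB
  obtain ⟨s, hs, hb⟩ := h.data.bruhat g hgB
  obtain ⟨b, hbd⟩ : ∃ b, b = (s * w)⁻¹ * g := ⟨_, rfl⟩
  rw [← hbd] at hb
  have e1 : g = s * w * b := by rw [hbd]; group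
  have h1 : w⁻¹ * (s⁻¹ * y * s) * w = b * (g⁻¹ * y * g) * b⁻¹ := by rw [e1]; group
  have h2 : s⁻¹ * y * s = 1 := by
    apply h.data.inter
    · exact U.mul_mem (U.mul_mem (U.inv_mem hs) hy) hs
    · rw [h1]; exact B.mul_mem (B.mul_mem hb hg) (B.inv_mem hb)
  apply hy1
  have : y = s * (s⁻¹ * y * s) * s⁻¹ := by group
  rw [this, h2]; group

theorem mem_B_of_commute {y g : T} (hy : y ∈ U) (hy1 : y ≠ 1) (hg : Commute g y) : g ∈ B := by
  apply h.mem_B_of_conj hy hy1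
  rw [mul_assoc, ← hg.eq, inv_mul_cancel_left]
  exact h.data.le hy

theorem of_conj {k k' : ℕ} (hk : ¬ (q - 1) ∣ k) (hk' : ¬ (q - 1) ∣ k') {g : T} (hg : g * c ^ k * g⁻¹ = c ^ k') :
    g ∈ zpowers c ∨ ∃ n ∈ zpowers c, g = w * n := by
  by_cases hgB : g ∈ B
  · left
    obtain ⟨u, hu, j, rfl⟩ := h.dec g hgB
    have h1 : u * c ^ j * c ^ k * (u * c ^ j)⁻¹ = u * c ^ k * u⁻¹ := by
      have : c ^ j * c ^ k * (c ^ j)⁻¹ = c ^ k := by rw [← pow_add, add_comm, pow_add, mul_inv_cancel_right]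
      calc u * c ^ j * c ^ k * (u * c ^ j)⁻¹ = u * (c ^ j * c ^ k * (c ^ j)⁻¹) * u⁻¹ := by group
        _ = u * c ^ k * u⁻¹ := by rw [this]
    rw [h1] at hg
    have h2 := h.zp_aux hk hu (by rw [hg]; exact npow_mem_zpowers c k')
    rw [h2, one_mul]
    exact npow_mem_zpowers c j
  · right
    obtain ⟨s, hs, hb⟩ := h.data.bruhat g hgB
    obtain ⟨b, hbd⟩ : ∃ b, b = (s * w)⁻¹ * g := ⟨_, rfl⟩
    rw [← hbd] at hb
    have e1 : g = s * w * b := by rw [hbd]; group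
    have h1 : w⁻¹ * (s⁻¹ * c ^ k' * s) * w = b * c ^ k * b⁻¹ := by rw [← hg, e1]; group
    have h2 : s⁻¹ * c ^ k' * s ∈ zpowers c := by
      apply h.mem
      · exact B.mul_mem (B.mul_mem (B.inv_mem (h.data.le hs)) (B.pow_mem h.cB k')) (h.data.le hs)
      · rw [h1]; exact B.mul_mem (B.mul_mem hb (B.pow_mem h.cB k)) (B.inv_mem hb)
    have h3 := h.zp_aux hk' (U.inv_mem hs) (by rw [inv_inv]; exact h2)
    rw [inv_eq_one] at h3
    rw [h3, one_mul] at e1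
    rw [h3] at h1
    have h4 : b * c ^ k * b⁻¹ ∈ zpowers c := by
      rw [← h1]
      apply h.w_zp
      rw [inv_one, one_mul, mul_one]
      exact npow_mem_zpowers c k'
    obtain ⟨u, hu, j, rfl⟩ := h.dec b hb
    have h5 : u * c ^ j * c ^ k * (u * c ^ j)⁻¹ = u * c ^ k * u⁻¹ := by
      have : c ^ j * c ^ k * (c ^ j)⁻¹ = c ^ k := by rw [← pow_add, add_comm, pow_add, mul_inv_cancel_right]
      calc u * c ^ j * c ^ k * (u * c ^ j)⁻¹ = u * (c ^ j * c ^ k * (c ^ j)⁻¹) * u⁻¹ := by group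
        _ = u * c ^ k * u⁻¹ := by rw [this]
    rw [h5] at h4
    have h6 := h.zp_aux hk hu h4
    rw [h6, one_mul] at e1
    exact ⟨c ^ j, npow_mem_zpowers c j, e1⟩

theorem cent {k : ℕ} (hk : ¬ (q - 1) ∣ k) (hk2 : c ^ (k * (q + 1)) ≠ 1) {g : T} (hg : Commute g (c ^ k)) :
    g ∈ zpowers c := by
  have h1 : g * c ^ k * g⁻¹ = c ^ k := by rw [hg.eq, mul_inv_cancel_right]
  rcases h.of_conj hk hk h1 with h2 | ⟨n, hn, rfl⟩
  · exact h2
  · exfalso
    obtain ⟨m, rfl⟩ := mem_zpowers_iff.1 hn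
    have h3 : w * c ^ m * c ^ k * (w * c ^ m)⁻¹ = w * c ^ k * w⁻¹ := by
      have : c ^ m * c ^ k * (c ^ m)⁻¹ = c ^ k := by
        rw [((Commute.refl c).zpow_left m).pow_right k |>.eq, mul_inv_cancel_right]
      calc w * c ^ m * c ^ k * (w * c ^ m)⁻¹ = w * (c ^ m * c ^ k * (c ^ m)⁻¹) * w⁻¹ := by group
        _ = w * c ^ k * w⁻¹ := by rw [this]
    rw [h3, h.wck] at h1
    apply hk2
    have h4 : c ^ k * c ^ (q * k) = 1 := by rw [← h1, inv_mul_cancel]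
    rw [← pow_add] at h4
    rw [← h4]
    congr 1
    ring

theorem B_ne_top : B ≠ ⊤ := by
  intro h1
  exact h.data.w_not_mem (by rw [h1]; trivial)

theorem orderOf_of_mem [hp : Fact p.Prime] {g : T} (hg : g ∈ U) : ∃ n, orderOf g = p ^ n := by
  obtain ⟨k, hk⟩ := h.pU ⟨g, hg⟩
  have h1 : g ^ p ^ k = 1 := congrArg Subtype.val hk
  obtain ⟨n, -, hn⟩ := (Nat.dvd_prime_pow hp.out).1 (orderOf_dvd_of_pow_eq_one h1)
  exact ⟨n, hn⟩

/-- the condition on the centraliser is transported by automorphisms -/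
theorem reg_transport [hp : Fact p.Prime] {u : T} (hu : ∀ g, Commute g u → g ∈ U) (φ : T ≃* T) (g : T)
    (hg : Commute g (φ u)) : ∃ n, orderOf g = p ^ n := by
  have h1 := hg.map φ.symm
  rw [MulEquiv.symm_apply_apply] at h1
  obtain ⟨n, hn⟩ := h.orderOf_of_mem (hu _ h1)
  exact ⟨n, by rw [← hn, MulEquiv.orderOf_eq]⟩

variable [Finite T]

theorem card_B : Nat.card B * (q ^ 3 + 1) = Nat.card T := by
  rw [← h.cardU, ← h.data.index]
  exact B.card_mul_index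

/-- elements of `M` moving a `p`-element of `M` to commuting ones -/
theorem eq_conj_B [hp : Fact p.Prime] {k : ℕ} (hq : q ^ 3 = p ^ k) (h2 : ¬ p ^ (k + 1) ∣ Nat.card T)
    {M : Subgroup T} (hM : IsCoatom M) {y : T} {n : ℕ} (hy : y ^ p ^ n = 1) (hy1 : y ≠ 1)
    (hm : ∀ m ∈ M, Commute (m * y * m⁻¹) y) : ∃ g : T, M.comap (MulAut.conj g).toMonoidHom = B := by
  obtain ⟨g, hg⟩ := exists_conj_mem (h.cardU.trans hq) h2 hy
  refine ⟨g, ?_⟩
  have hg1 : g⁻¹ * y * g ≠ 1 := by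
    intro h1
    apply hy1
    have : y = g * (g⁻¹ * y * g) * g⁻¹ := by group
    rw [this, h1]; group
  have hle : M.comap (MulAut.conj g).toMonoidHom ≤ B := by
    intro x hx
    have hx' : g * x * g⁻¹ ∈ M := hx
    have h3 := hm _ hx'
    -- `x y₀ x⁻¹` commutes with `y₀`
    have h4 : Commute (x * (g⁻¹ * y * g) * x⁻¹) (g⁻¹ * y * g) := by
      have h5 := h3.map (MulAut.conj g⁻¹).toMonoidHom
      have e1 : (MulAut.conj g⁻¹).toMonoidHom (g * x * g⁻¹ * y * (g * x * g⁻¹)⁻¹) = x * (g⁻¹ * y * g) * x⁻¹ := by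
        show g⁻¹ * (g * x * g⁻¹ * y * (g * x * g⁻¹)⁻¹) * g⁻¹⁻¹ = _
        group
      have e2 : (MulAut.conj g⁻¹).toMonoidHom y = g⁻¹ * y * g := by
        show g⁻¹ * y * g⁻¹⁻¹ = _
        rw [inv_inv]
      rwa [e1, e2] at h5
    have h5 := h.mem_B_of_commute hg hg1 h4
    have h6 := h.mem_B_of_conj (g := x⁻¹) hg hg1 (by rw [inv_inv]; exact h5)
    simpa using B.inv_mem h6
  have hco := Cfsg.Agent.H278.El.isCoatom_comap (MulAut.conj g) hM
  rcases hco.le_iff.1 hle with h3 | h3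
  · exact absurd h3 h.B_ne_top
  · exact h3.symm

/-- the centralisers of elements of order `p` -/
theorem card_cent_dvd [hp : Fact p.Prime] {k : ℕ} (hq : q ^ 3 = p ^ k) (h2 : ¬ p ^ (k + 1) ∣ Nat.card T)
    {y : T} {n : ℕ} (hy : y ^ p ^ n = 1) (hy1 : y ≠ 1) :
    Nat.card (centralizer ({y} : Set T)) ∣ Nat.card B := by
  obtain ⟨g, hg⟩ := exists_conj_mem (h.cardU.trans hq) h2 hy
  have hg1 : g⁻¹ * y * g ≠ 1 := by
    intro h1
    apply hy1
    have : y = g * (g⁻¹ * y * g) * g⁻¹ := by group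
    rw [this, h1]; group
  have h3 : Nat.card (centralizer ({g⁻¹ * y * g} : Set T)) = Nat.card (centralizer ({y} : Set T)) := by
    have := card_cent_conj g⁻¹ y
    rwa [inv_inv] at this
  rw [← h3]
  exact Subgroup.card_dvd_of_le fun x hx =>
    h.mem_B_of_commute hg hg1 (Subgroup.mem_centralizer_singleton_iff.1 hx)

end RO

end Cfsg.Agent.H188.Der
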