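import Cfsg.Agent.H322.Der.UThree
import Cfsg.Agent.H950.MCCls
import Cfsg.Agent.S0279
import Cfsg.Agent.H188.Der.Ro

/-!
# The geometric maximal subgroups of `PSU₃(q)` (helper188, task 2988)
-/

set_option autoImplicit false

namespace Cfsg.Agent.H188.Der

open Cfsg Cfsg.Geo Cfsg.Agent.H439.Der Cfsg.Agent.H918 Module Subgroup Cfsg.Agent.H322.Der
  Cfsg.Agent.ClassicalGeometry.PSUAutBasic Cfsg.Agent.LieClassical.HermSiegel
  Cfsg.Agent.LieClassical.HermBasic Cfsg.Agent.LieClassical.SUBasic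
open scoped MatrixGroups Matrix

section Borel

variable {F : Type*} [Field F] [Fintype F] {q : ℕ}

omit [Fintype F] in
/-- an eigenvector from an invariant line -/
theorem exists_eigen {m : SU 3 F q} {W : Submodule F (Fin 3 → F)} (hf1 : finrank F W = 1)
    (hm : suHom 3 F q m ∈ subspaceStabilizer W) {w : Fin 3 → F} (hwW : w ∈ W) (hw0 : w ≠ 0) :
    ∃ b : F, act m w = b • w := by
  have hmw : act m w ∈ W := (hm w).1 hwW
  obtain ⟨b, hb⟩ := (finrank_eq_one_iff_of_nonzero' (⟨w, hwW⟩ : W) (by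
    intro h1
    exact hw0 (congrArg Subtype.val h1))).1 hf1 ⟨act m w, hmw⟩
  exact ⟨b, (congrArg Subtype.val hb).symm⟩

theorem finrank_one_of_iso (hF : Fintype.card F = q ^ 2) {W : Submodule F (Fin 3 → F)} (hW0 : W ≠ ⊥)
    (hWs : IsTotallySingularFor (hermForm 3 F q) W) : finrank F W = 1 := by
  have hdim : 2 * finrank F W ≤ 3 := Cfsg.Agent.H957.Uni.two_mul_finrank_le hF hWs
  have : finrank F W ≠ 0 := by rw [Ne, Submodule.finrank_eq_zero]; exact hW0
  omega

/-- regular torus elements are missing in the stabiliser of an isotropic point -/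
theorem borel_miss (p : ℕ) [hp : Fact p.Prime] [CharP F p] (hF : Fintype.card F = q ^ 2) {M : Subgroup (PSU 3 F q)} {W : Submodule F (Fin 3 → F)}
    (hW0 : W ≠ ⊥) (hWs : IsTotallySingularFor (hermForm 3 F q) W) (he : pre M = subspaceStabilizer W ⊓ SUg 3 F q)
    {a : F} (ha : a ^ (q + 1) = 1) (ha1 : a ≠ 1) (ha2 : a⁻¹ ≠ 1) (ha3 : a ≠ a⁻¹)
    (φ : PSU 3 F q ≃* PSU 3 F q) : φ (pr 3 F q (tor q a ha)) ∉ M := by
  have hfin : Finite (PSU 3 F q) := Quotient.finite _
  have hyq : pr 3 F q (tor q a ha) ^ (q + 1) = 1 := by rw [← map_pow, tor_pow, map_one]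
  intro hφ
  obtain ⟨m, hm⟩ := pr_surjective (φ (pr 3 F q (tor q a ha)))
  rw [← hm] at hφ
  have hmM : suHom 3 F q m ∈ pre M := mem_pre.2 hφ
  rw [he] at hmM
  have hf1 := finrank_one_of_iso hF hW0 hWs
  obtain ⟨w, hwW, hw0⟩ := W.ne_bot_iff.1 hW0
  obtain ⟨b, hb'⟩ := exists_eigen hf1 hmM.1 hwW hw0
  have hmq : pr 3 F q m ^ (q + 1) = 1 := by rw [hm, ← map_pow, hyq, map_one]
  obtain ⟨g, hg, hgc⟩ := exists_commute_of_iso (p := p) hF hmq hw0 (hWs w hwW w hwW) hb'
  rw [hm] at hgc
  refine no_commute_tor (p := p) hF ha ha1 ha2 ha3 (g := φ.symm g) ?_ ?_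
  · rw [Cfsg.Agent.H938.Sax.orderOf_mulEquiv, hg]
  · have := hgc.map φ.symm
    rwa [MulEquiv.symm_apply_apply] at this

/-- a root element whose conjugates in the stabiliser commute with it -/
theorem borel_comm (p : ℕ) [hp : Fact p.Prime] [CharP F p] (hF : Fintype.card F = q ^ 2) {M : Subgroup (PSU 3 F q)} {W : Submodule F (Fin 3 → F)}
    (hW0 : W ≠ ⊥) (hWs : IsTotallySingularFor (hermForm 3 F q) W) (he : pre M = subspaceStabilizer W ⊓ SUg 3 F q) :
    ∃ y : PSU 3 F q, y ^ p ^ 1 = 1 ∧ y ≠ 1 ∧ ∀ m ∈ M, Commute (m * y * m⁻¹) y := by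
  have hf1 := finrank_one_of_iso hF hW0 hWs
  obtain ⟨w, hwW, hw0⟩ := W.ne_bot_iff.1 hW0
  have hw := hWs w hwW w hwW
  obtain ⟨μ, hμ0, hμ⟩ := exists_trace_zero_ne hF
  set t := transv hF w hw μ hμ with ht
  have htp : ∀ k : ℕ, ∀ v, act (t ^ k) v = v + (k * μ * hermForm 3 F q v w) • w := by
    intro k
    induction k with
    | zero => intro v; simp [act_one]
    | succ k ih =>
      intro v
      rw [pow_succ, act_mul, act_transv, ih, herm_add_left, herm_smul_left, hw]
      rw [mul_zero, add_zero, add_assoc, ← add_smul]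
      congr 2
      push_cast; ring
  have ht1 : t ^ p = 1 := by
    apply ext_act
    intro v
    rw [htp, CharP.cast_eq_zero, zero_mul, zero_mul, zero_smul, add_zero, act_one]
  refine ⟨pr 3 F q t, by rw [pow_one, ← map_pow, ht1, map_one], ?_, ?_⟩
  · intro h
    rw [pr_eq_one_iff] at h
    obtain ⟨e, he0, -, he⟩ := exists_scalar_of_mem_center hF le_rfl h
    have h1 := he w
    rw [act_transv, hw, mul_zero, zero_smul, add_zero] at h1
    have h2 : (1 - e) • w = 0 := by rw [sub_smul, one_smul, ← h1, sub_self]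
    have h3 : e = 1 := (sub_eq_zero.1 ((smul_eq_zero.1 h2).resolve_right hw0)).symm
    obtain ⟨v, hv⟩ := exists_herm_ne_zero hF hw0
    have h4 := he v
    rw [act_transv, h3, one_smul, add_eq_left, smul_eq_zero] at h4
    rcases h4 with h4 | h4
    · rcases mul_eq_zero.1 h4 with h5 | h5
      · exact hμ0 h5
      · exact hv (herm_eq_zero_swap hF h5)
    · exact hw0 h4
  · intro x hx
    obtain ⟨m, rfl⟩ := pr_surjective x
    have hmM : suHom 3 F q m ∈ pre M := mem_pre.2 hx
    rw [he] at hmM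
    obtain ⟨a, ha⟩ := exists_eigen hf1 hmM.1 hwW hw0
    have hcom : (m * t * m⁻¹) * t = t * (m * t * m⁻¹) := by
      have key : ∀ v, act (m * t * m⁻¹) v = v + (μ * (a ^ q * a) * hermForm 3 F q v w) • w := by
        intro v
        have e1 : act m (act m⁻¹ v) = v := by rw [← act_mul, mul_inv_cancel, act_one]
        have e2 : hermForm 3 F q (act m⁻¹ v) w = hermForm 3 F q v (a • w) := by
          rw [← ha, ← herm_act m (act m⁻¹ v) w, e1]
        rw [act_mul, act_mul, act_transv, act_add, act_smul, e1, ha, smul_smul, e2, herm_smul_right]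
        congr 2
        ring
      apply ext_act
      intro v
      rw [act_mul (m * t * m⁻¹) t, act_mul t (m * t * m⁻¹), key, act_transv, act_transv, key, herm_add_left, herm_add_left, herm_smul_left,
        herm_smul_left, hw, mul_zero, mul_zero, add_zero]
      exact add_right_comm _ _ _
    show pr 3 F q m * pr 3 F q t * (pr 3 F q m)⁻¹ * pr 3 F q t = pr 3 F q t * (pr 3 F q m * pr 3 F q t * (pr 3 F q m)⁻¹)
    rw [← map_inv, ← map_mul, ← map_mul, ← map_mul, hcom, map_mul]

end Borel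

section Dec

variable {F : Type*} [Field F] {q : ℕ}

theorem perm_three : ∀ σ : Equiv.Perm (Fin 3), σ ^ 2 = 1 ∨ (σ ^ 3 = 1 ∧ ∀ i : Fin 3, ∃ k : Fin 3, (σ ^ (k : ℕ)) 0 = i) := by
  decide

/-- **frames**: the orders of the elements -/
theorem dec_order {M : Subgroup (PSU 3 F q)} {D : Fin 3 → Submodule F (Fin 3 → F)}
    (hD : IsNondegenerateMDecomposition (hermForm 3 F q) 1 D) (he : pre M ≤ decompositionStabilizer D)
    {g : PSU 3 F q} (hg : g ∈ M) : orderOf g ∣ 3 ∨ orderOf g ∣ 2 * (q + 1) := by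
  obtain ⟨m, rfl⟩ := pr_surjective g
  set x := suHom 3 F q m with hx
  obtain ⟨σ, hσ⟩ := he (mem_pre.2 hg)
  have hact : ∀ k : ℕ, ∀ v, ((x ^ k : GL (Fin 3) F) : Matrix (Fin 3) (Fin 3) F) *ᵥ v = act (m ^ k) v := by
    intro k v
    rw [hx, ← map_pow]
    rfl
  -- a matrix acting by a scalar on all `D i`
  have hall : ∀ (k : ℕ) (c : F), (∀ i, ∀ v ∈ D i, act (m ^ k) v = c • v) → ∀ v, act (m ^ k) v = c • v := by
    intro k c h v
    have h1 : (⊤ : Submodule F (Fin 3 → F)) ≤
        LinearMap.ker (Matrix.toLin' (((x ^ k : GL (Fin 3) F) : Matrix (Fin 3) (Fin 3) F) - c • 1)) := by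
      rw [← hD.decomp.iSup_eq_top, iSup_le_iff]
      intro i u hu
      rw [LinearMap.mem_ker, Matrix.toLin'_apply, Matrix.sub_mulVec, Matrix.smul_mulVec, Matrix.one_mulVec, hact,
        h i u hu, sub_self]
    have h2 := h1 (Submodule.mem_top (x := v))
    rw [LinearMap.mem_ker, Matrix.toLin'_apply, Matrix.sub_mulVec, Matrix.smul_mulVec, Matrix.one_mulVec, hact,
      sub_eq_zero] at h2
    exact h2
  have hmap := pow_map_lines hσ
  rcases perm_three σ with h2 | ⟨h3, htr⟩
  · right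
    have key : ∀ i, ∀ v ∈ D i, act (m ^ (2 * (q + 1))) v = (1 : F) • v := by
      intro i v hv
      by_cases hv0 : v = 0
      · rw [hv0, act_zero, smul_zero]
      have h4 := hmap 2 i
      rw [h2, Equiv.Perm.one_apply] at h4
      have h5 : act (m ^ 2) v ∈ D i := by
        rw [← h4]
        exact ⟨v, hv, by rw [Matrix.toLin'_apply, hact]⟩
      obtain ⟨b, hb⟩ := (finrank_eq_one_iff_of_nonzero' (⟨v, hv⟩ : D i) (by
        intro h1
        exact hv0 (congrArg Subtype.val h1))).1 (hD.decomp.finrank_eq i) ⟨_, h5⟩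
      have hb' : act (m ^ 2) v = b • v := (congrArg Subtype.val hb).symm
      have hvv : hermForm 3 F q v v ≠ 0 := by
        obtain ⟨⟨z, hz, hzw⟩, -⟩ := hD.nondegenerate i v hv hv0
        obtain ⟨d, hd⟩ := (finrank_eq_one_iff_of_nonzero' (⟨v, hv⟩ : D i) (by
          intro h1
          exact hv0 (congrArg Subtype.val h1))).1 (hD.decomp.finrank_eq i) ⟨z, hz⟩
        have hd' : z = d • v := (congrArg Subtype.val hd).symm
        intro h
        apply hzw
        rw [hd', herm_smul_left, h, mul_zero]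
      have hbq : b ^ (q + 1) = 1 := by
        have h6 := herm_act (m ^ 2) v v
        rw [hb', herm_smul_left, herm_smul_right, ← mul_assoc] at h6
        have h7 : (b * b ^ q - 1) * hermForm 3 F q v v = 0 := by linear_combination h6
        rw [pow_succ']
        exact sub_eq_zero.1 ((mul_eq_zero.1 h7).resolve_right hvv)
      have h8 : ∀ k : ℕ, act (m ^ (2 * k)) v = b ^ k • v := by
        intro k
        induction k with
        | zero => rw [mul_zero, pow_zero, act_one, pow_zero, one_smul]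
        | succ k ih => rw [mul_add, mul_one, pow_add, act_mul, hb', act_smul, ih, smul_smul, pow_succ, mul_comm]
      rw [h8, hbq]
    have h9 := hall _ _ key
    have h10 : m ^ (2 * (q + 1)) = 1 := by
      apply ext_act
      intro v
      rw [h9, one_smul, act_one]
    exact orderOf_dvd_of_pow_eq_one (by rw [← map_pow, h10, map_one])
  · left
    obtain ⟨v, hv, hv0⟩ := (D 0).ne_bot_iff.1 (by
      intro h
      have := hD.decomp.finrank_eq 0
      rw [h, finrank_bot] at this
      omega)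
    have h4 := hmap 3 0
    rw [h3, Equiv.Perm.one_apply] at h4
    have h5 : ∀ u ∈ D 0, act (m ^ 3) u ∈ D 0 := by
      intro u hu
      rw [← h4]
      exact ⟨u, hu, by rw [Matrix.toLin'_apply, hact]⟩
    have hgen := (finrank_eq_one_iff_of_nonzero' (⟨v, hv⟩ : D 0) (by
        intro h1
        exact hv0 (congrArg Subtype.val h1))).1 (hD.decomp.finrank_eq 0)
    obtain ⟨b, hb⟩ := hgen ⟨_, h5 v hv⟩
    have hb' : act (m ^ 3) v = b • v := (congrArg Subtype.val hb).symm
    have hD0 : ∀ u ∈ D 0, act (m ^ 3) u = b • u := by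
      intro u hu
      obtain ⟨d, hd⟩ := hgen ⟨u, hu⟩
      have hd' : u = d • v := (congrArg Subtype.val hd).symm
      rw [hd', act_smul, hb', smul_comm]
    have key : ∀ i, ∀ u ∈ D i, act (m ^ 3) u = b • u := by
      intro i u hu
      obtain ⟨k, hk⟩ := htr i
      rw [← hk, ← hmap (k : ℕ) 0] at hu
      obtain ⟨u', hu', rfl⟩ := hu
      rw [Matrix.toLin'_apply, hact, ← act_mul, ← pow_add, add_comm, pow_add, act_mul, hD0 u' hu', act_smul]
    have h9 := hall _ _ key
    have h10 : pr 3 F q (m ^ 3) = 1 := by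
      rw [pr_eq_one_iff]
      exact mem_center_of_act h9
    exact orderOf_dvd_of_pow_eq_one (by rw [← map_pow, h10])

end Dec

end Cfsg.Agent.H188.Der
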