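import Cfsg.Agent.H188.Der.Geo

/-!
# The stabilisers of nonisotropic points in `PSU₃(q)` (helper188, task 2988)
-/

set_option autoImplicit false

namespace Cfsg.Agent.H188.Der

open Cfsg Cfsg.Geo Cfsg.Agent.H439.Der Cfsg.Agent.H918 Module Subgroup Cfsg.Agent.H322.Der
  Cfsg.Agent.ClassicalGeometry.PSUAutBasic Cfsg.Agent.LieClassical.HermSiegel
  Cfsg.Agent.LieClassical.HermBasic Cfsg.Agent.LieClassical.SUBasic
open scoped MatrixGroups Matrix

variable {F : Type*} [Field F] {q : ℕ}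

theorem ne_zero_of_norm {a : F} (ha : a ^ (q + 1) = 1) : a ≠ 0 := by
  rintro rfl
  rw [zero_pow (by omega)] at ha
  exact zero_ne_one ha

/-- `diag(a⁻², a, a)` -/
def zel (q : ℕ) (a : F) (ha : a ^ (q + 1) = 1) : SU 3 F q :=
  suDiag q ![(a⁻¹) ^ 2, a, a] (by
    have h0 := ne_zero_of_norm ha
    rw [Fin.prod_univ_three]
    show (a⁻¹) ^ 2 * a * a = 1
    field_simp) (by
    intro i
    fin_cases i
    · show ((a⁻¹) ^ 2) ^ (q + 1) = 1
      rw [← pow_mul, mul_comm, pow_mul, inv_pow, ha, inv_one, one_pow]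
    · exact ha
    · exact ha)

theorem act_zel {a : F} (ha : a ^ (q + 1) = 1) (v : Fin 3 → F) :
    act (zel q a ha) v = a • v + (((a⁻¹) ^ 2 - a) * v 0) • (Pi.single 0 1 : Fin 3 → F) := by
  have hmat : mat (zel q a ha) = Matrix.diagonal ![(a⁻¹) ^ 2, a, a] := rfl
  rw [act_def, hmat]
  funext i
  rw [Matrix.mulVec_diagonal]
  fin_cases i
  · show (a⁻¹) ^ 2 * v 0 = a * v 0 + ((a⁻¹) ^ 2 - a) * v 0 * (Pi.single 0 1 : Fin 3 → F) 0
    rw [Pi.single_eq_same]; ring
  · show a * v 1 = a * v 1 + ((a⁻¹) ^ 2 - a) * v 0 * (Pi.single 0 1 : Fin 3 → F) 1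
    rw [Pi.single_eq_of_ne (by decide)]; ring
  · show a * v 2 = a * v 2 + ((a⁻¹) ^ 2 - a) * v 0 * (Pi.single 0 1 : Fin 3 → F) 2
    rw [Pi.single_eq_of_ne (by decide)]; ring

theorem herm_single_zero [Fintype F] (hF : Fintype.card F = q ^ 2) (v : Fin 3 → F) :
    hermForm 3 F q v (Pi.single 0 1) = v 0 := by
  rw [herm_single_right hF, one_pow, mul_one]

/-- `zel` commutes with the stabiliser of the first point -/
theorem zel_comm [Fintype F] (hF : Fintype.card F = q ^ 2) {a : F} (ha : a ^ (q + 1) = 1) {m : SU 3 F q} {b : F}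
    (hm : act m (Pi.single 0 1) = b • (Pi.single 0 1 : Fin 3 → F)) : m * zel q a ha = zel q a ha * m := by
  have e0 : hermForm 3 F q (Pi.single 0 1) (Pi.single 0 1) = 1 := by
    rw [herm_single_zero hF, Pi.single_eq_same]
  have hb : b * b ^ q = 1 := by
    have h1 := herm_act m (Pi.single 0 1) (Pi.single 0 1)
    rw [hm, herm_smul_left, herm_smul_right, e0, mul_one] at h1
    exact h1
  have hmv : ∀ v, (act m v) 0 = b * v 0 := by
    intro v
    have h1 := herm_act m v (Pi.single 0 1)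
    rw [hm, herm_smul_right, herm_single_zero hF, herm_single_zero hF] at h1
    calc (act m v) 0 = b * b ^ q * (act m v) 0 := by rw [hb, one_mul]
      _ = b * (b ^ q * (act m v) 0) := by ring
      _ = b * v 0 := by rw [h1]
  apply ext_act
  intro v
  rw [act_mul, act_mul, act_zel, act_zel, act_add, act_smul, act_smul, hm, hmv, smul_smul]
  congr 2
  ring

/-- the order of `zel` -/
theorem orderOf_zel [Fintype F] (hF : Fintype.card F = q ^ 2) {a : F} (ha : a ^ (q + 1) = 1)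
    (hgen : ∀ k : ℕ, a ^ k = 1 → q + 1 ∣ k) :
    orderOf (pr 3 F q (zel q a ha)) = (q + 1) / Nat.gcd 3 (q + 1) := by
  have ha0 := ne_zero_of_norm ha
  have hgd : Nat.gcd 3 (q + 1) ∣ q + 1 := Nat.gcd_dvd_right _ _
  have hgp : 0 < Nat.gcd 3 (q + 1) := Nat.gcd_pos_of_pos_left _ (by norm_num)
  have hpow : ∀ k : ℕ, mat (zel q a ha ^ k) = Matrix.diagonal ![((a⁻¹) ^ 2) ^ k, a ^ k, a ^ k] := by
    intro k
    have h1 : mat (zel q a ha ^ k) = mat (zel q a ha) ^ k := by
      induction k with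
      | zero => rw [pow_zero, pow_zero, mat_one]
      | succ k ih => rw [pow_succ, pow_succ, mat_mul, ih]
    rw [h1]
    show (Matrix.diagonal ![(a⁻¹) ^ 2, a, a]) ^ k = _
    rw [Matrix.diagonal_pow]
    congr 1
    funext i
    fin_cases i <;> rfl
  have key : ∀ k : ℕ, pr 3 F q (zel q a ha) ^ k = 1 ↔ (q + 1) / Nat.gcd 3 (q + 1) ∣ k := by
    intro k
    rw [← map_pow, pr_eq_one_iff]
    constructor
    · intro h
      obtain ⟨c, hc0, -, hc⟩ := exists_scalar_of_mem_center hF le_rfl h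
      have h5 := congrFun (hc (Pi.single 0 1)) 0
      have h6 := congrFun (hc (Pi.single 1 1)) 1
      rw [act_def, hpow, Matrix.mulVec_diagonal] at h5 h6
      simp at h5 h6
      have h7 : a ^ (k * 3) = 1 := by
        have h8 : ((a ^ 2) ^ k)⁻¹ = a ^ k := by rw [h5, h6]
        have h9 : (a ^ 2) ^ k ≠ 0 := pow_ne_zero _ (pow_ne_zero _ ha0)
        have h10 : a ^ k * (a ^ 2) ^ k = 1 := by rw [← h8, inv_mul_cancel₀ h9]
        rw [← h10, ← pow_mul, ← pow_add]
        congr 1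
        ring
      have h8 : q + 1 ∣ k * Nat.gcd 3 (q + 1) := by
        rw [← Nat.gcd_mul_left]
        exact Nat.dvd_gcd (hgen _ h7) (dvd_mul_left _ _)
      exact (Nat.div_dvd_iff_dvd_mul hgd hgp).2 (by rwa [mul_comm] at h8)
    · intro h
      have h8 : q + 1 ∣ Nat.gcd 3 (q + 1) * k := (Nat.div_dvd_iff_dvd_mul hgd hgp).1 h
      have h9 : q + 1 ∣ 3 * k := h8.trans (mul_dvd_mul_right (Nat.gcd_dvd_left _ _) k)
      have h10 : a ^ (3 * k) = 1 := by
        obtain ⟨l, hl⟩ := h9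
        rw [hl, pow_mul, ha, one_pow]
      refine mem_center_of_act (c := a ^ k) fun v => ?_
      rw [act_def, hpow]
      funext i
      rw [Matrix.mulVec_diagonal]
      have h11 : ((a⁻¹) ^ 2) ^ k = a ^ k := by
        rw [← pow_mul, inv_pow]
        apply inv_eq_of_mul_eq_one_left
        rw [← pow_add, ← h10]
        congr 1
        ring
      fin_cases i
      · show ((a⁻¹) ^ 2) ^ k * v 0 = a ^ k * v 0
        rw [h11]
      · rfl
      · rfl
  apply Nat.dvd_antisymm
  · exact orderOf_dvd_of_pow_eq_one ((key _).2 dvd_rfl)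
  · exact (key _).1 (pow_orderOf_eq_one _)

variable [Fintype F]

/-- a generator of the group of norm one elements -/
theorem exists_gen (hF : Fintype.card F = q ^ 2) (hq : 1 < q) :
    ∃ a : F, a ^ (q + 1) = 1 ∧ ∀ k : ℕ, a ^ k = 1 → q + 1 ∣ k := by
  classical
  have hc := card_units_eq hF
  have hcyc : IsCyclic Fˣ := inferInstance
  obtain ⟨g, hg⟩ := hcyc.exists_generator
  have hgo : orderOf g = Nat.card Fˣ := orderOf_eq_card_of_forall_mem_zpowers hg
  have hq1 : 0 < q - 1 := by omega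
  have ho : orderOf (g ^ (q - 1)) = q + 1 := by
    rw [orderOf_pow, hgo, hc, Nat.gcd_eq_right (dvd_mul_left _ _)]
    exact Nat.mul_div_cancel _ hq1
  refine ⟨((g ^ (q - 1) : Fˣ) : F), ?_, fun k hk => ?_⟩
  · rw [← Units.val_pow_eq_pow_val, ← ho, pow_orderOf_eq_one, Units.val_one]
  · rw [← ho]
    apply orderOf_dvd_of_pow_eq_one
    apply Units.ext
    rw [Units.val_pow_eq_pow_val, hk, Units.val_one]

theorem card_pre (hF : Fintype.card F = q ^ 2) (M : Subgroup (PSU 3 F q)) :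
    Nat.card (pre M) = Nat.gcd 3 (q + 1) * Nat.card M := by
  have hfin : Finite (PSU 3 F q) := Quotient.finite _
  have h1 : Nat.card (pre M) = Nat.card (M.comap (pr 3 F q)) := Subgroup.card_map_of_injective suHom_injective
  have h2 := (M.comap (pr 3 F q)).card_mul_index
  rw [Subgroup.index_comap_of_surjective M pr_surjective] at h2
  have h3 := M.card_mul_index
  have h4 := Subgroup.card_eq_card_quotient_mul_card_subgroup (center (SU 3 F q))
  rw [Cfsg.Agent.S0279.result hF 3 le_rfl] at h4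
  have h5 : Nat.card (SU 3 F q) = Nat.card (PSU 3 F q) * Nat.gcd 3 (q + 1) := h4
  rw [h5, ← h3] at h2
  have h6 : 0 < M.index := Nat.pos_of_ne_zero Subgroup.index_ne_zero_of_finite
  rw [h1]
  apply Nat.eq_of_mul_eq_mul_right h6
  rw [h2]; ring

/-- the center of the stabiliser of a nonisotropic point -/
theorem point_center (hF : Fintype.card F = q ^ 2) (hq2 : q ≠ 2) {M : Subgroup (PSU 3 F q)}
    {W : Submodule F (Fin 3 → F)} (hW0 : W ≠ ⊥) (hWn : IsNondegenerateOn (hermForm 3 F q) W)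
    (hW3 : 2 * finrank F W < 3) (he : pre M ≤ subspaceStabilizer W) {a : F} (ha : a ^ (q + 1) = 1) :
    ∃ g : PSU 3 F q, ∀ m ∈ M, Commute m (g * pr 3 F q (zel q a ha) * g⁻¹) := by
  obtain ⟨u, hu, rfl⟩ := Cfsg.Agent.H950.MC.nons_span hF hW0 hWn hW3
  have e0 : hermForm 3 F q (Pi.single 0 1) (Pi.single 0 1) = 1 := by
    rw [herm_single_zero hF, Pi.single_eq_same]
  obtain ⟨g, hg⟩ := Cfsg.Agent.H930.ExtU.exists_SU_norm hF (by norm_num) (fun h => hq2 h.2)
    (z := (Pi.single 0 1 : Fin 3 → F)) (z' := u) (by rw [hu, e0]) (by rw [e0]; exact one_ne_zero)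
  refine ⟨pr 3 F q g, fun x hx => ?_⟩
  obtain ⟨m, rfl⟩ := pr_surjective x
  have hmM := he (mem_pre.2 hx)
  have hmu : act m u ∈ F ∙ u := (hmM u).1 (Submodule.mem_span_singleton_self u)
  obtain ⟨b, hb⟩ := Submodule.mem_span_singleton.1 hmu
  have h1 : act (g⁻¹ * m * g) (Pi.single 0 1) = b • (Pi.single 0 1 : Fin 3 → F) := by
    rw [act_mul, act_mul, hg, ← hb, act_smul, ← hg, ← act_mul, inv_mul_cancel, act_one]
  have h2 := zel_comm hF ha h1
  have h3 : m * (g * zel q a ha * g⁻¹) = g * zel q a ha * g⁻¹ * m := by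
    have e1 : m * (g * zel q a ha * g⁻¹) = g * (g⁻¹ * m * g * zel q a ha) * g⁻¹ := by group
    rw [e1, h2]; group
  show pr 3 F q m * (pr 3 F q g * pr 3 F q (zel q a ha) * (pr 3 F q g)⁻¹) =
    pr 3 F q g * pr 3 F q (zel q a ha) * (pr 3 F q g)⁻¹ * pr 3 F q m
  rw [← map_inv, ← map_mul, ← map_mul, ← map_mul, h3, map_mul]

/-- the order of the stabiliser of the first coordinate point in `SU₃` -/
theorem stab_card (hF : Fintype.card F = q ^ 2) (hq : 1 < q) :
    Nat.card ((subspaceStabilizer (F ∙ (Pi.single 0 1 : Fin 3 → F)) ⊓ SUg 3 F q : Subgroup (GL (Fin 3) F))) ∣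
      q * ((q + 1) * (q ^ 2 - 1)) := by
  classical
  obtain ⟨W, hWd⟩ : ∃ W : Submodule F (Fin 3 → F), W = F ∙ (Pi.single 0 1 : Fin 3 → F) := ⟨_, rfl⟩
  have hs0 : (Pi.single 0 1 : Fin 3 → F) ≠ 0 := by
    intro h
    have := congrFun h 0
    rw [Pi.single_eq_same] at this
    exact one_ne_zero this
  have hf1 : finrank F W = 1 := by rw [hWd]; exact finrank_span_singleton hs0
  have e0 : hermForm 3 F q (Pi.single 0 1) (Pi.single 0 1) = 1 := by
    rw [herm_single_zero hF, Pi.single_eq_same]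
  rw [← hWd]
  obtain ⟨e⟩ := Cfsg.Agent.S0837.result hF 3 1 (by norm_num) W hf1 (by
    intro u hu h
    rw [hWd] at hu h
    obtain ⟨b, rfl⟩ := Submodule.mem_span_singleton.1 hu
    have h1 := h _ (Submodule.mem_span_singleton_self _)
    rw [herm_smul_left, e0, mul_one] at h1
    rw [h1, zero_smul])
  have h1 := Cfsg.Agent.S0277.result hF 1
  have h2 := Cfsg.Agent.S0277.result hF 2
  have h3 : Nat.card (GU 1 F q) = q + 1 := by rw [h1]; simp
  have h4 : Nat.card (GU 2 F q) = q * ((q + 1) * (q ^ 2 - 1)) := by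
    rw [h2]
    norm_num [Finset.prod_range_succ]
  have h5 := Nat.card_congr e.toEquiv
  rw [Nat.card_prod, h3, show 3 - 1 = 2 by norm_num, h4] at h5
  set S := Cfsg.stabilizing (Cfsg.glToMat (Fin 3) F) (W : Set (Fin 3 → F)) with hS
  have h7 : Nat.card (S.subgroupOf (GU 3 F q)) = Nat.card (S ⊓ GU 3 F q : Subgroup (GL (Fin 3) F)) := by
    rw [← Subgroup.inf_subgroupOf_right]
    exact Nat.card_congr (Subgroup.subgroupOfEquivOfLe inf_le_right).toEquiv
  rw [h7] at h5
  set H : Subgroup (GL (Fin 3) F) := S ⊓ GU 3 F q with hH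
  let δ : H →* Fˣ := (Matrix.GeneralLinearGroup.det : GL (Fin 3) F →* Fˣ).comp H.subtype
  have hker : Nat.card δ.ker = Nat.card ((subspaceStabilizer W ⊓ SUg 3 F q : Subgroup (GL (Fin 3) F))) := by
    rw [← Subgroup.card_map_of_injective (K := δ.ker) (f := H.subtype) H.subtype_injective]
    congr 2
    ext x
    constructor
    · rintro ⟨y, hy, rfl⟩
      have h8 : Matrix.GeneralLinearGroup.det (y : GL (Fin 3) F) = 1 := hy
      exact ⟨y.2.1, y.2.2, mem_specialLinear.2 (congrArg Units.val h8)⟩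
    · rintro ⟨hx1, hx2⟩
      refine ⟨⟨x, hx1, hx2.1⟩, ?_, rfl⟩
      have h8 := mem_specialLinear.1 hx2.2
      show Matrix.GeneralLinearGroup.det x = 1
      exact Units.ext h8
  have hr : q + 1 ∣ Nat.card δ.range := by
    obtain ⟨a, ha, hgen⟩ := exists_gen hF hq
    have ha0 := ne_zero_of_norm ha
    obtain ⟨g, hg, hgd⟩ := Cfsg.Agent.H950.MC.exists_diag_GU hF ha
    have hgS : g ∈ S := by
      refine (Cfsg.Agent.H950.MC.mem_stab_iff (W := W)).2 fun v => ?_
      rw [hWd, Submodule.mem_span_singleton, Submodule.mem_span_singleton, hgd]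
      constructor
      · rintro ⟨b, rfl⟩
        refine ⟨a * b, ?_⟩
        funext i
        rw [Matrix.mulVec_diagonal]
        fin_cases i
        · show a * b * (Pi.single 0 1 : Fin 3 → F) 0 = a * (b * (Pi.single 0 1 : Fin 3 → F) 0)
          ring
        · show a * b * (Pi.single 0 1 : Fin 3 → F) 1 = 1 * (b * (Pi.single 0 1 : Fin 3 → F) 1)
          rw [Pi.single_eq_of_ne (by decide)]; ring
        · show a * b * (Pi.single 0 1 : Fin 3 → F) 2 = 1 * (b * (Pi.single 0 1 : Fin 3 → F) 2)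
          rw [Pi.single_eq_of_ne (by decide)]; ring
      · rintro ⟨b, hb⟩
        refine ⟨a⁻¹ * b, ?_⟩
        funext i
        have hbi := congrFun hb i
        rw [Matrix.mulVec_diagonal] at hbi
        fin_cases i
        · have h9 : b * (Pi.single 0 1 : Fin 3 → F) 0 = a * v 0 := hbi
          show a⁻¹ * b * (Pi.single 0 1 : Fin 3 → F) 0 = v 0
          rw [mul_assoc, h9, inv_mul_cancel_left₀ ha0]
        · have h9 : b * (Pi.single 0 1 : Fin 3 → F) 1 = 1 * v 1 := hbi
          show a⁻¹ * b * (Pi.single 0 1 : Fin 3 → F) 1 = v 1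
          rw [mul_assoc, h9]
          rw [Pi.single_eq_of_ne (by decide), mul_zero, one_mul] at h9
          rw [← h9]; ring
        · have h9 : b * (Pi.single 0 1 : Fin 3 → F) 2 = 1 * v 2 := hbi
          show a⁻¹ * b * (Pi.single 0 1 : Fin 3 → F) 2 = v 2
          rw [mul_assoc, h9]
          rw [Pi.single_eq_of_ne (by decide), mul_zero, one_mul] at h9
          rw [← h9]; ring
    have h8 : orderOf (δ ⟨g, hgS, hg⟩) = q + 1 := by
      have h9 : ((δ ⟨g, hgS, hg⟩ : Fˣ) : F) = a := by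
        show (g : Matrix (Fin 3) (Fin 3) F).det = a
        rw [hgd, Matrix.det_diagonal, Fin.prod_univ_three]
        simp
      apply Nat.dvd_antisymm
      · apply orderOf_dvd_of_pow_eq_one
        apply Units.ext
        rw [Units.val_pow_eq_pow_val, h9, ha, Units.val_one]
      · apply hgen
        have h10 := pow_orderOf_eq_one (δ ⟨g, hgS, hg⟩)
        have h11 := congrArg Units.val h10
        rwa [Units.val_pow_eq_pow_val, h9, Units.val_one] at h11
    rw [← h8]
    exact Subgroup.orderOf_dvd_natCard _ ⟨_, rfl⟩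
  have h9 : Nat.card δ.ker * Nat.card δ.range = Nat.card H := by
    rw [← δ.ker.card_mul_index, Subgroup.index_ker]
  rw [h5] at h9
  rw [← hker]
  obtain ⟨k, hk⟩ := hr
  rw [hk] at h9
  have h10 : Nat.card δ.ker * k = q * ((q + 1) * (q ^ 2 - 1)) := by
    apply Nat.eq_of_mul_eq_mul_left (show 0 < q + 1 by omega)
    rw [← h9]; ring
  exact ⟨k, h10.symm⟩

/-- the order of the stabiliser of a nonisotropic point -/
theorem point_card' (hF : Fintype.card F = q ^ 2) (hq : 1 < q) (hq2 : q ≠ 2) {M : Subgroup (PSU 3 F q)}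
    {W : Submodule F (Fin 3 → F)} (hW0 : W ≠ ⊥) (hWn : IsNondegenerateOn (hermForm 3 F q) W)
    (hW3 : 2 * finrank F W < 3) (he : pre M = subspaceStabilizer W ⊓ SUg 3 F q) :
    Nat.gcd 3 (q + 1) * Nat.card M ∣ q * ((q + 1) * (q ^ 2 - 1)) := by
  rw [← card_pre hF, he]
  refine dvd_trans ?_ (stab_card hF hq)
  have e0 : hermForm 3 F q (Pi.single 0 1) (Pi.single 0 1) = 1 := by
    rw [herm_single_zero hF, Pi.single_eq_same]
  obtain ⟨u, hu, hWu⟩ := Cfsg.Agent.H950.MC.nons_span hF hW0 hWn hW3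
  obtain ⟨g, hg, hgu⟩ := Cfsg.Agent.H950.MC.exists_elt_of_act hF (Cfsg.Agent.H930.ExtU.exists_SU_norm hF (by norm_num)
    (fun h => hq2 h.2) (z := u) (z' := (Pi.single 0 1 : Fin 3 → F)) (by rw [hu, e0]) (by rw [hu]; exact one_ne_zero))
  have h1 : ∀ x ∈ subspaceStabilizer W ⊓ SUg 3 F q,
      g * x * g⁻¹ ∈ subspaceStabilizer (F ∙ (Pi.single 0 1 : Fin 3 → F)) ⊓ SUg 3 F q := by
    intro x hx
    rw [hWu] at hx
    exact Cfsg.Agent.H950.MC.stab_conj (Cfsg.Agent.H950.MC.span_map hgu) hg hx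
  have h2 : (subspaceStabilizer W ⊓ SUg 3 F q : Subgroup (GL (Fin 3) F)).map (MulAut.conj g).toMonoidHom ≤
      subspaceStabilizer (F ∙ (Pi.single 0 1 : Fin 3 → F)) ⊓ SUg 3 F q := by
    rintro _ ⟨x, hx, rfl⟩
    exact h1 x hx
  have h3 := Subgroup.card_dvd_of_le h2
  rwa [Subgroup.card_map_of_injective (MulAut.conj g).injective] at h3

end Cfsg.Agent.H188.Der
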