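import Cfsg.Agent.H320.Der.F2

/-!
# Commuting isometries of orders `3`, `7`, `9` over `F_2` (helper188, S3502)

* `seven_three` : `[V, x] ≤ C_V(y)`, `dim [V, x] = 6`, for commuting isometries `x`, `y` of orders `7`, `3` in dimension
  less than `12`
* `lm21` : isometries of order `21` in dimension at most `8`
* `no_nine` : no isometry `z` of order `9` with `z ^ 3` commuting with an isometry of order `7` in dimension at most `8`
* `exists_pre_comm` : commuting elements of odd order of `PΩ(Q)` lift to commuting isometries of the same orders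
-/

set_option autoImplicit false
set_option linter.unusedSectionVars false

namespace Cfsg.Agent.H188.Der.GeoO

open Module QuadraticMap Cfsg Cfsg.Geo Cfsg.Agent.LieClassical.OrthCore Cfsg.Agent.H955 Cfsg.Agent.H954.TSing
  Cfsg.Agent.H884.El Cfsg.Agent.LieClassical.OmegaReindex Cfsg.Agent.H938.Sax Cfsg.Agent.H320.Der
open Cfsg.Agent.H951 (fx cm)
open scoped MatrixGroups Matrix

universe u v

section

variable {F : Type u} [Field F] [Fintype F] {V : Type v} [AddCommGroup V] [Module F V] [FiniteDimensional F V]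
  {Q : QuadraticForm F V} {x y z : Module.End F V}

theorem seven_three (hF : Fintype.card F = 2) (hQ : Nondeg Q) (hx : Iso Q x 7) (hx1 : x ≠ 1) (hy : Iso Q y 3)
    (hxy : x * y = y * x) (hd : finrank F V < 12) : cm x ≤ fx y ∧ finrank F (cm x) = 6 := by
  obtain ⟨h6, hP, -⟩ := hx.odd_case hQ hx1 (pp7 hF) (by decide) (by omega)
  refine ⟨?_, by omega⟩
  have h3 := hx.dvd (pp7 hF) (W := cm y) (Typ.inv_cm_of_comm hxy.symm)
  have h4 := hy.dvd (pp3 hF) (W := cm x) (Typ.inv_cm_of_comm hxy)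
  rw [inf_comm] at h3
  have h5 : finrank F ↥(cm x ⊓ cm y) ≤ finrank F (cm x) := Submodule.finrank_mono inf_le_left
  rcases Nat.eq_zero_or_pos (finrank F ↥(cm x ⊓ cm y)) with h0 | hpos
  · exact le_fx_of_inf hy hxy (Submodule.finrank_eq_zero.1 h0)
  · exfalso
    have h8 : cm x ⊓ cm y = cm x := Submodule.eq_of_le_of_finrank_eq inf_le_left (by omega)
    have hle : cm x ≤ cm y := inf_eq_left.1 h8
    have h9 := Typ.isPlus_res_iff hy (pp3 hF) (by decide) (Typ.inv_cm_of_comm hxy)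
      (nondeg_cm hQ hx.iso hx.ne0 hx.pow) (H951.inf_fx_of_le_cm hy.ne0 hy.pow hle) (A := 3) (by rw [h6])
    exact absurd (h9.1 hP) (by decide)

theorem main21 (hF : Fintype.card F = 2) {g : Module.End F V} (hQ : Nondeg Q) (hg : ∀ v, Q (g v) = Q v)
    (ho : orderOf g = 21) (hd : finrank F V ≤ 8) : finrank F V = 8 ∧ ∀ v, g v = v → v = 0 := by
  have hgo : g ^ 21 = 1 := by rw [← ho]; exact pow_orderOf_eq_one g
  have hne : ∀ n : ℕ, ¬ 21 ∣ n → g ^ n ≠ 1 := fun n hn h => hn (by rw [← ho]; exact orderOf_dvd_of_pow_eq_one h)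
  have hx : Iso Q (g ^ 3) 7 := Iso.mk' (pp7 hF) (by omega) (by rw [← pow_mul, hgo]) (iso_pow hg 3)
  have hy : Iso Q (g ^ 7) 3 := Iso.mk' (pp3 hF) (by omega) (by rw [← pow_mul, hgo]) (iso_pow hg 7)
  have hx1 : g ^ 3 ≠ 1 := hne 3 (by decide)
  have hy1 : g ^ 7 ≠ 1 := hne 7 (by decide)
  have hxy : g ^ 3 * g ^ 7 = g ^ 7 * g ^ 3 := by rw [← pow_add, ← pow_add]
  obtain ⟨h1, h2⟩ := seven_three hF hQ hx hx1 hy hxy (by omega)
  have h3 := Typ.cm_le_fx hQ hx hy h1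
  have h4 := hx.finrank_add
  have h5 : finrank F (cm (g ^ 7)) ≤ finrank F (fx (g ^ 3)) := Submodule.finrank_mono h3
  have h6 := hy.dvd_cm (pp3 hF)
  have h7 : finrank F (cm (g ^ 7)) ≠ 0 := fun h0 => cm_ne_bot hy1 (Submodule.finrank_eq_zero.1 h0)
  refine ⟨by omega, fun v hv => ?_⟩
  have h10 : cm (g ^ 7) = fx (g ^ 3) := Submodule.eq_of_le_of_finrank_eq h3 (by omega)
  rw [← Submodule.mem_bot F, ← (H951.isCompl_fx_cm hy.ne0 hy.pow).inf_eq_bot]
  exact ⟨H951.mem_fx.2 (fix_pow_of hv _), by rw [h10]; exact H951.mem_fx.2 (fix_pow_of hv _)⟩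

theorem no_nine (hF : Fintype.card F = 2) (hQ : Nondeg Q) (hx : Iso Q x 7) (hx1 : x ≠ 1) (hz : Iso Q (z ^ 3) 3)
    (hz1 : z ^ 3 ≠ 1) (h9 : z ^ 9 = 1) (hxy : x * z ^ 3 = z ^ 3 * x) (hd : finrank F V ≤ 8) : False := by
  obtain ⟨h1, h2⟩ := seven_three hF hQ hx hx1 hz hxy (by omega)
  have h3 := Typ.cm_le_fx hQ hx hz h1
  have h4 := hx.finrank_add
  have h5 : finrank F (cm (z ^ 3)) ≤ finrank F (fx x) := Submodule.finrank_mono h3
  have h7 : finrank F (cm (z ^ 3)) ≠ 0 := fun h0 => cm_ne_bot hz1 (Submodule.finrank_eq_zero.1 h0)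
  have hzz : z ^ 3 * z = z * z ^ 3 := by rw [← pow_succ, ← pow_succ']
  have h8 := Typ.nine_dvd (y := z) (W := cm (z ^ 3)) (Typ.inv_cm_of_comm hzz) h9
    (H951.inf_fx_of_le_cm hz.ne0 hz.pow le_rfl)
  rw [Module.natCard_eq_pow_finrank (K := F), Nat.card_eq_fintype_card, hF] at h8
  have h6 : ∀ n < 3, 9 ∣ 2 ^ n - 1 → n = 0 := by decide
  exact h7 (h6 _ (by omega) h8)

theorem lm21 (hF : Fintype.card F = 2) : Lm F 21 8 := fun hQ hg ho hd => main21 hF hQ hg ho hd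

end

theorem comm_of_lift {G H : Type*} [Group G] [Group H] (f : G →* H) (hk : ∀ x, f x = 1 → x ^ 2 = 1)
    (hc : ∀ x, f x = 1 → x ∈ Subgroup.center G) {a b : G} {N : ℕ} (hN : Odd N) (hb : b ^ N = 1)
    (h : Commute (f a) (f b)) : Commute a b := by
  set c : G := a * b * a⁻¹ * b⁻¹ with hcd
  have h1 : f c = 1 := by
    rw [hcd, map_mul, map_mul, map_mul, map_inv, map_inv, h.eq]
    group
  have h2 : a * b * a⁻¹ = c * b := by rw [hcd]; group
  have h3 : (c * b) ^ N = 1 := by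
    rw [← h2, conj_pow, hb, mul_one, mul_inv_cancel]
  have h4 : Commute c b := (Subgroup.mem_center_iff.1 (hc c h1) b).symm
  rw [h4.mul_pow, hb, mul_one] at h3
  obtain ⟨k, hk'⟩ := hN
  rw [hk', pow_succ, pow_mul, hk c h1, one_pow, one_mul] at h3
  show a * b = b * a
  rw [h3, one_mul, mul_inv_eq_iff_eq_mul] at h2
  exact h2

section quad

variable {ι : Type} [Fintype ι] [DecidableEq ι] {F : Type u} [Field F] [Fintype F] {Q : QuadraticForm F (ι → F)}

theorem lin_mul (g h : GL ι F) : H884.El.lin (g * h) = H884.El.lin g * H884.El.lin h := Matrix.toLin'_mul _ _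

theorem exists_pre_comm (hD : H390.Lift.Data Q) {m₁ m₂ : POmega F (⇑Q)} {N₁ N₂ k : ℕ} (h₁ : Odd N₁) (h₂ : Odd N₂)
    (ho₁ : orderOf m₁ = N₁) (ho₂ : orderOf m₂ = N₂) (hc : Commute m₁ (m₂ ^ k)) :
    ∃ g₁ g₂ : Module.End F (ι → F), orderOf g₁ = N₁ ∧ orderOf g₂ = N₂ ∧ (∀ v, Q (g₁ v) = Q v) ∧
      (∀ v, Q (g₂ v) = Q v) ∧ g₁ * g₂ ^ k = g₂ ^ k * g₁ := by
  have hk : ∀ y, QuotientGroup.mk' (Subgroup.center (Omega F (⇑Q))) y = 1 → y ^ 2 = 1 := fun y hy =>
    H390.Lift.center_sq hD y ((QuotientGroup.eq_one_iff y).1 hy)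
  obtain ⟨x₁, rfl⟩ := QuotientGroup.mk'_surjective (Subgroup.center (Omega F (⇑Q))) m₁
  obtain ⟨n₁, h3, h4⟩ := exists_lift_odd (QuotientGroup.mk' (Subgroup.center (Omega F (⇑Q)))) hk h₁ ho₁
  obtain ⟨x₂, rfl⟩ := QuotientGroup.mk'_surjective (Subgroup.center (Omega F (⇑Q))) m₂
  obtain ⟨n₂, h5, h6⟩ := exists_lift_odd (QuotientGroup.mk' (Subgroup.center (Omega F (⇑Q)))) hk h₂ ho₂
  rw [← h3, ← h5, ← map_pow] at hc
  have h7 : Commute (x₁ ^ n₁) ((x₂ ^ n₂) ^ k) :=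
    comm_of_lift _ hk (fun y hy => (QuotientGroup.eq_one_iff y).1 hy) h₂ (by
      rw [← pow_mul, mul_comm, pow_mul, ← h6, pow_orderOf_eq_one, one_pow]) hc
  have hiso : ∀ y : Omega F (⇑Q), ∀ v, Q (H884.El.lin (((y : isometryGroup F (⇑Q)) : GL ι F)) v) = Q v := fun y v =>
    lin_iso (H := pre (⇑Q) ⊤) pre_le (mem_pre.2 (Subgroup.mem_top _)) v
  let φ : Omega F (⇑Q) →* Module.End F (ι → F) :=
    { toFun := fun y => H884.El.lin ((y : isometryGroup F (⇑Q)) : GL ι F)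
      map_one' := Matrix.toLin'_one
      map_mul' := fun a b => lin_mul _ _ }
  have hord : ∀ y : Omega F (⇑Q), orderOf (φ y) = orderOf y := by
    intro y
    show orderOf (H884.El.lin ((y : isometryGroup F (⇑Q)) : GL ι F)) = _
    rw [orderOf_lin, Subgroup.orderOf_coe, Subgroup.orderOf_coe]
  refine ⟨φ (x₁ ^ n₁), φ (x₂ ^ n₂), by rw [hord, h4], by rw [hord, h6], hiso _, hiso _, ?_⟩
  rw [← map_pow, ← map_mul, ← map_mul, h7.eq]

/-- **The geometric obstruction.** -/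
theorem no_nine_pomega (hF : Fintype.card F = 2) (hQ : Nondeg Q) (hD : H390.Lift.Data Q) (hd : Fintype.card ι ≤ 8)
    {s z : POmega F (⇑Q)} (hs : orderOf s = 7) (hz : orderOf z = 9) (hc : Commute s (z ^ 3)) : False := by
  obtain ⟨x, y, hx, hy, hxi, hyi, hxy⟩ := exists_pre_comm hD (by decide) (by decide) hs hz hc
  have h7 : x ^ 7 = 1 := by rw [← hx]; exact pow_orderOf_eq_one x
  have h9 : y ^ 9 = 1 := by rw [← hy]; exact pow_orderOf_eq_one y
  refine no_nine hF hQ (x := x) (z := y) (Iso.mk' (pp7 hF) (by omega) h7 hxi) ?_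
    (Iso.mk' (pp3 hF) (by omega) (by rw [← pow_mul, h9]) (iso_pow hyi 3)) ?_ h9 hxy (by rw [finrank_V]; exact hd)
  · rintro rfl
    rw [orderOf_one] at hx
    omega
  · intro h
    have := orderOf_dvd_of_pow_eq_one h
    rw [hy] at this
    omega

end quad

end Cfsg.Agent.H188.Der.GeoO
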