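import Cfsg.Agent.H188.Der.Grp

/-!
# No group of order `48` (helper188, task 2988)
-/

set_option autoImplicit false

namespace Cfsg.Agent.H188.Der

open Cfsg.Agent.H439.Der Subgroup

variable {G : Type*} [Group G] [Finite G]

theorem no_48 (hG : Nat.card G = 48) {y w : G} (hy : orderOf y = 3) (hw : orderOf w = 8)
    (hc : ∀ g : G, Commute g (w ^ 2)) (h8 : ¬ 8 ∣ Nat.card (centralizer ({y} : Set G))) : False := by
  have : Fact (Nat.Prime 3) := ⟨Nat.prime_three⟩
  have hC : Nat.card (centralizer ({y} : Set G)) = 12 := by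
    have h1 : 3 ∣ Nat.card (centralizer ({y} : Set G)) := by
      rw [← hy]
      exact Subgroup.orderOf_dvd_natCard _ (Subgroup.mem_centralizer_singleton_iff.2 rfl)
    have h2 : 4 ∣ Nat.card (centralizer ({y} : Set G)) := by
      have h3 : orderOf (w ^ 2) = 4 := by rw [orderOf_pow, hw]; rfl
      rw [← h3]
      exact Subgroup.orderOf_dvd_natCard _ (Subgroup.mem_centralizer_singleton_iff.2 (hc y).eq.symm)
    have h4 : Nat.card (centralizer ({y} : Set G)) ∣ 48 := by
      rw [← hG]; exact Subgroup.card_subgroup_dvd_card _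
    have key : ∀ n ∈ Nat.divisors 48, 3 ∣ n → 4 ∣ n → ¬ 8 ∣ n → n = 12 := by decide
    exact key _ (Nat.mem_divisors.2 ⟨h4, by norm_num⟩) h1 h2 h8
  have hN : Nat.card (normalizer (zpowers y : Set G)) = 12 := by
    have h1 := card_norm_mul_index y
    have h2 := index_norm_modEq (p := 3) (k := 1) (by rw [pow_one, hy]) (by rw [hG]; decide)
    rw [hG] at h1
    rcases card_norm_three hy with h3 | h3
    · rw [h3, hC]
    · exfalso
      rw [h3, hC] at h1
      have h5 : (normalizer (zpowers y : Set G)).index = 2 := by omega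
      rw [h5] at h2
      revert h2; decide
  obtain ⟨K, hK, hKc⟩ := burnside_prime hy (by rw [hG]; decide) (by rw [hN, hC])
  rw [hG] at hKc
  have hK16 : Nat.card K = 16 := by omega
  have hwK : w ∈ K := mem_normal_of_coprime hK (k := 3) (by rw [hKc, hG]) (by rw [hw]; decide)
  set Z : Subgroup G := zpowers (w ^ 2) with hZ
  have ho : orderOf (w ^ 2) = 4 := by rw [orderOf_pow, hw]; rfl
  have hZ4 : Nat.card Z = 4 := by rw [hZ, Nat.card_zpowers, ho]
  have hZc : ∀ z ∈ Z, ∀ g : G, Commute g z := by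
    intro z hz g
    obtain ⟨n, rfl⟩ := mem_zpowers_iff.1 hz
    exact (hc g).zpow_right n
  have hz4 : ∀ z ∈ Z, z ^ 4 = 1 := by
    intro z hz
    have h1 := Subgroup.orderOf_dvd_natCard Z hz
    rw [hZ4] at h1
    exact orderOf_dvd_iff_pow_eq_one.1 h1
  have hZK : Z ≤ K := zpowers_le.2 (K.pow_mem hwK 2)
  have hy3 : y ^ 3 = 1 := by rw [← hy, pow_orderOf_eq_one]
  have hwy : ¬ Commute y w := by
    intro h
    apply h8
    rw [← hw]
    exact Subgroup.orderOf_dvd_natCard _ (Subgroup.mem_centralizer_singleton_iff.2 h.eq.symm)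
  -- elements of order three
  have key : ∀ v : G, v ^ 3 = 1 → w⁻¹ * (v * w * v⁻¹) ∈ Z → Commute v w := by
    intro v hv hz
    set z := w⁻¹ * (v * w * v⁻¹) with hzd
    have e1 : v * w = w * z * v := by rw [hzd]; group
    have hcz : ∀ g : G, g * z = z * g := fun g => (hZc z hz g).eq
    have e2 : v ^ 3 * w = w * z ^ 3 * v ^ 3 := by
      calc v ^ 3 * w = v * (v * (v * w)) := by simp only [pow_succ, pow_zero, one_mul, mul_assoc]
        _ = v * (v * (w * z * v)) := by rw [e1]
        _ = v * ((v * w) * z * v) := by simp only [mul_assoc]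
        _ = v * ((w * z * v) * z * v) := by rw [e1]
        _ = (v * w) * (z * v * z * v) := by simp only [mul_assoc]
        _ = (w * z * v) * (z * v * z * v) := by rw [e1]
        _ = w * z * (v * z) * (v * z) * v := by simp only [mul_assoc]
        _ = w * z * (z * v) * (z * v) * v := by rw [hcz v]
        _ = w * z * z * (v * z) * v * v := by simp only [mul_assoc]
        _ = w * z * z * (z * v) * v * v := by rw [hcz v]
        _ = w * z ^ 3 * v ^ 3 := by simp only [pow_succ, pow_zero, one_mul, mul_assoc]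
    rw [hv, one_mul, mul_one] at e2
    have e3 : z ^ 3 = 1 := (left_eq_mul.1 e2)
    have e4 : z = 1 := by
      have := hz4 z hz
      rwa [pow_succ, e3, one_mul] at this
    rw [e4, mul_one] at e1
    exact e1
  set w' := y * w * y⁻¹ with hw'
  set w'' := y * w' * y⁻¹ with hw''
  have hw'K : w' ∈ K := hK.conj_mem w hwK y
  have hw''K : w'' ∈ K := hK.conj_mem w' hw'K y
  have hn1 : w⁻¹ * w' ∉ Z := fun h => hwy (key y hy3 h)
  have hn2 : w⁻¹ * w'' ∉ Z := by
    intro h
    have h1 : w'' = y ^ 2 * w * (y ^ 2)⁻¹ := by rw [hw'', hw', pow_two]; group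
    have h2 := key (y ^ 2) (by rw [← pow_mul, mul_comm, pow_mul, hy3, one_pow]) (by rw [← h1]; exact h)
    have h3 : y = (y ^ 2) ^ 2 := by
      rw [← pow_mul, show 2 * 2 = 3 + 1 by norm_num, pow_succ, hy3, one_mul]
    apply hwy
    rw [h3]
    exact h2.pow_left 2
  have hn3 : w'⁻¹ * w'' ∉ Z := by
    intro h
    apply hn1
    have h1 : y * (w⁻¹ * w') * y⁻¹ = w'⁻¹ * w'' := by rw [hw'', hw']; group
    have h2 : w⁻¹ * w' = y⁻¹ * (w'⁻¹ * w'') * y := by rw [← h1]; group
    have h3 := (hZc _ h y⁻¹).eq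
    rw [h2, h3, inv_mul_cancel_right]
    exact h
  have hwZ : w ∉ Z := by
    intro h
    have h1 := Subgroup.orderOf_dvd_natCard Z h
    rw [hw, hZ4] at h1
    revert h1; decide
  have hw2 : w * w ∈ Z := by rw [← pow_two]; exact mem_zpowers _
  have hw'2 : w' ^ 2 = w ^ 2 := by
    rw [hw', conj_pow, (hc y).eq, mul_inv_cancel_right]
  have hw''2 : w'' ^ 2 = w ^ 2 := by
    rw [hw'', conj_pow, hw'2, (hc y).eq, mul_inv_cancel_right]
  have hw'Z : w' ∉ Z := by
    intro h
    apply hwZ
    have h1 := (hZc w' h y⁻¹).eq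
    have h2 : w = y⁻¹ * w' * y := by rw [hw']; group
    rw [h2, h1, inv_mul_cancel_right]
    exact h
  have hw''Z : w'' ∉ Z := by
    intro h
    apply hw'Z
    have h1 := (hZc w'' h y⁻¹).eq
    have h2 : w' = y⁻¹ * w'' * y := by rw [hw'']; group
    rw [h2, h1, inv_mul_cancel_right]
    exact h
  -- the quotient
  have hsub : (Z.subgroupOf K).Normal := by
    refine ⟨fun n hn g => ?_⟩
    have h1 : (n : G) ∈ Z := hn
    show (g : G) * n * (g : G)⁻¹ ∈ Z
    rw [(hZc _ h1 g).eq, mul_inv_cancel_right]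
    exact h1
  have hcard : Nat.card (K ⧸ Z.subgroupOf K) = 4 := by
    have h1 := Subgroup.card_eq_card_quotient_mul_card_subgroup (Z.subgroupOf K)
    rw [hK16, Nat.card_congr (Subgroup.subgroupOfEquivOfLe hZK).toEquiv, hZ4] at h1
    omega
  have hmk : ∀ a b : K, (QuotientGroup.mk a : K ⧸ Z.subgroupOf K) = QuotientGroup.mk b ↔ (a : G)⁻¹ * b ∈ Z := by
    intro a b
    rw [QuotientGroup.eq]
    exact Iff.rfl
  have hprod : ∀ v : G, v ∈ K → v ∉ Z → w⁻¹ * v ∉ Z → w'⁻¹ * v ∉ Z → w''⁻¹ * v ∈ Z := by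
    intro v hv h0 h1 h2
    by_contra h3
    classical
    let f : Fin 5 → K := ![1, ⟨w, hwK⟩, ⟨w', hw'K⟩, ⟨w'', hw''K⟩, ⟨v, hv⟩]
    have hf : Function.Injective (fun i => (QuotientGroup.mk (f i) : K ⧸ Z.subgroupOf K)) := by
      intro i j hij
      have hij' : (f i : G)⁻¹ * f j ∈ Z := (hmk _ _).1 hij
      have hji : (f j : G)⁻¹ * f i ∈ Z := (hmk _ _).1 hij.symm
      by_contra hne
      fin_cases i <;> fin_cases j <;> simp [f] at hne hij' hji <;> first
        | exact hwZ hij' | exact hw'Z hij' | exact hw''Z hij' | exact h0 hij'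
        | exact hwZ hji | exact hw'Z hji | exact hw''Z hji | exact h0 hji
        | exact hn1 hij' | exact hn2 hij' | exact hn3 hij' | exact h1 hij' | exact h2 hij' | exact h3 hij'
        | exact hn1 hji | exact hn2 hji | exact hn3 hji | exact h1 hji | exact h2 hji | exact h3 hji
    have h4 := Nat.card_le_card_of_injective _ hf
    rw [hcard, Nat.card_fin] at h4
    omega
  have ht : w''⁻¹ * (w * w') ∈ Z := by
    apply hprod _ (K.mul_mem hwK hw'K)
    · intro h
      apply hn1
      have h1 := Z.mul_mem (Z.inv_mem hw2) h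
      have h2 : (w * w)⁻¹ * (w * w') = w⁻¹ * w' := by group
      rwa [h2] at h1
    · intro h
      rw [inv_mul_cancel_left] at h
      exact hw'Z h
    · intro h
      apply hwZ
      have h1 : w'⁻¹ * (w * w') = w'⁻¹ * w * w' := by group
      rw [h1] at h
      have h2 := (hZc _ h w').eq
      have h3 : w = w' * (w'⁻¹ * w * w') * w'⁻¹ := by group
      rw [h3, h2, mul_inv_cancel_right]
      exact h
  have hs0 : w''⁻¹ * (w' * w) ∈ Z := by
    apply hprod _ (K.mul_mem hw'K hwK)
    · intro h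
      apply hn1
      have h1 := Z.inv_mem h
      have h2 := Z.mul_mem h1 hw2
      have h3 : (w' * w)⁻¹ * (w * w) = w⁻¹ * (w'⁻¹ * w) * w := by group
      rw [h3] at h2
      have h4 := (hZc _ h2 w).eq
      have h5 : w'⁻¹ * w = w * (w⁻¹ * (w'⁻¹ * w) * w) * w⁻¹ := by group
      have h6 : w'⁻¹ * w ∈ Z := by
        rw [h5, h4, mul_inv_cancel_right]; exact h2
      have h7 := Z.inv_mem h6
      have h8 : (w'⁻¹ * w)⁻¹ = w⁻¹ * w' := by group
      rwa [h8] at h7
    · intro h
      apply hw'Z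
      have h1 : w⁻¹ * (w' * w) = w⁻¹ * w' * w := by group
      rw [h1] at h
      have h2 := (hZc _ h w).eq
      have h3 : w' = w * (w⁻¹ * w' * w) * w⁻¹ := by group
      rw [h3, h2, mul_inv_cancel_right]
      exact h
    · intro h
      rw [inv_mul_cancel_left] at h
      exact hwZ h
  have hs : (w * w')⁻¹ * (w' * w) ∈ Z := by
    have h1 := Z.mul_mem (Z.inv_mem ht) hs0
    have h2 : (w''⁻¹ * (w * w'))⁻¹ * (w''⁻¹ * (w' * w)) = (w * w')⁻¹ * (w' * w) := by group
    rwa [h2] at h1
  set t := w''⁻¹ * (w * w') with htd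
  set s := (w * w')⁻¹ * (w' * w) with hsd
  have et : w * w' = w'' * t := by rw [htd]; group
  have es : w' * w = w * w' * s := by rw [hsd]; group
  have ct : ∀ g : G, g * t = t * g := fun g => (hZc t ht g).eq
  have cs : ∀ g : G, g * s = s * g := fun g => (hZc s hs g).eq
  have e1 : (w * w') ^ 2 = w ^ 2 * t ^ 2 := by
    rw [et, (show Commute w'' t from ct w'').mul_pow, hw''2]
  have e2 : (w * w') ^ 2 = w ^ 2 * w ^ 2 * s := by
    calc (w * w') ^ 2 = w * (w' * w) * w' := by rw [pow_two]; simp only [mul_assoc]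
      _ = w * (w * w' * s) * w' := by rw [es]
      _ = w * w * w' * (s * w') := by simp only [mul_assoc]
      _ = w * w * w' * (w' * s) := by rw [← cs w']
      _ = w ^ 2 * w' ^ 2 * s := by rw [pow_two, pow_two]; simp only [mul_assoc]
      _ = w ^ 2 * w ^ 2 * s := by rw [hw'2]
  have e3 : s ^ 2 = 1 := by
    have h1 : w' * w * w'⁻¹ = w * s := by
      rw [es, mul_assoc w w' s, cs w', ← mul_assoc, mul_inv_cancel_right]
    have h2 : w' * w ^ 2 * w'⁻¹ = w ^ 2 * s ^ 2 := by
      rw [← conj_pow, h1, (show Commute w s from cs w).mul_pow]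
    rw [(hc w').eq, mul_inv_cancel_right] at h2
    exact left_eq_mul.1 h2
  have e4 : w ^ 2 * s = t ^ 2 := by
    have h1 : w ^ 2 * (w ^ 2 * s) = w ^ 2 * t ^ 2 := by rw [← e1, e2, mul_assoc]
    exact mul_left_cancel h1
  have e5 : w ^ 4 = 1 := by
    have h1 : (w ^ 2 * s) ^ 2 = (t ^ 2) ^ 2 := by rw [e4]
    rw [(show Commute (w ^ 2) s from cs _).mul_pow, e3, mul_one, ← pow_mul, ← pow_mul] at h1
    rw [show 4 = 2 * 2 by norm_num, h1]
    exact hz4 t ht
  have := orderOf_dvd_of_pow_eq_one e5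
  rw [hw] at this
  revert this; decide

end Cfsg.Agent.H188.Der
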