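import Cfsg.Agent.H188.Der.O8mA
import Cfsg.Agent.H320.Der.Pair
import Cfsg.Agent.H278.ElClassical

/-!
# `RowS` for `Ω₈⁻(2)` (helper188, S3502)
-/

set_option autoImplicit false
set_option linter.unusedSectionVars false

namespace Cfsg.Agent.H188.Der.O8m

open Module QuadraticMap Cfsg Cfsg.Geo Cfsg.Agent.LieClassical.OrthCore Cfsg.Agent.H955 Cfsg.Agent.H954.TSing
  Cfsg.Agent.H884.El Cfsg.Agent.LieClassical.OmegaReindex Cfsg.Agent.H938.Sax Cfsg.Agent.H320.Der
  Cfsg.Agent.H188.Der.GeoO Cfsg.Agent.H188.Der.AutNo Subgroup Cfsg.Agent.OrdDiv Cfsg.Agent.H439.Der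
  Cfsg.Agent.H377 Cfsg.Agent.H72.AdjOrth Cfsg.Agent.H970.StabNum Cfsg.Agent.H278.El Cfsg.Agent.H503.El
open Cfsg.Agent.H278.El.Asm (Kn)
open scoped MatrixGroups Matrix

theorem cands35 : (cands [(2, 12), (3, 4), (5, 1), (7, 1)] 11612160).filter (fun g => ordN g % 35 == 0) =
    [.alt 7, .alt 8, .alt 9, .psl 4 2, .psl 3 4, .psp 3 2] := by decide +kernel

theorem valid35 : valid [(2, 12), (3, 4), (5, 1), (7, 1)] 11612160 = true := by decide +kernel

theorem simple_cases (tab : OrderTable.{0}) (hK : Kn) {S : Type} [Group S] [Finite S] [IsSimpleGroup S]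
    (hna : ¬ IsMulCommutative S) (hd : Nat.card S ∣ 11612160) (h35 : 35 ∣ Nat.card S) :
    (NoAut S 9) ∨ ((81 ∣ Nat.card S) ∧ (NoAut S 21 ∨ Blk S 1 21)) := by
  obtain ⟨g, hg, hR⟩ := exists_real_filter tab (hK S) (fun h => hna ⟨⟨h⟩⟩) valid35 hd
    (fun n => n == Nat.card S && n % 35 == 0) (bandI (beq_self_eq_true _) (by
      rw [beq_iff_eq]; exact Nat.mod_eq_zero_of_dvd h35))
  rw [List.mem_filter, Bool.and_eq_true, beq_iff_eq] at hg
  obtain ⟨hg1, hgS, hg3⟩ := hg
  have hg : g ∈ (cands [(2, 12), (3, 4), (5, 1), (7, 1)] 11612160).filter (fun g => ordN g % 35 == 0) :=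
    List.mem_filter.2 ⟨hg1, hg3⟩
  rw [cands35] at hg
  simp only [List.mem_cons, List.not_mem_nil, or_false] at hg
  rcases hg with rfl | rfl | rfl | rfl | rfl | rfl
  · obtain ⟨e⟩ := hR
    exact Or.inl ((noAut_alt_nine le_rfl (by norm_num)).congr e)
  · obtain ⟨e⟩ := hR
    exact Or.inl ((noAut_alt_nine (by norm_num) le_rfl).congr e)
  · obtain ⟨e⟩ := hR
    refine Or.inr ⟨?_, Or.inl (noAut_alt_twentyone.congr e)⟩
    rw [← hgS, show ordN (.alt 9) = 181440 by decide +kernel]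
    norm_num
  · obtain ⟨F, _, _, hF, ⟨e⟩⟩ := hR
    exact Or.inl ((noAut_psl42 hF).congr e)
  · obtain ⟨F, _, _, hF, ⟨e⟩⟩ := hR
    exact Or.inl ((noAut_psl34 hF).congr e)
  · refine Or.inr ⟨?_, Or.inr (noAut_psp32 hR)⟩
    rw [← hgS, show ordN (.psp 3 2) = 1451520 by decide +kernel]
    norm_num

theorem three_four : ∀ k ≤ 4, ∀ j ≤ k, 3 ^ k ≡ 3 ^ j [MOD 7] → j = k := by decide

theorem dvd_three : ∀ n ≤ 9, n ∣ 9 → n ≠ 9 → n ∣ 3 := by decide

/-- **The subgroups of order divisible by `35`.** -/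
theorem case_abs (tab : OrderTable.{0}) (hK : Kn) {R : Type} [Group R] [Finite R]
    (hd : Nat.card R ∣ 11612160) (h7 : 7 ∣ Nat.card R) (h5 : 5 ∣ Nat.card R) (h35 : ∀ x : R, orderOf x ≠ 35)
    (h97 : ∀ s z : R, orderOf s = 7 → orderOf z = 9 → ¬ Commute s (z ^ 3)) :
    (∀ x : R, orderOf x ≠ 21) ∨ ∀ x : R, orderOf x ≠ 9 := by
  have hno : ∀ x : R, orderOf x ≠ 7 * 5 := h35
  have h49 : ¬ 7 ^ 2 ∣ Nat.card R := fun h => by
    have := h.trans hd
    norm_num at this
  have h25 : ¬ 5 ^ 2 ∣ Nat.card R := fun h => by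
    have := h.trans hd
    norm_num at this
  obtain ⟨K, hKn, h7K, h5K, L, hLn, h7L, hLs, hLc, hLC⟩ := exists_factor (p := 7) (r := 5) (by norm_num)
    (by norm_num) (by norm_num) h7 h49 h5 h25 (by norm_num) (by norm_num) hno
  have hcard := Subgroup.card_eq_card_quotient_mul_card_subgroup K
  have h5Q : 5 ∣ Nat.card (R ⧸ K) := by
    rw [hcard] at h5
    exact ((Nat.Prime.dvd_mul (by norm_num)).1 h5).resolve_right h5K
  have h5L : 5 ∣ Nat.card L := dvd_of_cent (p := 7) (r := 5) (by norm_num) (by norm_num) (by norm_num) hLn h7L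
    (not_sq_quot h49) h5Q (by norm_num) (no_quot hno)
  have h35L : 35 ∣ Nat.card L := Nat.Coprime.mul_dvd_of_dvd_of_dvd (by norm_num : Nat.Coprime 5 7) h5L h7L
  have hLQ : Nat.card L ∣ Nat.card (R ⧸ K) := card_subgroup_dvd_card L
  have hLR : Nat.card L * Nat.card K ∣ Nat.card R := by
    rw [hcard]
    exact Nat.mul_dvd_mul_right hLQ _
  have hKR : Nat.card K ∣ 11612160 := (Subgroup.card_subgroup_dvd_card K).trans hd
  rcases simple_cases tab hK hLc ((Dvd.intro _ rfl).trans (hLR.trans hd)) h35L with h | ⟨h81, h⟩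
  · right
    intro z hz
    have h9 := h.no L hLC (QuotientGroup.mk' K z)
    have hdv : orderOf (QuotientGroup.mk' K z) ∣ 9 := hz ▸ orderOf_map_dvd (QuotientGroup.mk' K) z
    have h3 : orderOf (QuotientGroup.mk' K z) ∣ 3 := dvd_three _ (Nat.le_of_dvd (by norm_num) hdv) hdv h9
    have hzK : z ^ 3 ∈ K := by
      rw [← QuotientGroup.eq_one_iff]
      exact orderOf_dvd_iff_pow_eq_one.1 h3
    have hz9 : (z ^ 3) ^ 3 ^ 1 = 1 := by
      rw [← pow_mul, show 3 * 3 ^ 1 = 9 by norm_num, ← hz, pow_orderOf_eq_one]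
    have h243 : ¬ 3 ^ (4 + 1) ∣ Nat.card K := fun h => by
      have := h.trans hKR
      norm_num at this
    obtain ⟨s, hs, hcm⟩ := exists_cent (p := 7) (t := 3) (N := 4) (by norm_num) (by norm_num) h7 hKn h7K
      h243 three_four hzK hz9
    exact h97 s z hs hz hcm
  · left
    have h3K : ¬ 3 ∣ Nat.card K := by
      intro h3
      have h1 : 81 * 3 ∣ 11612160 := (Nat.mul_dvd_mul h81 h3).trans (hLR.trans hd)
      norm_num at h1
    have hcop : Nat.Coprime 21 (Nat.card K) := by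
      rw [show 21 = 3 * 7 by norm_num]
      exact Nat.Coprime.mul_left ((Nat.Prime.coprime_iff_not_dvd (by norm_num)).2 h3K)
        ((Nat.Prime.coprime_iff_not_dvd (by norm_num)).2 h7K)
    have hq : ∀ x : R ⧸ K, orderOf x ≠ 21 := by
      rcases h with h | h
      · exact h.no L hLC
      · exact no_of_blk L hLC (by norm_num) h
    exact no_of_quot hcop hq

variable {F : Type} [Field F] [Fintype F]

/-- **The subgroups of order divisible by `35` and not by `17`.** -/
theorem case_b (tab : OrderTable.{0}) (hK : Kn) (hF : Fintype.card F = 2) {a b : F}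
    (hab : ∀ z₁ z₂ : F, z₁ ^ 2 + a * z₁ * z₂ + b * z₂ ^ 2 = 0 → z₁ = 0 ∧ z₂ = 0)
    (hc : Nat.card (POmega F (quadFormMinus 3 F a b)) = 197406720)
    {R : Subgroup (POmega F (quadFormMinus 3 F a b))} (h17 : ¬ 17 ∣ Nat.card R) (h7 : 7 ∣ Nat.card R)
    (h5 : 5 ∣ Nat.card R) : (∀ x ∈ R, orderOf x ≠ 21) ∨ ∀ x ∈ R, orderOf x ≠ 9 := by
  have hfin : Finite (POmega F (quadFormMinus 3 F a b)) := Quotient.finite _
  have hQ : Nondeg (quadMinus 3 F a b) := nondeg_iff.2 (quadMinus_nondegenerate hab)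
  have hD : H390.Lift.Data (quadMinus 3 F a b) := data_minus (m := 4) le_rfl hab
  have hd : Nat.card R ∣ 11612160 := by
    have h1 : Nat.card R ∣ 17 * 11612160 := by
      have := Subgroup.card_subgroup_dvd_card R
      rwa [hc] at this
    exact ((Nat.Prime.coprime_iff_not_dvd (by norm_num)).2 h17).symm.dvd_of_dvd_mul_left h1
  have h35 : ∀ x : POmega F (quadFormMinus 3 F a b), orderOf x ≠ 35 := by
    have h : ∀ x : POmega F (⇑(quadMinus 3 F a b)), orderOf x ≠ 35 := by
      intro x hx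
      obtain ⟨g, h1, h2⟩ := exists_lin_iso hD (by decide) hx
      exact no_35 hF hQ h1 h2 (by rw [finrank_V]; simp)
    rw [coe_quadMinus] at h
    exact h
  have h97 : ∀ s z : POmega F (quadFormMinus 3 F a b), orderOf s = 7 → orderOf z = 9 → ¬ Commute s (z ^ 3) := by
    have h : ∀ s z : POmega F (⇑(quadMinus 3 F a b)), orderOf s = 7 → orderOf z = 9 → ¬ Commute s (z ^ 3) := by
      intro s z hs hz hcm
      exact no_nine_pomega hF hQ hD (by simp) hs hz hcm
    rw [coe_quadMinus] at h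
    exact h
  rcases case_abs tab hK hd h7 h5 (fun x hx => h35 x (by rw [Subgroup.orderOf_coe, hx]))
    (fun s z hs hz hcm => h97 s z (by rw [Subgroup.orderOf_coe, hs]) (by rw [Subgroup.orderOf_coe, hz])
      (congrArg Subtype.val hcm.eq)) with h | h
  · exact Or.inl fun x hx ho => h ⟨x, hx⟩ (by rw [← ho, ← Subgroup.orderOf_coe])
  · exact Or.inr fun x hx ho => h ⟨x, hx⟩ (by rw [← ho, ← Subgroup.orderOf_coe])

theorem sub17 : ((divs [(2, 12), (3, 4), (5, 1), (7, 1), (17, 1)]).filter fun h => h % 17 == 0 &&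
    (feasAll [(17, 1, 4)] [2, 3, 5, 7, 17] [60, 168, 360, 504, 2448, 2520, 4080, 6048, 20160, 25920, 181440, 1451520,
      197406720] h)).all (fun h => (h == 197406720) || (h % 7 != 0 && h % 9 != 0)) = true := by decide +kernel

/-- **The row of `Ω₈⁻(2)`.** -/
theorem rowS_o8m2 (tab : OrderTable.{0}) (hK : Kn) {F : Type} [Field F] [Fintype F] (hF : Fintype.card F = 2) {a b : F}
    (hab : ∀ z₁ z₂ : F, z₁ ^ 2 + a * z₁ * z₂ + b * z₂ ^ 2 = 0 → z₁ = 0 ∧ z₂ = 0) :
    RowS (Cfsg.POmega F (Cfsg.quadFormMinus 3 F a b)) := by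
  have hc : Nat.card (POmega F (quadFormMinus 3 F a b)) = 197406720 := card_o8m hF a b hab
  have hfin : Finite (POmega F (quadFormMinus 3 F a b)) := Quotient.finite _
  have hsim : IsSimpleGroup (POmega F (quadFormMinus 3 F a b)) := S0297.result 4 le_rfl a b hab
  have hcF : Nat.card F = 2 := by rw [Nat.card_eq_fintype_card, hF]
  have hf1 : Nat.card (F ≃+* F) = 1 := Cfsg.Agent.Lib.FieldAutCard.card_ringAut (p := 2) (f := 1) le_rfl (by rw [hF, pow_one])
  have G : Gp F 4 (-1) 1 (POmega F (quadFormMinus 3 F a b)) := gp_minus_all (m := 4) le_rfl hab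
  have hD : Data (POmega F (quadFormMinus 3 F a b)) [(17, 1, 4)] [2, 3, 5, 7, 17] [60, 168, 360, 504, 2448, 2520, 4080,
      6048, 20160, 25920, 181440, 1451520, 197406720] := by
    refine mk_data tab hK (l := [(2, 12), (3, 4), (5, 1), (7, 1), (17, 1)]) hc (by decide +kernel) fun x hx => ?_
    rw [List.mem_singleton] at hx
    subst hx
    exact entry_of_ex (by norm_num) hc (by norm_num) (by norm_num) (by decide +kernel)
      (H732.SelfCent.omega8minus_selfcent hF a b hab)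
  have htw : Tw (POmega F (quadFormMinus 3 F a b)) 17 :=
    G.two (k := 4) (ε := -1) (by norm_num) (Or.inr ⟨rfl, rfl⟩) (Or.inr rfl) (by decide) (by norm_num)
      (eltS_minus (by norm_num) (by decide) (by rw [hcF]; norm_num)) (by
        rw [hf1, Nat.totient_prime (by norm_num)]
        norm_num)
  have h9 : ∃ x : POmega F (quadFormMinus 3 F a b), orderOf x = 9 :=
    G.of_odd (by decide) (by
      have h1 := (elt_tor_minus (F := F) (k := 3) (N := 9) (by norm_num) (by rw [hcF]; norm_num)).add le_rfl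
        (ε' := 1) (Or.inl rfl)
      simpa using h1)
  have h21 : ∃ x : POmega F (quadFormMinus 3 F a b), orderOf x = 21 :=
    G.of_odd (by decide) (by
      have h1 := (elt_tor_plus (F := F) (k := 3) (N := 7) (by norm_num) (by rw [hcF]; norm_num)).prod
        (elt_tor_minus (F := F) (k := 1) (N := 3) (by norm_num) (by rw [hcF]; norm_num))
      have h2 : Nat.lcm 7 3 = 21 := by decide
      rw [h2] at h1
      simpa using h1)
  have h7 : ∃ x : POmega F (quadFormMinus 3 F a b), orderOf x = 7 := by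
    have : Fact (Nat.Prime 7) := ⟨by norm_num⟩
    exact exists_prime_orderOf_dvd_card' 7 (by rw [hc]; norm_num)
  have h5 : ∃ x : POmega F (quadFormMinus 3 F a b), orderOf x = 5 := by
    have : Fact (Nat.Prime 5) := ⟨by norm_num⟩
    exact exists_prime_orderOf_dvd_card' 5 (by rw [hc]; norm_num)
  refine RowS.of_three fun M hM => ?_
  have hmiss : ∀ v n : ℕ, v ∣ n → ¬ v ∣ Nat.card M → ∀ x ∈ M, orderOf x ≠ n := by
    intro v n hvn hv x hx ho
    apply hv
    refine hvn.trans ?_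
    rw [← ho]
    have := orderOf_dvd_natCard (⟨x, hx⟩ : M)
    rwa [← Subgroup.orderOf_coe] at this
  by_cases h17 : 17 ∣ Nat.card M
  · have h1 := sub17
    rw [List.all_eq_true] at h1
    have h2 := h1 (Nat.card M) (by
      rw [List.mem_filter]
      refine ⟨mem_divs_of_valid (by decide +kernel : valid _ 197406720 = true)
        (hc ▸ Subgroup.card_subgroup_dvd_card M), bandI ?_ (hD.feas M)⟩
      rw [beq_iff_eq]
      exact Nat.mod_eq_zero_of_dvd h17)
    have h3 : Nat.card M ≠ 197406720 := fun h => hM.1 (Subgroup.eq_top_of_card_eq M (by rw [h, hc]))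
    have h4 : ¬ 7 ∣ Nat.card M ∧ ¬ 9 ∣ Nat.card M := by
      rw [Bool.or_eq_true, beq_iff_eq, Bool.and_eq_true, bne_iff_ne, bne_iff_ne] at h2
      rcases h2 with h2 | h2
      · exact absurd h2 h3
      · exact ⟨fun h => h2.1 (Nat.mod_eq_zero_of_dvd h), fun h => h2.2 (Nat.mod_eq_zero_of_dvd h)⟩
    obtain ⟨x, hx⟩ := h7
    obtain ⟨y, hy⟩ := h21
    obtain ⟨z, hz⟩ := h9
    exact Three.of_orders (by norm_num) (by norm_num) (by norm_num) hx hy hz (hmiss 7 7 dvd_rfl h4.1)
      (hmiss 7 21 (by norm_num) h4.1) (hmiss 9 9 dvd_rfl h4.2)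
  · have h17' := hmiss 17 17 dvd_rfl h17
    by_cases h7M : 7 ∣ Nat.card M
    swap
    · exact htw.three h17' h7 (hmiss 7 7 dvd_rfl h7M) (by norm_num)
    by_cases h5M : 5 ∣ Nat.card M
    swap
    · exact htw.three h17' h5 (hmiss 5 5 dvd_rfl h5M) (by norm_num)
    rcases case_b tab hK hF hab hc h17 h7M h5M with h | h
    · exact htw.three h17' h21 h (by norm_num)
    · exact htw.three h17' h9 h (by norm_num)

end Cfsg.Agent.H188.Der.O8m
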