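import Cfsg.Agent.H188.Der.Str
import Cfsg.Agent.H188.Der.GeoO
import Cfsg.Agent.H188.Der.AutNo
import Cfsg.Agent.H503.El.CG

/-!
# Subgroups of `Ω₈⁻(2)` of order divisible by `35` and not by `17` (helper188, S3502)
-/

set_option autoImplicit false
set_option linter.unusedSectionVars false

namespace Cfsg.Agent.H188.Der.O8m

open Module QuadraticMap Cfsg Cfsg.Geo Cfsg.Agent.LieClassical.OrthCore Cfsg.Agent.H955 Cfsg.Agent.H954.TSing
  Cfsg.Agent.H884.El Cfsg.Agent.LieClassical.OmegaReindex Cfsg.Agent.H938.Sax Cfsg.Agent.H320.Der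
  Cfsg.Agent.H188.Der.GeoO Cfsg.Agent.H188.Der.AutNo Subgroup Cfsg.Agent.OrdDiv
open Cfsg.Agent.H951 (fx cm)
open scoped MatrixGroups Matrix

universe u v

section lin

variable {F : Type u} [Field F] [Fintype F] {V : Type v} [AddCommGroup V] [Module F V] [FiniteDimensional F V]
  {Q : QuadraticForm F V}

theorem pp5 (hF : Fintype.card F = 2) : PP (Nat.card F) 4 5 := pp_of_card hF (by norm_num) (by
  refine (orderOf_eq_iff (by norm_num)).2 ⟨by decide, fun m hm hm0 => ?_⟩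
  interval_cases m <;> decide)

theorem no_35 (hF : Fintype.card F = 2) {g : Module.End F V} (hQ : Nondeg Q) (hg : ∀ v, Q (g v) = Q v)
    (ho : orderOf g = 35) (hd : finrank F V ≤ 8) : False := by
  have hgo : g ^ 35 = 1 := by rw [← ho]; exact pow_orderOf_eq_one g
  have hne : ∀ n : ℕ, ¬ 35 ∣ n → g ^ n ≠ 1 := fun n hn h => hn (by rw [← ho]; exact orderOf_dvd_of_pow_eq_one h)
  have hx : Iso Q (g ^ 5) 7 := Iso.mk' (pp7 hF) (by omega) (by rw [← pow_mul, hgo]) (iso_pow hg 5)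
  have hy : Iso Q (g ^ 7) 5 := Iso.mk' (pp5 hF) (by omega) (by rw [← pow_mul, hgo]) (iso_pow hg 7)
  have hx1 : g ^ 5 ≠ 1 := hne 5 (by decide)
  have hy1 : g ^ 7 ≠ 1 := hne 7 (by decide)
  have hxy : g ^ 5 * g ^ 7 = g ^ 7 * g ^ 5 := by rw [← pow_add, ← pow_add]
  have h6 := (hx.odd_case hQ hx1 (pp7 hF) (by decide) (by omega)).1
  have h3 := hx.dvd (pp7 hF) (W := cm (g ^ 7)) (Typ.inv_cm_of_comm hxy.symm)
  have h4 := hy.dvd (pp5 hF) (W := cm (g ^ 5)) (Typ.inv_cm_of_comm hxy)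
  rw [inf_comm] at h3
  have h5 : finrank F ↥(cm (g ^ 5) ⊓ cm (g ^ 7)) ≤ finrank F (cm (g ^ 5)) := Submodule.finrank_mono inf_le_left
  have h0 : cm (g ^ 5) ⊓ cm (g ^ 7) = ⊥ := Submodule.finrank_eq_zero.1 (by omega)
  have h7 := Typ.cm_le_fx hQ hx hy (le_fx_of_inf hy hxy h0)
  have h8 := hx.finrank_add
  have h9 : finrank F (cm (g ^ 7)) ≤ finrank F (fx (g ^ 5)) := Submodule.finrank_mono h7
  have h10 := hy.dvd_cm (pp5 hF)
  have h11 : finrank F (cm (g ^ 7)) ≠ 0 := fun h0 => cm_ne_bot hy1 (Submodule.finrank_eq_zero.1 h0)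
  omega

end lin

/-- a prime `r` not joined to `p` divides the order of the normal subgroup `L` -/
theorem dvd_of_cent {G : Type*} [Group G] [Finite G] {p r : ℕ} (hp : p.Prime) (hr : r.Prime) (hpr : p ≠ r)
    {L : Subgroup G} (hL : L.Normal) (hpL : p ∣ Nat.card L) (hp2 : ¬ p ^ 2 ∣ Nat.card G) (hrG : r ∣ Nat.card G)
    (hrp : ¬ r ∣ p - 1) (hno : ∀ x : G, orderOf x ≠ p * r) : r ∣ Nat.card L := by
  by_contra hrL
  have hpf : Fact p.Prime := ⟨hp⟩
  obtain ⟨y, hy⟩ := exists_prime_orderOf_dvd_card' p hpL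
  obtain ⟨s, hs, hc⟩ := exists_cent (N := 1) hr hp hrG hL hrL
    (fun h => hp2 (h.trans (card_subgroup_dvd_card L))) (by
      intro k hk j hj h
      have h1 : k = 0 ∨ k = 1 := by omega
      rcases h1 with rfl | rfl
      · omega
      · by_contra hne
        have hj0 : j = 0 := by omega
        subst hj0
        rw [pow_one, pow_zero] at h
        exact hrp ((Nat.modEq_iff_dvd' hp.one_lt.le).1 h.symm)) y.2 (n := 1) (by
      rw [pow_one, ← hy, ← Subgroup.orderOf_coe, pow_orderOf_eq_one])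
  apply hno (y * s)
  rw [hc.symm.orderOf_mul_eq_mul_orderOf_of_coprime, hs, Subgroup.orderOf_coe, hy]
  rw [hs, Subgroup.orderOf_coe, hy]
  exact (Nat.coprime_primes hp hr).2 hpr

/-- elements of order `n` of a quotient lift -/
theorem no_quot {R : Type*} [Group R] [Finite R] {K : Subgroup R} [K.Normal] {n : ℕ} (hno : ∀ x : R, orderOf x ≠ n)
    (x : R ⧸ K) : orderOf x ≠ n := by
  intro hx
  obtain ⟨g, rfl⟩ := QuotientGroup.mk'_surjective K x
  have h1 : n ∣ orderOf g := by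
    rw [← hx]
    exact orderOf_map_dvd _ g
  exact hno _ (orderOf_pow_orderOf_div (orderOf_pos g).ne' h1)

/-- elements of order `n` prime to `|K|` -/
theorem no_of_quot {R : Type*} [Group R] [Finite R] {K : Subgroup R} [K.Normal] {n : ℕ}
    (hn : n.Coprime (Nat.card K)) (hno : ∀ x : R ⧸ K, orderOf x ≠ n) (x : R) : orderOf x ≠ n := by
  intro hx
  apply hno (QuotientGroup.mk' K x)
  apply Nat.dvd_antisymm
  · rw [← hx]
    exact orderOf_map_dvd _ x
  · have h1 : x ^ orderOf (QuotientGroup.mk' K x) ∈ K := by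
      rw [← QuotientGroup.eq_one_iff]
      exact pow_orderOf_eq_one (QuotientGroup.mk' K x)
    have h2 : orderOf (x ^ orderOf (QuotientGroup.mk' K x)) ∣ Nat.card K := by
      have := orderOf_dvd_natCard (⟨_, h1⟩ : K)
      rwa [← Subgroup.orderOf_coe] at this
    have h3 : orderOf (x ^ orderOf (QuotientGroup.mk' K x)) ∣ n := by
      rw [← hx]
      exact orderOf_pow_dvd _
    have h4 : orderOf (x ^ orderOf (QuotientGroup.mk' K x)) = 1 := Nat.Coprime.eq_one_of_dvd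
      (Nat.Coprime.coprime_dvd_left h3 hn) h2
    rw [← hx]
    exact orderOf_dvd_of_pow_eq_one (orderOf_eq_one_iff.1 h4)

theorem noAut_psp32 {S : Type} [Group S] (h : Real (.psp 3 2) S) : Blk S 1 21 := by
  obtain ⟨F, _, _, hF, ⟨e⟩⟩ := h
  have : Fact (Nat.Prime 2) := ⟨Nat.prime_two⟩
  have := charP_of Nat.prime_two le_rfl (show Fintype.card F = 2 ^ 1 by rw [hF, pow_one])
  have h1 := Cfsg.Agent.S0814.result (F := F) 2 1 le_rfl (by rw [hF, pow_one]) 3 (by omega) (fun h => by omega)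
  rw [if_neg (fun h => by omega), one_mul] at h1
  refine Blk.congr e ⟨_, ?_, h1, psp_of_lm (by omega) (lm21 hF) (by norm_num)⟩
  exact Nat.mul_dvd_mul_right ((Nat.gcd_dvd_left _ _).trans (by decide)) 1

end Cfsg.Agent.H188.Der.O8m
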