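import Cfsg.Agent.Lib.Cores
import Cfsg.Agent.H500.SocleSimple
import Cfsg.Agent.H843.Syl
import Cfsg.Agent.H188.Der.GrpB

/-!
# Groups whose Sylow `p`-subgroups have order `p`: the nonabelian chief factor (helper188, S3502)

* `layer` : the minimal normal subgroup of a group with trivial `O_{p'}`
* `exists_factor` : `K = O_{p'}(R)`, the simple socle of `R / K`, if some prime `r` is not joined to `p`
* `exists_cent` : elements of order `p` centralizing a given element of prime order `t` of `K`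
-/

set_option autoImplicit false

namespace Cfsg.Agent.H188.Der

open Cfsg Subgroup

theorem eqConj_of_sq {G : Type*} [Group G] [Finite G] {p : ℕ} (hp : p.Prime) (hpp : ¬ p ^ 2 ∣ Nat.card G) :
    Cfsg.Agent.H501.EqConj p G := by
  intro H K hH hK hc
  have hf : Fact p.Prime := ⟨hp⟩
  obtain ⟨n, hn⟩ := IsPGroup.iff_card.1 hH
  have hn2 : n < 2 := by
    by_contra h
    apply hpp
    refine (pow_dvd_pow p (not_lt.1 h)).trans ?_
    rw [← hn]
    exact card_subgroup_dvd_card _
  interval_cases n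
  · rw [pow_zero] at hn
    have h1 := Subgroup.eq_bot_of_card_eq H hn
    have h2 := Subgroup.eq_bot_of_card_eq K (hc.symm.trans hn)
    exact ⟨1, by rw [h1, h2, Subgroup.map_bot]⟩
  · rw [pow_one] at hn
    obtain ⟨g, hg⟩ := Cfsg.Agent.H843.Syl.exists_conj hp hpp H K hn (hc.symm.trans hn)
    exact ⟨g, hg.symm⟩

theorem layer {G : Type*} [Group G] [Finite G] {p : ℕ} (hp : p.Prime) (hpG : p ∣ Nat.card G)
    (hpp : ¬ p ^ 2 ∣ Nat.card G) (hc : pPrimeCore p G = ⊥) :
    ∃ L : Subgroup G, L.Normal ∧ p ∣ Nat.card L ∧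
      (Nat.card L = p ∨ (IsSimpleGroup L ∧ ¬ IsMulCommutative L ∧ centralizer (L : Set G) = ⊥)) := by
  have hf : Fact p.Prime := ⟨hp⟩
  have hdvd : ∀ K : Subgroup G, K.Normal → K ≠ ⊥ → p ∣ Nat.card K := by
    intro K hK hK1
    by_contra h
    apply hK1
    rw [eq_bot_iff, ← hc]
    exact Lib.Cores.le_pPrimeCore hK ((Nat.Prime.coprime_iff_not_dvd hp).2 h).symm
  have htop : (⊤ : Subgroup G) ≠ ⊥ := by
    intro h
    have h1 : Nat.card (⊤ : Subgroup G) = 1 := by rw [h, Subgroup.card_bot]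
    rw [Subgroup.card_top] at h1
    rw [h1] at hpG
    exact hp.one_lt.ne' (Nat.dvd_one.1 hpG)
  obtain ⟨L, hLn, hL1, -, hLmin⟩ := Cfsg.Agent.H500.exists_minimal_normal (⊤ : Subgroup G) inferInstance htop
  have hpL : p ∣ Nat.card L := hdvd L hLn hL1
  refine ⟨L, hLn, hpL, ?_⟩
  have hppL : ¬ p ^ 2 ∣ Nat.card L := fun h => hpp (h.trans (card_subgroup_dvd_card L))
  by_cases hab : ∀ y ∈ L, ∀ z ∈ L, Commute y z
  · left
    obtain ⟨q, hq, hqg, -⟩ := Lib.MinNormalNonabelian.abelian_structure L hL1 hLmin hab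
    have hqf : Fact q.Prime := ⟨hq⟩
    obtain ⟨n, hn⟩ := IsPGroup.iff_card.mp hqg
    have hqp : q = p := by
      rw [hn] at hpL
      exact ((Nat.prime_dvd_prime_iff_eq hp hq).mp (hp.dvd_of_dvd_pow hpL)).symm
    subst hqp
    have hn1 : n = 1 := by
      have hn0 : n ≠ 0 := by
        rintro rfl
        rw [hn, pow_zero] at hpL
        exact hq.one_lt.ne' (Nat.dvd_one.mp hpL)
      by_contra hne
      exact hppL (by rw [hn]; exact pow_dvd_pow q (by omega))
    rw [hn, hn1, pow_one]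
  · right
    have hs : IsSimpleGroup L :=
      Cfsg.Agent.H500.isSimpleGroup_of_minimal (eqConj_of_sq hp hpp) L hLmin hab hpL
    refine ⟨hs, ?_, ?_⟩
    · intro hcomm
      apply hab
      intro y hy z hz
      exact congrArg Subtype.val (hcomm.is_comm.comm ⟨y, hy⟩ ⟨z, hz⟩)
    · by_contra hne
      have hCn : (centralizer (L : Set G)).Normal := inferInstance
      have h1 := hdvd _ hCn hne
      -- the centre of `L` is trivial
      have hdis : L ⊓ centralizer (L : Set G) = ⊥ := by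
        rcases hLmin _ (inferInstance : (L ⊓ centralizer (L : Set G)).Normal) inf_le_left with h2 | h2
        · exact h2
        · exfalso
          apply hab
          intro y hy z hz
          have h3 : z ∈ L ⊓ centralizer (L : Set G) := by rw [h2]; exact hz
          exact mem_centralizer_iff.1 h3.2 y hy
      apply hpp
      have h2 : Nat.card L * Nat.card (centralizer (L : Set G)) ∣ Nat.card G := by
        have h3 : Nat.card (L ⊔ centralizer (L : Set G) : Subgroup G) = Nat.card L * Nat.card (centralizer (L : Set G)) := by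
          have h4 := Subgroup.card_mul_index (L.subgroupOf (L ⊔ centralizer (L : Set G)))
          rw [Nat.card_congr (Subgroup.subgroupOfEquivOfLe (le_sup_left : L ≤ L ⊔ centralizer (L : Set G))).toEquiv] at h4
          rw [← h4]
          congr 1
          show L.relIndex (L ⊔ centralizer (L : Set G)) = _
          rw [Subgroup.relIndex_sup_left, ← Subgroup.inf_relIndex_right, hdis, Subgroup.relIndex_bot_left]
        rw [← h3]
        exact card_subgroup_dvd_card _
      rw [pow_two]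
      exact (Nat.mul_dvd_mul hpL h1).trans h2

/-- **Frattini.** An element of order `p` centralizing a given `t`-element of a normal `p'`-subgroup -/
theorem exists_cent {R : Type*} [Group R] [Finite R] {p t N : ℕ} (hp : p.Prime) (ht : t.Prime)
    (hpR : p ∣ Nat.card R) {K : Subgroup R} (hK : K.Normal) (hpK : ¬ p ∣ Nat.card K) (hN : ¬ t ^ (N + 1) ∣ Nat.card K)
    (hnum : ∀ k ≤ N, ∀ j ≤ k, t ^ k ≡ t ^ j [MOD p] → j = k) {y : R} (hyK : y ∈ K) {n : ℕ} (hy : y ^ t ^ n = 1) :
    ∃ s : R, orderOf s = p ∧ Commute s y := by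
  have hpf : Fact p.Prime := ⟨hp⟩
  have htf : Fact t.Prime := ⟨ht⟩
  have hz : IsPGroup t (zpowers (⟨y, hyK⟩ : K)) := by
    rintro ⟨x, hx⟩
    obtain ⟨m, rfl⟩ := mem_zpowers_iff.1 hx
    refine ⟨n, Subtype.ext ?_⟩
    have h1 : (⟨y, hyK⟩ : K) ^ t ^ n = 1 := Subtype.ext hy
    show ((⟨y, hyK⟩ : K) ^ m) ^ t ^ n = 1
    rw [← zpow_natCast, ← zpow_mul, mul_comm, zpow_mul, zpow_natCast, h1, one_zpow]
  obtain ⟨Q, hQ⟩ := hz.exists_le_sylow
  have hfr := Sylow.normalizer_sup_eq_top Q
  set Q' : Subgroup R := (Q : Subgroup K).map K.subtype with hQ'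
  have hyQ : y ∈ Q' := ⟨⟨y, hyK⟩, hQ (mem_zpowers _), rfl⟩
  -- `p` divides the order of the normalizer
  have h1 : p ∣ Nat.card (normalizer (Q' : Set R)) := by
    have h2 : Nat.card (normalizer (Q' : Set R) ⊔ K : Subgroup R) ∣ Nat.card K * Nat.card (normalizer (Q' : Set R)) := by
      rw [sup_comm]
      exact Lib.Cores.card_sup_dvd K _ hK
    rw [hfr, Subgroup.card_top] at h2
    exact ((Nat.Prime.dvd_mul hp).1 (hpR.trans h2)).resolve_left hpK
  obtain ⟨s, hs⟩ := exists_prime_orderOf_dvd_card' p h1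
  refine ⟨s, by rw [Subgroup.orderOf_coe, hs], ?_⟩
  obtain ⟨k, hk⟩ := IsPGroup.iff_card.1 (Q.2.map K.subtype)
  have hkN : k ≤ N := by
    by_contra hlt
    apply hN
    refine (pow_dvd_pow t (show N + 1 ≤ k by omega)).trans ?_
    rw [← hk, Subgroup.card_map_of_injective (Subgroup.subtype_injective _)]
    exact card_subgroup_dvd_card _
  have h3 := card_modEq_fix (r := p) (y := (s : R)) (by rw [← hs, ← Subgroup.orderOf_coe, pow_orderOf_eq_one]) Q'
    (fun x hx => (Subgroup.mem_normalizer_iff.1 s.2 x).1 hx)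
  obtain ⟨j, hjk, hj⟩ : ∃ j ≤ k, Nat.card (Q' ⊓ centralizer ({(s : R)} : Set R) : Subgroup R) = t ^ j := by
    have h4 : Nat.card (Q' ⊓ centralizer ({(s : R)} : Set R) : Subgroup R) ∣ t ^ k := by
      rw [← hk]
      exact Subgroup.card_dvd_of_le inf_le_left
    exact (Nat.dvd_prime_pow ht).1 h4
  have hk' : Nat.card Q' = t ^ k := hk
  rw [hk', hj] at h3
  have h5 := hnum k hkN j hjk h3
  have h6 : Q' ⊓ centralizer ({(s : R)} : Set R) = Q' := by
    refine Subgroup.eq_of_le_of_card_ge inf_le_left ?_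
    rw [hj, hk', h5]
  have h7 : y ∈ Q' ⊓ centralizer ({(s : R)} : Set R) := by rw [h6]; exact hyQ
  have h8 := mem_centralizer_singleton_iff.1 h7.2
  exact h8.symm

/-- a prime `r` not joined to `p` does not divide `|O_{p'}|` -/
theorem not_dvd_core {R : Type*} [Group R] [Finite R] {p r : ℕ} (hp : p.Prime) (hr : r.Prime) (hpr : p ≠ r)
    (hpR : p ∣ Nat.card R) (hr2 : ¬ r ^ 2 ∣ Nat.card R) (hpr1 : ¬ p ∣ r - 1) (hno : ∀ x : R, orderOf x ≠ p * r)
    {K : Subgroup R} (hK : K.Normal) (hpK : ¬ p ∣ Nat.card K) : ¬ r ∣ Nat.card K := by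
  intro hrK
  have hrf : Fact r.Prime := ⟨hr⟩
  obtain ⟨y, hy⟩ := exists_prime_orderOf_dvd_card' r hrK
  obtain ⟨s, hs, hc⟩ := exists_cent (N := 1) hp hr hpR hK hpK
    (fun h => hr2 (h.trans (card_subgroup_dvd_card K))) (by
      intro k hk j hj h
      have h1 : k = 0 ∨ k = 1 := by omega
      rcases h1 with rfl | rfl
      · omega
      · by_contra hne
        have hj0 : j = 0 := by omega
        subst hj0
        rw [pow_one, pow_zero] at h
        exact hpr1 ((Nat.modEq_iff_dvd' hr.one_lt.le).1 h.symm)) y.2 (n := 1) (by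
      rw [pow_one, ← hy, ← Subgroup.orderOf_coe, pow_orderOf_eq_one])
  apply hno (s * y)
  rw [hc.orderOf_mul_eq_mul_orderOf_of_coprime, hs, Subgroup.orderOf_coe, hy]
  rw [hs, Subgroup.orderOf_coe, hy]
  exact (Nat.coprime_primes hp hr).2 hpr

theorem not_sq_quot {R : Type*} [Group R] [Finite R] {p : ℕ} {K : Subgroup R} [K.Normal]
    (h : ¬ p ^ 2 ∣ Nat.card R) : ¬ p ^ 2 ∣ Nat.card (R ⧸ K) := fun h1 =>
  h (h1.trans (by rw [Subgroup.card_eq_card_quotient_mul_card_subgroup K]; exact dvd_mul_right _ _))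

/-- **The nonabelian factor.** -/
theorem exists_factor {R : Type*} [Group R] [Finite R] {p r : ℕ} (hp : p.Prime) (hr : r.Prime) (hpr : p ≠ r)
    (hpR : p ∣ Nat.card R) (hp2 : ¬ p ^ 2 ∣ Nat.card R) (hrR : r ∣ Nat.card R) (hr2 : ¬ r ^ 2 ∣ Nat.card R)
    (hpr1 : ¬ p ∣ r - 1) (hrp1 : ¬ r ∣ p - 1) (hno : ∀ x : R, orderOf x ≠ p * r) :
    ∃ (K : Subgroup R) (_ : K.Normal), ¬ p ∣ Nat.card K ∧ ¬ r ∣ Nat.card K ∧
      ∃ L : Subgroup (R ⧸ K), L.Normal ∧ p ∣ Nat.card L ∧ IsSimpleGroup L ∧ ¬ IsMulCommutative L ∧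
        centralizer (L : Set (R ⧸ K)) = ⊥ := by
  have hpf : Fact p.Prime := ⟨hp⟩
  have hrf : Fact r.Prime := ⟨hr⟩
  have hK : (pPrimeCore p R).Normal := Lib.Cores.pPrimeCore_normal p
  have hpK : ¬ p ∣ Nat.card (pPrimeCore p R) := (Nat.Prime.coprime_iff_not_dvd hp).1 (Lib.Cores.pPrimeCore_coprime p).symm
  have hrK := not_dvd_core hp hr hpr hpR hr2 hpr1 hno hK hpK
  have hcard := Subgroup.card_eq_card_quotient_mul_card_subgroup (pPrimeCore p R)
  have hpQ : p ∣ Nat.card (R ⧸ pPrimeCore p R) := by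
    rw [hcard] at hpR
    exact ((Nat.Prime.dvd_mul hp).1 hpR).resolve_right hpK
  have hrQ : r ∣ Nat.card (R ⧸ pPrimeCore p R) := by
    rw [hcard] at hrR
    exact ((Nat.Prime.dvd_mul hr).1 hrR).resolve_right hrK
  obtain ⟨L, hLn, hpL, hL⟩ := layer hp hpQ (not_sq_quot hp2) (Lib.Cores.pPrimeCore_quotient_pPrimeCore p)
  refine ⟨pPrimeCore p R, hK, hpK, hrK, L, hLn, hpL, ?_⟩
  rcases hL with hL | hL
  · exfalso
    -- `R / C(L)` embeds in the automorphism group of a group of order `p`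
    have hdiv : Nat.card (R ⧸ pPrimeCore p R) ∣ Nat.card (centralizer (L : Set (R ⧸ pPrimeCore p R))) * (p - 1) := by
      have hcyc : IsCyclic L := isCyclic_of_prime_card hL
      set f : (R ⧸ pPrimeCore p R) →* MulAut L := MulAut.conjNormal with hf
      have hker : f.ker = centralizer (L : Set (R ⧸ pPrimeCore p R)) := by
        ext g
        rw [MonoidHom.mem_ker, mem_centralizer_iff]
        constructor
        · intro h l hl
          have h2 : (f g ⟨l, hl⟩ : R ⧸ pPrimeCore p R) = l := by rw [h]; rfl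
          rw [hf, MulAut.conjNormal_apply] at h2
          calc l * g = (g * l * g⁻¹) * g := by rw [h2]
            _ = g * l := by group
        · intro h
          apply MulEquiv.ext
          intro l
          apply Subtype.ext
          rw [hf, MulAut.conjNormal_apply]
          show g * (l : R ⧸ pPrimeCore p R) * g⁻¹ = l
          rw [← h l l.2, mul_inv_cancel_right]
      have h1 := f.ker.card_mul_index
      rw [Subgroup.index_ker, hker] at h1
      rw [← h1]
      refine Nat.mul_dvd_mul_left _ ?_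
      have h2 : Nat.card f.range ∣ Nat.card (MulAut L) := Subgroup.card_subgroup_dvd_card _
      rwa [IsCyclic.card_mulAut, hL, Nat.totient_prime hp] at h2
    have hrC : r ∣ Nat.card (centralizer (L : Set (R ⧸ pPrimeCore p R))) :=
      ((Nat.Prime.dvd_mul hr).1 (hrQ.trans hdiv)).resolve_right hrp1
    obtain ⟨y, hy⟩ := exists_prime_orderOf_dvd_card' r hrC
    obtain ⟨x, hx⟩ := exists_prime_orderOf_dvd_card' (G := L) p (by rw [hL])
    have hc : Commute (x : R ⧸ pPrimeCore p R) y := mem_centralizer_iff.1 y.2 x x.2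
    have ho : orderOf ((x : R ⧸ pPrimeCore p R) * y) = p * r := by
      rw [hc.orderOf_mul_eq_mul_orderOf_of_coprime, Subgroup.orderOf_coe, hx, Subgroup.orderOf_coe, hy]
      rw [Subgroup.orderOf_coe, hx, Subgroup.orderOf_coe, hy]
      exact (Nat.coprime_primes hp hr).2 hpr
    obtain ⟨g, hg⟩ := QuotientGroup.mk'_surjective (pPrimeCore p R) ((x : R ⧸ pPrimeCore p R) * y)
    rw [← hg] at ho
    have h1 : p * r ∣ orderOf g := by
      rw [← ho]
      exact orderOf_map_dvd _ g
    exact hno _ (orderOf_pow_orderOf_div (orderOf_pos g).ne' h1)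
  · exact hL

end Cfsg.Agent.H188.Der
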