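import Cfsg.Agent.H188.Der.Elt
import Cfsg.Agent.H188.Der.Grp48
import Cfsg.Agent.H410.DerPsuA
import Cfsg.Agent.H950.MCThreeA

/-!
# `RowS (PSU₃(3))` (helper188, task 2988)
-/

set_option autoImplicit false

namespace Cfsg.Agent.H188.Der

open Cfsg Cfsg.Geo Cfsg.Agent.H439.Der Cfsg.Agent.H918 Module Subgroup Cfsg.Agent.H322.Der
  Cfsg.Agent.ClassicalGeometry.PSUAutBasic Cfsg.Agent.LieClassical.HermSiegel
  Cfsg.Agent.LieClassical.HermBasic Cfsg.Agent.LieClassical.SUBasic
open scoped MatrixGroups Matrix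

/-- the centraliser of an element of order three has no subgroup of order eight -/
theorem not_eight_dvd {T : Type*} [Group T] [Finite T] {B U : Subgroup T} {c w : T} (h : RO T 3 3 8 B U c w)
    (hT : ¬ 3 ^ (3 + 1) ∣ Nat.card T) (hB : Nat.card B = 216) {y : T} (hy : orderOf y = 3) :
    ¬ 8 ∣ Nat.card (centralizer ({y} : Set T)) := by
  intro h8
  have h3f : Fact (Nat.Prime 3) := ⟨Nat.prime_three⟩
  have h2f : Fact (Nat.Prime 2) := ⟨Nat.prime_two⟩
  obtain ⟨g, hg⟩ := exists_conj_mem (k := 3) h.cardU hT (y := y) (n := 1) (by rw [pow_one, ← hy, pow_orderOf_eq_one])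
  have hg1 : g⁻¹ * y * g ≠ 1 := by
    intro h1
    have h2 : y = 1 := by
      have : y = g * (g⁻¹ * y * g) * g⁻¹ := by group
      rw [this, h1]; group
    rw [h2, orderOf_one] at hy
    omega
  have h3 : Nat.card (centralizer ({g⁻¹ * y * g} : Set T)) = Nat.card (centralizer ({y} : Set T)) := by
    have := card_cent_conj g⁻¹ y
    rwa [inv_inv] at this
  rw [← h3] at h8
  set u := g⁻¹ * y * g with hu
  obtain ⟨D, hD⟩ := Sylow.exists_subgroup_card_pow_prime (G := centralizer ({u} : Set T)) 2 (n := 3) h8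
  set D' : Subgroup T := D.map (centralizer ({u} : Set T)).subtype with hD'
  have hD'c : Nat.card D' = 8 := by
    rw [hD', Subgroup.card_map_of_injective (Subgroup.subtype_injective _), hD]; norm_num
  have hD'u : ∀ d ∈ D', Commute d u := by
    rintro _ ⟨d, -, rfl⟩
    exact Subgroup.mem_centralizer_singleton_iff.1 d.2
  have hD'B : D' ≤ B := fun d hd => h.mem_B_of_commute hg hg1 (hD'u d hd)
  have h16 : ¬ 2 ^ (3 + 1) ∣ Nat.card B := by rw [hB]; norm_num
  obtain ⟨P, hP⟩ := exists_sylow_zpowers (G := B) (p := 2) (y := (⟨c, h.cB⟩ : B)) (k := 3)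
    (by rw [Subgroup.orderOf_mk, h.oc]; norm_num) h16
  obtain ⟨Q, hQ⟩ := exists_sylow_of_card (T := B) (p := 2) (U := D'.subgroupOf B) (k := 3)
    (by rw [Nat.card_congr (Subgroup.subgroupOfEquivOfLe hD'B).toEquiv, hD'c]; norm_num) h16
  obtain ⟨b, hb⟩ := MulAction.exists_smul_eq B P Q
  have h5 : b * (⟨c, h.cB⟩ : B) * b⁻¹ ∈ (Q : Subgroup B) := by
    rw [← hb]
    refine ⟨⟨c, h.cB⟩, ?_, rfl⟩
    show (⟨c, h.cB⟩ : B) ∈ (P : Subgroup B)
    rw [hP]
    exact mem_zpowers _
  rw [hQ] at h5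
  have h6 : (b : T) * c * (b : T)⁻¹ ∈ D' := h5
  have h7 := hD'u _ h6
  have h8' : Commute ((b : T)⁻¹ * u * b) (c ^ 1) := by
    rw [pow_one]
    have h9 := h7.map (MulAut.conj (b : T)⁻¹).toMonoidHom
    have e1 : (MulAut.conj (b : T)⁻¹).toMonoidHom ((b : T) * c * (b : T)⁻¹) = c := by
      show (b : T)⁻¹ * ((b : T) * c * (b : T)⁻¹) * (b : T)⁻¹⁻¹ = c
      group
    have e2 : (MulAut.conj (b : T)⁻¹).toMonoidHom u = (b : T)⁻¹ * u * b := by
      show (b : T)⁻¹ * u * (b : T)⁻¹⁻¹ = _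
      rw [inv_inv]
    rw [e1, e2] at h9
    exact h9.symm
  have h10 : (b : T)⁻¹ * u * b ∈ U := by
    have := h.data.norm _ (B.inv_mem b.2) u hg
    rwa [inv_inv] at this
  have h11 := h.fix 1 (by norm_num) _ h10 h8'
  apply hg1
  have : u = (b : T) * ((b : T)⁻¹ * u * b) * (b : T)⁻¹ := by group
  rw [this, h11]; group

section Seven

variable {F : Type} [Field F] [Fintype F]

theorem pr_injective_three (hF : Fintype.card F = 3 ^ 2) : Function.Injective (pr 3 F 3) := by
  rw [injective_iff_map_eq_one]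
  intro g hg
  rw [pr_eq_one_iff] at hg
  have h1 := Cfsg.Agent.S0279.result hF 3 le_rfl
  have h2 : Nat.gcd 3 (3 + 1) = 1 := by decide
  rw [h2] at h1
  have h3 := Subgroup.eq_bot_of_card_eq _ h1
  rw [h3] at hg
  exact mem_bot.1 hg

theorem cent_seven' (hF : Fintype.card F = 3 ^ 2) {x g : PSU 3 F 3} (hx : orderOf x = 7) (hg : Commute g x) :
    g ∈ zpowers x := by
  obtain ⟨m, rfl⟩ := pr_surjective x
  obtain ⟨n, rfl⟩ := pr_surjective g
  have h1 : n * m = m * n := pr_injective_three hF (by rw [map_mul, map_mul]; exact hg.eq)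
  have h2 : suHom 3 F 3 n ∈ zpowers (suHom 3 F 3 m) := by
    refine Cfsg.Agent.H950.MC.cent_seven hF (suHom_mem m) ?_ (suHom_mem n) (by rw [← map_mul, h1, map_mul])
    rw [orderOf_injective _ suHom_injective, ← hx, orderOf_injective _ (pr_injective_three hF)]
  obtain ⟨k, hk⟩ := mem_zpowers_iff.1 h2
  rw [← map_zpow] at hk
  have h3 := suHom_injective hk
  exact mem_zpowers_iff.2 ⟨k, by rw [← map_zpow, h3]⟩

theorem order4 : orderOf (4 : ZMod 7) = 3 := by
  have : Fact (Nat.Prime 3) := ⟨Nat.prime_three⟩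
  exact orderOf_eq_prime (by decide) (by decide)

theorem xv3 : ((Cfsg.Agent.H403.NumTop.xv false 3 : ℤ) : ZMod 7) = 4 := by decide

theorem dec7 : ∀ k : ZMod 7, (∃ j < 3, k = 4 ^ j) → k ^ 2 = 1 → k = 1 := by decide

/-- the normaliser of a subgroup of order seven -/
theorem norm_seven (hF : Fintype.card F = 3 ^ 2) {x : PSU 3 F 3} (hx : orderOf x = 7) :
    Nat.card (normalizer (zpowers x : Set (PSU 3 F 3))) ∣ 21 := by
  have hfin : Finite (PSU 3 F 3) := Quotient.finite _
  have h7f : Fact (Nat.Prime 7) := ⟨by norm_num⟩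
  have h2f : Fact (Nat.Prime 2) := ⟨Nat.prime_two⟩
  have hC : Nat.card (centralizer ({x} : Set (PSU 3 F 3))) = 7 := by
    have h1 : centralizer ({x} : Set (PSU 3 F 3)) = zpowers x := by
      apply le_antisymm
      · intro g hg
        exact cent_seven' hF hx (Subgroup.mem_centralizer_singleton_iff.1 hg)
      · rw [zpowers_le]
        exact Subgroup.mem_centralizer_singleton_iff.2 rfl
    rw [h1, Nat.card_zpowers, hx]
  have hxv := xv3
  have hi : orderOf ((Cfsg.Agent.H403.NumTop.xv false 3 : ℤ) : ZMod 7) = 3 := by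
    rw [hxv]
    exact order4
  have hrF : ((7 : ℕ) : F) ≠ 0 := by
    have h3 : (3 : F) = 0 := by
      have := FiniteField.cast_card_eq_zero F
      rw [hF] at this
      have h9 : (3 : F) * 3 = 0 := by
        rw [← this]; push_cast; norm_num
      exact mul_self_eq_zero.1 h9
    intro h7
    push_cast at h7
    have : (1 : F) = 0 := by linear_combination h7 - 2 * h3
    exact one_ne_zero this
  have h1 := card_conjPow_mul x
  rw [hC] at h1
  have h2 := Cfsg.Agent.H410.DerPsu.card_conjPow_le hF (by norm_num : Nat.Prime 7) hi hrF hx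
  have h2N : ¬ 2 ∣ Nat.card (normalizer (zpowers x : Set (PSU 3 F 3))) := by
    intro hd
    obtain ⟨t, ht⟩ := exists_prime_orderOf_dvd_card' 2 hd
    have ht2 : (t : PSU 3 F 3) * t = 1 := by
      have h3 : t ^ 2 = 1 := by rw [← ht, pow_orderOf_eq_one]
      rw [pow_two] at h3
      exact congrArg Subtype.val h3
    have h3 := (Subgroup.mem_normalizer_iff.1 t.2 x).1 (mem_zpowers x)
    rw [← mem_powers_iff_mem_zpowers] at h3
    obtain ⟨k, hk⟩ := h3
    have hk' : (t : PSU 3 F 3) * x * (t : PSU 3 F 3)⁻¹ = x ^ k := hk.symm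
    obtain ⟨j, hj, hjk⟩ := Cfsg.Agent.H410.DerPsu.conj_exp_psu hF (by norm_num : Nat.Prime 7) hi hrF hx hk'
    rw [hxv] at hjk
    have h4 : x ^ (k * k) = x ^ 1 := by
      have h5 : (t : PSU 3 F 3) * (t * x * (t : PSU 3 F 3)⁻¹) * (t : PSU 3 F 3)⁻¹ = x ^ (k * k) := by
        rw [hk', ← conj_pow, hk', ← pow_mul]
      rw [← h5, pow_one]
      have h6 : (t : PSU 3 F 3)⁻¹ = t := inv_eq_of_mul_eq_one_left ht2
      rw [h6]
      calc (t : PSU 3 F 3) * (t * x * t) * t = (t * t) * x * (t * t) := by group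
        _ = x := by rw [ht2]; group
    rw [pow_eq_pow_iff_modEq, hx, ← ZMod.natCast_eq_natCast_iff] at h4
    push_cast at h4
    have h5 := dec7 (k : ZMod 7) ⟨j, hj, hjk⟩ (by rw [pow_two]; exact h4)
    have h6 : x ^ k = x := by
      have : x ^ k = x ^ 1 := by
        rw [pow_eq_pow_iff_modEq, hx, ← ZMod.natCast_eq_natCast_iff, h5]; norm_num
      rw [this, pow_one]
    rw [h6] at hk'
    have h7 : Commute (t : PSU 3 F 3) x := mul_inv_eq_iff_eq_mul.1 hk'
    have h8 := orderOf_dvd_card_of_mem (cent_seven' hF hx h7)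
    rw [Nat.card_zpowers, hx, Subgroup.orderOf_coe, ht] at h8
    revert h8; norm_num
  have h5 : 0 < Nat.card (normalizer (zpowers x : Set (PSU 3 F 3))) := Nat.card_pos
  rw [← h1] at h2N h5 ⊢
  generalize Nat.card (conjPow x) = n at h2 h2N h5 ⊢
  interval_cases n
  · omega
  · norm_num
  · exact absurd (by norm_num) h2N
  · norm_num

end Seven

end Cfsg.Agent.H188.Der
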