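import Cfsg.Agent.H188.Der.U33

/-!
# `RowS (PSU₃(3))`: the theorem (helper188, task 2988)
-/

set_option autoImplicit false

namespace Cfsg.Agent.H188.Der

open Cfsg Cfsg.Geo Cfsg.Agent.H439.Der Cfsg.Agent.H918 Module Subgroup Cfsg.Agent.H322.Der
  Cfsg.Agent.ClassicalGeometry.PSUAutBasic Cfsg.Agent.LieClassical.HermSiegel
  Cfsg.Agent.LieClassical.HermBasic Cfsg.Agent.LieClassical.SUBasic
open scoped MatrixGroups Matrix

/-- an element of order four of a cyclic group of order eight -/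
theorem four_in_eight {G : Type*} [Group G] [Finite G] {w z : G} (hw : orderOf w = 8) (hz : orderOf z = 4)
    (h : z ∈ zpowers w) : w ^ 2 ∈ zpowers z := by
  classical
  obtain ⟨n, hn8, hn⟩ : ∃ n < 8, w ^ n = z := by
    have h1 := mem_zpowers_iff_mem_range_orderOf.1 h
    rw [Finset.mem_image] at h1
    obtain ⟨n, hn, hn'⟩ := h1
    exact ⟨n, by rw [← hw]; exact Finset.mem_range.1 hn, hn'⟩
  rw [← hn, orderOf_pow, hw] at hz
  have h26 : n = 2 ∨ n = 6 := by
    have key : ∀ n < 8, 8 / Nat.gcd 8 n = 4 → n = 2 ∨ n = 6 := by decide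
    exact key n hn8 hz
  rcases h26 with rfl | rfl
  · rw [hn]; exact mem_zpowers z
  · refine mem_zpowers_iff.2 ⟨3, ?_⟩
    rw [← hn, zpow_ofNat, ← pow_mul, pow_eq_pow_iff_modEq, hw]
    decide

/-- and conversely -/
theorem four_in_eight' {G : Type*} [Group G] [Finite G] {w z f : G} (hw : orderOf w = 8) (hz : orderOf z = 4)
    (hf : orderOf f = 4) (h : z ∈ zpowers w) (h' : f ∈ zpowers w) : f ∈ zpowers z := by
  have h1 := four_in_eight hw hf h'
  have h2 := four_in_eight hw hz h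
  have e1 : zpowers (w ^ 2) = zpowers f := by
    refine Subgroup.eq_of_le_of_card_ge (zpowers_le.2 h1) ?_
    rw [Nat.card_zpowers, Nat.card_zpowers, hf, orderOf_pow, hw]
    decide
  have : f ∈ zpowers (w ^ 2) := by rw [e1]; exact mem_zpowers f
  exact (zpowers_le.2 h2) this

/-- normalisers of cyclic subgroups inside a subgroup -/
theorem card_norm_sub {T : Type*} [Group T] [Finite T] {M : Subgroup T} (x : M) :
    Nat.card (normalizer (zpowers x : Set M)) ∣ Nat.card (normalizer (zpowers (x : T) : Set T)) := by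
  have h1 : (normalizer (zpowers x : Set M)).map M.subtype ≤ normalizer (zpowers (x : T) : Set T) := by
    rintro _ ⟨g, hg, rfl⟩
    apply mem_normalizer_of
    have h2 := (Subgroup.mem_normalizer_iff.1 hg x).1 (mem_zpowers x)
    obtain ⟨n, hn⟩ := mem_zpowers_iff.1 h2
    exact mem_zpowers_iff.2 ⟨n, congrArg Subtype.val hn⟩
  have h2 := Subgroup.card_dvd_of_le h1
  rwa [Subgroup.card_map_of_injective (Subgroup.subtype_injective _)] at h2

/-- centralisers inside a subgroup -/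
theorem card_cent_sub {T : Type*} [Group T] [Finite T] {M : Subgroup T} (x : M) :
    Nat.card (centralizer ({x} : Set M)) ∣ Nat.card (centralizer ({(x : T)} : Set T)) := by
  have h1 : (centralizer ({x} : Set M)).map M.subtype ≤ centralizer ({(x : T)} : Set T) := by
    rintro _ ⟨g, hg, rfl⟩
    exact Subgroup.mem_centralizer_singleton_iff.2 (congrArg Subtype.val (Subgroup.mem_centralizer_singleton_iff.1 hg))
  have h2 := Subgroup.card_dvd_of_le h1
  rwa [Subgroup.card_map_of_injective (Subgroup.subtype_injective _)] at h2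

theorem rowS_u33 {F : Type} [Field F] [Fintype F] (hF : Fintype.card F = 3 ^ 2) : RowS (PSU 3 F 3) := by
  have hfin : Finite (PSU 3 F 3) := Quotient.finite _
  apply RowS.of_coatoms
  intro M hM
  obtain ⟨p, n, r, h, hchar⟩ := Cfsg.Agent.H947.El.exists_PN hF (by norm_num)
  have hp3 : p = 3 := by
    have h1 : p ∣ 3 := by
      have := h.qp
      rw [this]; exact dvd_pow_self p h.n0.ne'
    exact (Nat.prime_dvd_prime_iff_eq h.pp Nat.prime_three).1 h1
  subst hp3
  have hf3 : Fact (Nat.Prime 3) := ⟨Nat.prime_three⟩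
  have hf2 : Fact (Nat.Prime 2) := ⟨Nat.prime_two⟩
  have hrf : Fact r.Prime := ⟨h.pr⟩
  have hrT := (Cfsg.Agent.H947.El.psu3_orders hF h).1
  have hcT : Nat.card (PSU 3 F 3) = 6048 := by
    have hcard := Cfsg.Agent.H394.SqPsu3.card_psu3 hF
    norm_num at hcard
    omega
  have hr7 : r = 7 := by
    have h1 : r ∣ 2 ^ 5 * 3 ^ 3 * 7 := by rw [hcT] at hrT; norm_num; exact hrT
    have := h.ge
    have := h.n0
    rcases h.pr.dvd_mul.1 h1 with h3 | h3
    · rcases h.pr.dvd_mul.1 h3 with h4 | h4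
      · have := Nat.le_of_dvd (by norm_num) (h.pr.dvd_of_dvd_pow h4); omega
      · have := Nat.le_of_dvd (by norm_num) (h.pr.dvd_of_dvd_pow h4); omega
    · exact (Nat.prime_dvd_prime_iff_eq h.pr (by norm_num)).1 h3
  subst hr7
  -- the elements
  obtain ⟨xr, hxr⟩ := exists_prime_orderOf_dvd_card' 7 hrT
  obtain ⟨x12, hx12⟩ := exists_order_twelve hF
  obtain ⟨a, ha, hgen⟩ := exists_gen hF (by norm_num)
  have hao := orderOf_gen ha hgen
  obtain ⟨e1, e2, e3⟩ := reg_of_order (a := a) (by rw [hao]; norm_num)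
  obtain ⟨f4, hf4⟩ : ∃ f, f = pr 3 F 3 (tor 3 a ha) := ⟨_, rfl⟩
  have hf4o : orderOf f4 = 4 := by rw [hf4, orderOf_tor hF, hao]
  have hf4c : ∀ g : PSU 3 F 3, orderOf g = 3 → ¬ Commute g f4 := by
    intro g hg hc
    rw [hf4] at hc
    exact no_commute_tor (p := 3) hF ha e1 e2 e3 hg hc
  obtain ⟨B, U, c, w, hro⟩ := exists_ro (p := 3) hF (by norm_num)
  have hN : (3 ^ 2 - 1) / Nat.gcd 3 (3 + 1) = 8 := by decide
  rw [hN] at hro
  -- the regular unipotent element
  obtain ⟨u, huU, ⟨v, hvU, huv⟩, hu, -⟩ := hro.reg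
  have hcB : Nat.card B = 216 := by
    have := hro.card_B
    rw [hcT] at this
    norm_num at this
    omega
  have hcU : Nat.card U = 27 := by rw [hro.cardU]; norm_num
  have hu27 : orderOf u ∣ 27 := by rw [← hcU]; exact orderOf_dvd_card_of_mem huU
  have hT81 : ¬ 3 ^ (3 + 1) ∣ Nat.card (PSU 3 F 3) := by rw [hcT]; norm_num
  have hcent8 : ∀ g : PSU 3 F 3, Commute g (c ^ 1) → g ∈ zpowers c := fun g hg =>
    hro.cent (k := 1) (by norm_num) (by
      intro h3
      have h4 := orderOf_dvd_of_pow_eq_one h3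
      rw [hro.oc] at h4
      revert h4; norm_num) hg
  rcases Cfsg.Agent.S5778.result 3 hF le_rfl (pre M) (pre_max hM) with ⟨W, hW0, hWs, he⟩ | ⟨W, hW0, hWn, hW3, he⟩ |
    ⟨-, D, hD, he⟩ | ⟨h3, -⟩ | ⟨F₀, l, P, hl, hlo, hc, -, he⟩ | ⟨-, h7, -⟩ |
    ⟨p', R, hp', hqp, -, h11, -⟩ | hres
  · right
    have hW3 : 2 * finrank F W < 3 := by
      rw [finrank_one_of_iso hF hW0 hWs]; norm_num
    have hrM := r_point h hW0 hW3 (he.trans_le inf_le_left)
    have hmiss : ∀ φ : PSU 3 F 3 ≃* PSU 3 F 3, φ f4 ∉ M := by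
      rw [hf4]; exact borel_miss 3 hF hW0 hWs he ha e1 e2 e3
    refine ⟨two_of_prime_and h.pr hrT hrM (y := f4) (by rw [hf4o]; norm_num) hmiss, fun R hR => ?_⟩
    have hx : ∀ φ : PSU 3 F 3 ≃* PSU 3 F 3, φ xr ∉ R := fun φ hφ => not_mem_of_dvd hrM (by rw [hxr]) φ (hR.le hφ)
    have hy : ∀ φ : PSU 3 F 3 ≃* PSU 3 F 3, φ f4 ∉ R := fun φ hφ => hmiss φ (hR.le hφ)
    by_cases h8 : ∀ φ : PSU 3 F 3 ≃* PSU 3 F 3, φ c ∉ R
    · exact three_of hx hy h8 (by rw [hxr, hf4o]; norm_num) (by rw [hxr, hro.oc]; norm_num)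
        (by rw [hf4o, hro.oc]; norm_num)
    by_cases h4 : ∀ φ : PSU 3 F 3 ≃* PSU 3 F 3, φ u ∉ R
    · refine three_of hx hy h4 (by rw [hxr, hf4o]; norm_num) ?_ ?_
      · rw [hxr]
        intro h7
        rw [← h7] at hu27
        revert hu27; norm_num
      · rw [hf4o]
        intro h7
        rw [← h7] at hu27
        revert hu27; norm_num
    exfalso
    push Not at h8 h4
    obtain ⟨y, hy2, hy1, hyc⟩ := borel_comm 3 hF hW0 hWs he
    obtain ⟨g, hg⟩ := hro.eq_conj_B (k := 3) (by norm_num) hT81 hM hy2 hy1 hyc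
    set R' : Subgroup (PSU 3 F 3) := R.comap (MulAut.conj g).toMonoidHom with hR'
    have hR'B : R' < B := by rw [← hg]; exact comap_lt_comap (MulAut.conj g) hR
    -- the images of `c` and `u` in `R'`
    obtain ⟨ψ, hψ⟩ := h8
    obtain ⟨χ, hχ⟩ := h4
    have hc'R : (ψ.trans (MulAut.conj g).symm) c ∈ R' := by
      show (MulAut.conj g) ((MulAut.conj g).symm (ψ c)) ∈ R
      rw [MulEquiv.apply_symm_apply]; exact hψ
    have hu'R : (χ.trans (MulAut.conj g).symm) u ∈ R' := by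
      show (MulAut.conj g) ((MulAut.conj g).symm (χ u)) ∈ R
      rw [MulEquiv.apply_symm_apply]; exact hχ
    generalize ψ.trans (MulAut.conj g).symm = ψ' at hc'R
    generalize χ.trans (MulAut.conj g).symm = χ' at hu'R
    have hc'o : orderOf (ψ' c) = 8 := by rw [MulEquiv.orderOf_eq, hro.oc]
    have hu1 : u ≠ 1 := by
      rintro rfl
      exact huv (by rw [one_mul, mul_one])
    have hu'1 : χ' u ≠ 1 := by
      intro h1
      exact hu1 (χ'.injective (by rw [h1, map_one]))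
    have hnorm : ∀ b ∈ B, ∀ x ∈ U, b * x * b⁻¹ ∈ U := hro.data.norm
    have hu'U : χ' u ∈ U := mem_of_coprime hro.data.le hnorm (k := 8) (by rw [hcB, hcU]) (hR'B.le hu'R)
      (by
        rw [MulEquiv.orderOf_eq]
        exact Nat.Coprime.coprime_dvd_right hu27 (by decide))
    have h27 : ¬ 27 ∣ Nat.card (centralizer ({χ' u} : Set (PSU 3 F 3))) := by
      rw [card_cent_map]
      intro h27
      have h1 : centralizer ({u} : Set (PSU 3 F 3)) ≤ U := fun g hg =>
        hu g (Subgroup.mem_centralizer_singleton_iff.1 hg)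
      have h2 : centralizer ({u} : Set (PSU 3 F 3)) = U := by
        refine Subgroup.eq_of_le_of_card_ge h1 ?_
        rw [hcU]
        exact Nat.le_of_dvd Nat.card_pos h27
      rw [← h2] at hvU
      exact huv (Subgroup.mem_centralizer_singleton_iff.1 hvU).symm
    have hUR : U ≤ R' := le_of_27 hcU (fun b hb => hnorm b (hR'B.le hb)) hc'o hc'R hu'R hu'U hu'1
      (hro.reg_transport hu χ') h27
    have h1 : 27 ∣ Nat.card R' := by rw [← hcU]; exact Subgroup.card_dvd_of_le hUR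
    have h2 : 8 ∣ Nat.card R' := by rw [← hc'o]; exact orderOf_dvd_card_of_mem hc'R
    have h3 : 216 ∣ Nat.card R' := Nat.lcm_dvd h1 h2
    refine hR'B.ne (Subgroup.eq_of_le_of_card_ge hR'B.le ?_)
    rw [hcB]
    exact Nat.le_of_dvd Nat.card_pos h3
  · right
    have hrM := r_point h hW0 hW3 (he.trans_le inf_le_left)
    have hMc := point_card' hF (by norm_num) (by norm_num) hW0 hWn hW3 he
    have hM96 : Nat.card M ∣ 96 := by
      have h1 : 1 * Nat.card M ∣ 96 := by simpa using hMc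
      rwa [one_mul] at h1
    have hM9 : ¬ 3 ^ 2 ∣ Nat.card M := fun h9 => by
      have := h9.trans hM96
      revert this; norm_num
    obtain ⟨z3, hz3, hz3M⟩ := exists_missing_q hF (Or.inl rfl) hM9
    obtain ⟨k, hk⟩ := point_center hF (by norm_num) hW0 hWn hW3 (he.trans_le inf_le_left) ha
    set z := k * pr 3 F 3 (zel 3 a ha) * k⁻¹ with hz
    have hzo : orderOf z = 4 := by
      rw [hz, orderOf_conj, orderOf_zel hF ha hgen]; decide
    refine ⟨two_small hF (Or.inl rfl) h hrM hM9, fun R hR => ?_⟩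
    have hx : ∀ φ : PSU 3 F 3 ≃* PSU 3 F 3, φ xr ∉ R := fun φ hφ => not_mem_of_dvd hrM (by rw [hxr]) φ (hR.le hφ)
    have hy : ∀ φ : PSU 3 F 3 ≃* PSU 3 F 3, φ z3 ∉ R := fun φ hφ => hz3M φ (hR.le hφ)
    by_cases h3 : 3 ∣ Nat.card R
    swap
    · exact Three.of_not_SC h3 (not_SC_of_orderOf Nat.prime_three (y := x12) (by rw [hx12]; norm_num)
        (by rw [hx12]; norm_num)) hx (by rw [hxr]; norm_num)
    by_cases h8 : ∀ φ : PSU 3 F 3 ≃* PSU 3 F 3, φ c ∉ R
    · exact three_of hx hy h8 (by rw [hxr, hz3]; norm_num) (by rw [hxr, hro.oc]; norm_num)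
        (by rw [hz3, hro.oc]; norm_num)
    by_cases h4 : ∀ φ : PSU 3 F 3 ≃* PSU 3 F 3, φ f4 ∉ R
    · exact three_of hx hy h4 (by rw [hxr, hz3]; norm_num) (by rw [hxr, hf4o]; norm_num)
        (by rw [hz3, hf4o]; norm_num)
    exfalso
    push Not at h8 h4
    obtain ⟨ψ, hψ⟩ := h8
    obtain ⟨φ, hφ⟩ := h4
    have hc'o : orderOf (ψ c) = 8 := by rw [MulEquiv.orderOf_eq, hro.oc]
    have hzc : z ∈ zpowers (ψ c) := cent_transport ψ (k := 1) hcent8 z (by
      rw [pow_one]; exact (hk _ (hR.le hψ)).symm)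
    have hzR : z ∈ R := (zpowers_le.2 hψ) hzc
    have hc2z : ψ c ^ 2 ∈ zpowers z := four_in_eight hc'o hzo hzc
    have hc2 : ∀ g ∈ R, Commute g (ψ c ^ 2) := by
      intro g hg
      obtain ⟨n, hn⟩ := mem_zpowers_iff.1 hc2z
      rw [← hn]
      exact (hk _ (hR.le hg)).zpow_right n
    obtain ⟨y, hy⟩ := exists_prime_orderOf_dvd_card' 3 h3
    have h24 : 24 ∣ Nat.card R := by
      have h8' : 8 ∣ Nat.card R := by rw [← hc'o]; exact orderOf_dvd_card_of_mem hψ
      exact Nat.lcm_dvd h3 h8'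
    have hcR : Nat.card R = 24 ∨ Nat.card R = 48 := by
      have h1 : Nat.card R ∣ 96 := (Subgroup.card_dvd_of_le hR.le).trans hM96
      have h2 : Nat.card R ≠ 96 := by
        intro h96
        refine hR.ne (Subgroup.eq_of_le_of_card_ge hR.le ?_)
        rw [h96]
        exact Nat.le_of_dvd (by norm_num) hM96
      have key : ∀ n ∈ Nat.divisors 96, 24 ∣ n → n ≠ 96 → n = 24 ∨ n = 48 := by decide
      exact key _ (Nat.mem_divisors.2 ⟨h1, by norm_num⟩) h24 h2
    rcases hcR with hcR | hcR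
    · -- order `24`
      obtain ⟨g, hg⟩ := exists_conj_mem (T := R) (p := 2) (U := zpowers (⟨ψ c, hψ⟩ : R)) (k := 3)
        (by rw [Nat.card_zpowers, Subgroup.orderOf_mk, hc'o]; norm_num) (by rw [hcR]; norm_num)
        (y := (⟨φ f4, hφ⟩ : R)) (n := 2) (by
          apply Subtype.ext
          show (φ f4) ^ 2 ^ 2 = 1
          rw [← map_pow, show 2 ^ 2 = 4 by norm_num, ← hf4o, pow_orderOf_eq_one, map_one])
      have h1 : (g : PSU 3 F 3)⁻¹ * φ f4 * g ∈ zpowers (ψ c) := by
        obtain ⟨n, hn⟩ := mem_zpowers_iff.1 hg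
        exact mem_zpowers_iff.2 ⟨n, congrArg Subtype.val hn⟩
      have h2 : (g : PSU 3 F 3)⁻¹ * φ f4 * g ∈ zpowers z := by
        refine four_in_eight' hc'o hzo ?_ hzc h1
        have := orderOf_conj (g : PSU 3 F 3)⁻¹ (φ f4)
        rw [inv_inv] at this
        rw [this, MulEquiv.orderOf_eq, hf4o]
      obtain ⟨n, hn⟩ := mem_zpowers_iff.1 h2
      have h3 : φ f4 = z ^ n := by
        have h3 := ((hk _ (hR.le g.2)).zpow_right n).eq
        calc φ f4 = g * ((g : PSU 3 F 3)⁻¹ * φ f4 * g) * (g : PSU 3 F 3)⁻¹ := by group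
          _ = g * z ^ n * (g : PSU 3 F 3)⁻¹ := by rw [← hn]
          _ = z ^ n := by rw [h3, mul_inv_cancel_right]
      have h5 : Commute (y : PSU 3 F 3) (φ f4) := by
        rw [h3]
        exact (hk _ (hR.le y.2)).zpow_right n
      have h6 := h5.map φ.symm
      rw [MulEquiv.symm_apply_apply] at h6
      exact hf4c _ (by rw [MulEquiv.orderOf_eq, Subgroup.orderOf_coe, hy]) h6
    · -- order `48`
      refine no_48 hcR (y := y) (w := (⟨ψ c, hψ⟩ : R)) hy (by rw [Subgroup.orderOf_mk, hc'o])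
        (fun g => Subtype.ext (hc2 g g.2).eq) ?_
      intro h8
      exact not_eight_dvd hro hT81 hcB (y := (y : PSU 3 F 3)) (by rw [Subgroup.orderOf_coe, hy])
        (h8.trans (card_cent_sub y))
  · left
    have hor : ∀ g ∈ M, orderOf g ∣ 3 ∨ orderOf g ∣ 8 := fun g hg => dec_order hD (he.trans_le inf_le_left) hg
    have hx6 : orderOf (x12 ^ 2) = 6 := by rw [orderOf_pow, hx12]; rfl
    refine three_of (x := xr) (y := x12) (z := x12 ^ 2) (miss_of_order fun g hg hgo => ?_)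
      (miss_of_order fun g hg hgo => ?_) (miss_of_order fun g hg hgo => ?_) (by rw [hxr, hx12]; norm_num)
      (by rw [hxr, hx6]; norm_num) (by rw [hx12, hx6]; norm_num)
    · rcases hor g hg with h1 | h1 <;> rw [hgo, hxr] at h1 <;> revert h1 <;> norm_num
    · rcases hor g hg with h1 | h1 <;> rw [hgo, hx12] at h1 <;> revert h1 <;> norm_num
    · rcases hor g hg with h1 | h1 <;> rw [hgo, hx6] at h1 <;> revert h1 <;> norm_num
  · exact absurd rfl h3
  · exact (no_odd_root (Or.inl rfl) hl hlo (by rw [← hc, hF]; norm_num)).elim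
  · omega
  · omega
  · obtain ⟨P, hP, hqp, hcases⟩ := Cfsg.Agent.S5779.result 3 hF le_rfl (pre M) (pre_max hM) hres
    rcases hcases with ⟨⟨e⟩, -⟩ | ⟨-, h15⟩ | ⟨-, h5⟩
    · left
      have h12 : ∀ g ∈ M, orderOf g ≠ 12 := fun g hg => l32_no_twelve hF hP e hg
      have hM336 : Nat.card M ∣ 336 := (card_dvd_aut hF hP e).trans Cfsg.Agent.H907.Mx.card_aut_l32
      have hM9 : ¬ 3 ^ 2 ∣ Nat.card M := fun h9 => by
        have := h9.trans hM336
        revert this; norm_num
      obtain ⟨z3, hz3, hz3M⟩ := exists_missing_q hF (Or.inl rfl) hM9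
      have hy : ∀ φ : PSU 3 F 3 ≃* PSU 3 F 3, φ x12 ∉ M := miss_of_order fun g hg => by
        rw [hx12]; exact h12 g hg
      by_cases h7 : 7 ∣ Nat.card M
      swap
      · exact three_of (not_mem_of_dvd h7 (by rw [hxr])) hy hz3M (by rw [hxr, hx12]; norm_num)
          (by rw [hxr, hz3]; norm_num) (by rw [hx12, hz3]; norm_num)
      by_cases h8 : ∀ φ : PSU 3 F 3 ≃* PSU 3 F 3, φ c ∉ M
      · exact three_of h8 hy hz3M (by rw [hro.oc, hx12]; norm_num)
          (by rw [hro.oc, hz3]; norm_num) (by rw [hx12, hz3]; norm_num)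
      exfalso
      push Not at h8
      obtain ⟨ψ, hψ⟩ := h8
      have h7f : Fact (Nat.Prime 7) := ⟨by norm_num⟩
      obtain ⟨x, hx⟩ := exists_prime_orderOf_dvd_card' 7 h7
      refine no_seven_eight hM336 (x := x) (w := (⟨ψ c, hψ⟩ : M)) hx
        (by rw [Subgroup.orderOf_mk, MulEquiv.orderOf_eq, hro.oc])
        ((card_norm_sub x).trans (norm_seven hF (by rw [Subgroup.orderOf_coe, hx])))
    · omega
    · omega

end Cfsg.Agent.H188.Der
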