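import Cfsg.Agent.H188.Der.Elt

/-!
# `RowS (PSU₃(4))` (helper188, task 2988)
-/

set_option autoImplicit false

namespace Cfsg.Agent.H188.Der

open Cfsg Cfsg.Geo Cfsg.Agent.H439.Der Cfsg.Agent.H918 Module Subgroup Cfsg.Agent.H322.Der
  Cfsg.Agent.ClassicalGeometry.PSUAutBasic Cfsg.Agent.LieClassical.HermSiegel
  Cfsg.Agent.LieClassical.HermBasic Cfsg.Agent.LieClassical.SUBasic
open scoped MatrixGroups Matrix

/-- no proper subgroups of `5 × A₅` with elements of order `15`, involutions and `5²` -/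
theorem fin34 {T : Type*} [Group T] [Finite T] {B U : Subgroup T} {c w : T} (h : RO T 2 4 15 B U c w)
    {R : Subgroup T} (hcR : c ∈ R) (h25 : 25 ∣ Nat.card R) (h2 : 2 ∣ Nat.card R)
    (hR' : Nat.card R < 300) : False := by
  set y : R := ⟨c ^ 5, R.pow_mem hcR 5⟩ with hy
  set c' : R := ⟨c, hcR⟩ with hc'
  have hyc : y = c' ^ 5 := rfl
  have hc'o : orderOf c' = 15 := by rw [hc', Subgroup.orderOf_mk, h.oc]
  have hyo : orderOf y = 3 := by rw [hyc, orderOf_pow, hc'o]; rfl
  have h15 : 15 ∣ Nat.card R := by rw [← hc'o]; exact orderOf_dvd_natCard c'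
  have h150 : Nat.card R = 150 := by
    have h75 : 75 ∣ Nat.card R := Nat.lcm_dvd h15 h25
    have h150 : 150 ∣ Nat.card R := Nat.lcm_dvd h75 h2
    obtain ⟨k, hk⟩ := h150
    have hpos : 0 < Nat.card R := Nat.card_pos
    omega
  have hcent : ∀ g : R, Commute g y → g ∈ zpowers c' := by
    intro g hg
    have h1 : Commute (g : T) (c ^ 5) := congrArg Subtype.val hg.eq
    have h2 := h.cent (k := 5) (by norm_num) (by
      intro h3
      have h4 := orderOf_dvd_of_pow_eq_one h3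
      rw [h.oc] at h4
      revert h4; norm_num) h1
    obtain ⟨n, hn⟩ := mem_zpowers_iff.1 h2
    exact mem_zpowers_iff.2 ⟨n, Subtype.ext hn⟩
  have hC : Nat.card (centralizer ({y} : Set R)) = 15 := by
    have h1 : centralizer ({y} : Set R) = zpowers c' := by
      apply le_antisymm
      · intro g hg
        exact hcent g (Subgroup.mem_centralizer_singleton_iff.1 hg)
      · rw [zpowers_le]
        refine Subgroup.mem_centralizer_singleton_iff.2 ?_
        rw [hyc]
        exact ((Commute.refl c').pow_right 5).eq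
    rw [h1, Nat.card_zpowers, hc'o]
  exact no_150 h150 (z := c' ^ 3) (y := y) (by rw [orderOf_pow, hc'o]; rfl)
    (by rw [hyc]; exact ((Commute.refl c').pow_left 3).pow_right 5) hyo hC

theorem rowS_u34 {F : Type*} [Field F] [Fintype F] (hF : Fintype.card F = 4 ^ 2) : RowS (PSU 3 F 4) := by
  have hfin : Finite (PSU 3 F 4) := Quotient.finite _
  apply RowS.of_coatoms
  intro M hM
  obtain ⟨p, n, r, h, hchar⟩ := Cfsg.Agent.H947.El.exists_PN hF (by norm_num)
  have hp2 : p = 2 := char_two_of_pow (F := F) h.pp h.n0 (k := 2) h.qp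
  subst hp2
  have hf2 : Fact (Nat.Prime 2) := ⟨Nat.prime_two⟩
  have hn2 : n = 2 := by
    have h1 : 2 ^ 2 = 2 ^ n := h.qp
    exact (Nat.pow_right_injective le_rfl h1).symm
  have hr12 : 12 < r := by
    have := h.ge
    omega
  have hrf : Fact r.Prime := ⟨h.pr⟩
  have hrT := (Cfsg.Agent.H947.El.psu3_orders hF h).1
  have hcT : Nat.card (PSU 3 F 4) = 62400 := by
    have hcard := Cfsg.Agent.H394.SqPsu3.card_psu3 hF
    norm_num at hcard
    omega
  -- the elements
  obtain ⟨xr, hxr⟩ := exists_prime_orderOf_dvd_card' r hrT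
  obtain ⟨x4, hx4⟩ : ∃ x : PSU 3 F 4, orderOf x = 4 := by
    obtain ⟨R, hR, a, ha, b, hb, hab⟩ := Cfsg.Agent.H794.PsuNotAb.exists_pair (p := 2) (n := 3) hF le_rfl
    exact exists_orderOf_four hR ha hb hab
  obtain ⟨x2, hx2⟩ := exists_prime_orderOf_dvd_card' 2 (Cfsg.Agent.H947.El.psu3_orders hF h).2.1
  obtain ⟨a, ha, hgen⟩ := exists_gen hF (by norm_num)
  have hao := orderOf_gen ha hgen
  obtain ⟨e1, e2, e3⟩ := reg_of_order (a := a) (by rw [hao]; norm_num)
  obtain ⟨f5, hf5⟩ : ∃ f, f = pr 3 F 4 (tor 4 a ha) := ⟨_, rfl⟩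
  have hf5o : orderOf f5 = 5 := by rw [hf5, orderOf_tor hF, hao]
  have hf5c : ∀ g : PSU 3 F 4, orderOf g = 2 → ¬ Commute g f5 := by
    intro g hg hc
    rw [hf5] at hc
    exact no_commute_tor (p := 2) hF ha e1 e2 e3 hg hc
  obtain ⟨B, U, c, w, hro⟩ := exists_ro (p := 2) hF (by norm_num)
  have hN : (4 ^ 2 - 1) / Nat.gcd 3 (4 + 1) = 15 := by decide
  rw [hN] at hro
  have hrp := h.pr
  have hr15 : r ≠ 15 := by rintro rfl; revert hrp; norm_num
  -- the regular unipotent element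
  obtain ⟨u, huU, ⟨v, hvU, huv⟩, hu, hu4⟩ := hro.reg
  have huo := hu4 rfl
  have hcB : Nat.card B = 960 := by
    have := hro.card_B
    rw [hcT] at this
    norm_num at this
    omega
  have hcU : Nat.card U = 64 := by rw [hro.cardU]; norm_num
  rcases Cfsg.Agent.S5778.result 4 hF (by norm_num) (pre M) (pre_max hM) with ⟨W, hW0, hWs, he⟩ |
    ⟨W, hW0, hWn, hW3, he⟩ | ⟨-, D, hD, he⟩ | ⟨-, -, K, hK, -, he⟩ | ⟨F₀, l, P, hl, hlo, hc, -, he⟩ |
    ⟨hodd, -⟩ | ⟨p', R, hp', hqp, -, h11, -⟩ | hres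
  · right
    have hW3 : 2 * finrank F W < 3 := by
      rw [finrank_one_of_iso hF hW0 hWs]; norm_num
    have hrM := r_point h hW0 hW3 (he.trans_le inf_le_left)
    have hmiss : ∀ φ : PSU 3 F 4 ≃* PSU 3 F 4, φ f5 ∉ M := by
      rw [hf5]; exact borel_miss 2 hF hW0 hWs he ha e1 e2 e3
    refine ⟨two_of_prime_and h.pr hrT hrM (y := f5) ?_ hmiss, fun R hR => ?_⟩
    · rw [hf5o]
      intro hd
      have := Nat.le_of_dvd (by norm_num) hd
      omega
    have hx : ∀ φ : PSU 3 F 4 ≃* PSU 3 F 4, φ xr ∉ R := fun φ hφ => not_mem_of_dvd hrM (by rw [hxr]) φ (hR.le hφ)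
    have hy : ∀ φ : PSU 3 F 4 ≃* PSU 3 F 4, φ f5 ∉ R := fun φ hφ => hmiss φ (hR.le hφ)
    by_cases h15 : ∀ φ : PSU 3 F 4 ≃* PSU 3 F 4, φ c ∉ R
    · exact three_of hx hy h15 (by rw [hxr, hf5o]; omega) (by rw [hxr, hro.oc]; exact hr15)
        (by rw [hf5o, hro.oc]; norm_num)
    by_cases h4 : ∀ φ : PSU 3 F 4 ≃* PSU 3 F 4, φ u ∉ R
    · exact three_of hx hy h4 (by rw [hxr, hf5o]; omega) (by rw [hxr, huo]; omega) (by rw [hf5o, huo]; norm_num)
    exfalso
    push Not at h15 h4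
    obtain ⟨y, hy2, hy1, hyc⟩ := borel_comm 2 hF hW0 hWs he
    obtain ⟨g, hg⟩ := hro.eq_conj_B (k := 6) (by norm_num) (by rw [hcT]; norm_num) hM hy2 hy1 hyc
    set R' : Subgroup (PSU 3 F 4) := R.comap (MulAut.conj g).toMonoidHom with hR'
    have hR'B : R' < B := by rw [← hg]; exact comap_lt_comap (MulAut.conj g) hR
    -- the images of `c` and `u` in `R'`
    obtain ⟨ψ, hψ⟩ := h15
    obtain ⟨χ, hχ⟩ := h4
    have hc'R : (ψ.trans (MulAut.conj g).symm) c ∈ R' := by
      show (MulAut.conj g) ((MulAut.conj g).symm (ψ c)) ∈ R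
      rw [MulEquiv.apply_symm_apply]; exact hψ
    have hu'R : (χ.trans (MulAut.conj g).symm) u ∈ R' := by
      show (MulAut.conj g) ((MulAut.conj g).symm (χ u)) ∈ R
      rw [MulEquiv.apply_symm_apply]; exact hχ
    generalize ψ.trans (MulAut.conj g).symm = ψ' at hc'R
    generalize χ.trans (MulAut.conj g).symm = χ' at hu'R
    have hc'o : orderOf (ψ' c) = 15 := by rw [MulEquiv.orderOf_eq, hro.oc]
    have hu'o : orderOf (χ' u) = 4 := by rw [MulEquiv.orderOf_eq, huo]
    have hnorm : ∀ b ∈ B, ∀ x ∈ U, b * x * b⁻¹ ∈ U := hro.data.norm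
    have hu'U : χ' u ∈ U := mem_of_coprime hro.data.le hnorm (k := 15) (by rw [hcB, hcU]) (hR'B.le hu'R)
      (by rw [hu'o]; decide)
    have hUR : U ≤ R' := le_of_64 hcU (fun b hb => hnorm b (hR'B.le hb)) hc'o hc'R hu'R hu'U hu'o
      (hro.reg_transport hu χ') (cent_transport ψ' fun g hg => hro.cent (k := 5) (by norm_num) (by
        intro h3
        have h4 := orderOf_dvd_of_pow_eq_one h3
        rw [hro.oc] at h4
        revert h4; norm_num) hg)
    have h1 : 64 ∣ Nat.card R' := by rw [← hcU]; exact Subgroup.card_dvd_of_le hUR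
    have h2 : 15 ∣ Nat.card R' := by rw [← hc'o]; exact orderOf_dvd_card_of_mem hc'R
    have h3 : 960 ∣ Nat.card R' := Nat.lcm_dvd h1 h2
    refine hR'B.ne (Subgroup.eq_of_le_of_card_ge hR'B.le ?_)
    rw [hcB]
    exact Nat.le_of_dvd Nat.card_pos h3
  · right
    have hrM := r_point h hW0 hW3 (he.trans_le inf_le_left)
    have h4M : ∀ g ∈ M, orderOf g ≠ 4 := fun g hg => point_no_four hF hW0 hWn hW3 he hg
    refine ⟨two_even hF h hrM h4M, fun R hR => ?_⟩
    have hMc := point_card' hF (by norm_num) (by norm_num) hW0 hWn hW3 he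
    have hM300 : Nat.card M ∣ 300 := by
      have h1 : 1 * Nat.card M ∣ 300 := by simpa using hMc
      rwa [one_mul] at h1
    obtain ⟨k, hk⟩ := point_center hF (by norm_num) hW0 hWn hW3 (he.trans_le inf_le_left) ha
    set z := k * pr 3 F 4 (zel 4 a ha) * k⁻¹ with hz
    have hzo : orderOf z = 5 := by
      rw [hz, orderOf_conj, orderOf_zel hF ha hgen]; decide
    have hx : ∀ φ : PSU 3 F 4 ≃* PSU 3 F 4, φ xr ∉ R := fun φ hφ => not_mem_of_dvd hrM (by rw [hxr]) φ (hR.le hφ)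
    have hy : ∀ φ : PSU 3 F 4 ≃* PSU 3 F 4, φ x4 ∉ R := fun φ hφ =>
      miss_of_order (x := x4) (fun g hg => by rw [hx4]; exact h4M g hg) φ (hR.le hφ)
    by_cases h5 : ∀ φ : PSU 3 F 4 ≃* PSU 3 F 4, φ f5 ∉ R
    · exact three_of hx hy h5 (by rw [hxr, hx4]; omega) (by rw [hxr, hf5o]; omega) (by rw [hx4, hf5o]; norm_num)
    by_cases h15 : ∀ φ : PSU 3 F 4 ≃* PSU 3 F 4, φ c ∉ R
    · exact three_of hx hy h15 (by rw [hxr, hx4]; omega) (by rw [hxr, hro.oc]; exact hr15)
        (by rw [hx4, hro.oc]; norm_num)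
    by_cases h2 : ∀ φ : PSU 3 F 4 ≃* PSU 3 F 4, φ x2 ∉ R
    · exact three_of hx hy h2 (by rw [hxr, hx4]; omega) (by rw [hxr, hx2]; omega) (by rw [hx4, hx2]; norm_num)
    exfalso
    push Not at h5 h15 h2
    obtain ⟨φ, hφ⟩ := h5
    obtain ⟨ψ, hψ⟩ := h15
    obtain ⟨χ, hχ⟩ := h2
    have hzR : z ∈ R := by
      have h1 := cent_transport ψ (k := 5) (fun g hg => hro.cent (k := 5) (by norm_num) (by
        intro h3
        have h4 := orderOf_dvd_of_pow_eq_one h3
        rw [hro.oc] at h4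
        revert h4; norm_num) hg) z ((hk _ (hR.le hψ)).symm.pow_right 5)
      exact (zpowers_le.2 hψ) h1
    have hf'z : φ f5 ∉ zpowers z := by
      intro hmem
      obtain ⟨n, hn⟩ := mem_zpowers_iff.1 hmem
      have h1 : Commute (χ x2) (φ f5) := by
        rw [← hn]
        exact (hk _ (hR.le hχ)).zpow_right n
      have h2 := h1.map φ.symm
      rw [MulEquiv.symm_apply_apply] at h2
      exact hf5c _ (by rw [MulEquiv.orderOf_eq, MulEquiv.orderOf_eq, hx2]) h2
    have h25 : 25 ∣ Nat.card R := by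
      by_contra h25
      have h5f : Fact (Nat.Prime 5) := ⟨by norm_num⟩
      obtain ⟨g, hg⟩ := exists_conj_mem (T := R) (p := 5) (U := zpowers (⟨z, hzR⟩ : R)) (k := 1)
        (by rw [Nat.card_zpowers, Subgroup.orderOf_mk, hzo]; norm_num) (by norm_num; exact h25)
        (y := (⟨φ f5, hφ⟩ : R)) (n := 1) (by
          apply Subtype.ext
          show (φ f5) ^ 5 ^ 1 = 1
          rw [pow_one, ← map_pow, ← hf5o, pow_orderOf_eq_one, map_one])
      obtain ⟨n, hn⟩ := mem_zpowers_iff.1 hg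
      apply hf'z
      have h1 : z ^ n = (g : PSU 3 F 4)⁻¹ * φ f5 * g := congrArg Subtype.val hn
      have h2 : φ f5 = z ^ n := by
        have h3 := ((hk _ (hR.le g.2)).zpow_right n).eq
        calc φ f5 = g * ((g : PSU 3 F 4)⁻¹ * φ f5 * g) * (g : PSU 3 F 4)⁻¹ := by group
          _ = g * z ^ n * (g : PSU 3 F 4)⁻¹ := by rw [← h1]
          _ = z ^ n := by rw [h3, mul_inv_cancel_right]
      rw [h2]
      exact Subgroup.zpow_mem _ (mem_zpowers z) n
    have hRc : Nat.card (R.comap ψ.toMonoidHom) = Nat.card R := Cfsg.Agent.H938.Sax.card_comap ψ R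
    refine fin34 hro (R := R.comap ψ.toMonoidHom) hψ (by rw [hRc]; exact h25) ?_ ?_
    · rw [hRc]
      have h1 := orderOf_dvd_card_of_mem hχ
      rwa [MulEquiv.orderOf_eq, hx2] at h1
    · rw [hRc]
      refine lt_of_lt_of_le ?_ (Nat.le_of_dvd (by norm_num) hM300)
      by_contra hlt
      push Not at hlt
      exact hR.ne (Subgroup.eq_of_le_of_card_ge hR.le hlt)
  · left
    have hor : ∀ g ∈ M, orderOf g ∣ 3 ∨ orderOf g ∣ 10 := fun g hg => dec_order hD (he.trans_le inf_le_left) hg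
    refine three_of (x := xr) (y := x4) (z := c) (miss_of_order fun g hg hgo => ?_)
      (miss_of_order fun g hg hgo => ?_) (miss_of_order fun g hg hgo => ?_) (by rw [hxr, hx4]; omega)
      (by rw [hxr, hro.oc]; exact hr15) (by rw [hx4, hro.oc]; norm_num)
    · rcases hor g hg with h1 | h1
      · have := Nat.le_of_dvd (by norm_num) h1
        omega
      · have := Nat.le_of_dvd (by norm_num) h1
        omega
    · rcases hor g hg with h1 | h1 <;> rw [hgo, hx4] at h1 <;> revert h1 <;> norm_num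
    · rcases hor g hg with h1 | h1 <;> rw [hgo, hro.oc] at h1 <;> revert h1 <;> norm_num
  · left
    have h2M := field_odd hK (he.trans_le inf_le_left)
    obtain ⟨x10, hx10⟩ := exists_order_mul 2 hF (by norm_num) (by norm_num)
    have hx10' : orderOf x10 = 10 := by rw [hx10]; decide
    exact Three.of_not_dvd h2M (not_SCC_of_orders (x := x2) (y := x4) (z := x10) (by rw [hx2]) (by rw [hx4]; norm_num)
      (by rw [hx10']; norm_num) (by rw [hx2, hx4]; norm_num) (by rw [hx2, hx10']; norm_num)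
      (by rw [hx4, hx10']; norm_num)) ⟨x2, by rw [hx2]⟩
  · exact (no_odd_root (Or.inr (Or.inl rfl)) hl hlo (by rw [← hc, hF]; norm_num)).elim
  · exact absurd hodd (by decide)
  · omega
  · obtain ⟨P, hP, hqp, -⟩ := Cfsg.Agent.S5779.result 4 hF (by norm_num) (pre M) (pre_max hM) hres
    exact absurd hqp (by norm_num)

end Cfsg.Agent.H188.Der
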