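import Cfsg.Agent.H188.Der.U35B

/-!
# `RowS (PSU₃(5))`: the theorem (helper188, task 2988)
-/

set_option autoImplicit false

namespace Cfsg.Agent.H188.Der

open Cfsg Cfsg.Geo Cfsg.Agent.H439.Der Cfsg.Agent.H918 Module Subgroup Cfsg.Agent.H322.Der
  Cfsg.Agent.ClassicalGeometry.PSUAutBasic Cfsg.Agent.LieClassical.HermSiegel
  Cfsg.Agent.LieClassical.HermBasic Cfsg.Agent.LieClassical.SUBasic
open scoped MatrixGroups Matrix

theorem rowS_u35 {F : Type*} [Field F] [Fintype F] (hF : Fintype.card F = 5 ^ 2) : RowS (PSU 3 F 5) := by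
  have hfin : Finite (PSU 3 F 5) := Quotient.finite _
  apply RowS.of_coatoms
  intro M hM
  obtain ⟨p, n, r, h, hchar⟩ := Cfsg.Agent.H947.El.exists_PN hF (by norm_num)
  have hp5 : p = 5 := by
    have h1 : p ∣ 5 := by
      have := h.qp
      rw [this]; exact dvd_pow_self p h.n0.ne'
    exact (Nat.prime_dvd_prime_iff_eq h.pp (by norm_num)).1 h1
  subst hp5
  have hf5 : Fact (Nat.Prime 5) := ⟨by norm_num⟩
  have hf3 : Fact (Nat.Prime 3) := ⟨Nat.prime_three⟩
  have hf2 : Fact (Nat.Prime 2) := ⟨Nat.prime_two⟩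
  have hrf : Fact r.Prime := ⟨h.pr⟩
  have hrT := (Cfsg.Agent.H947.El.psu3_orders hF h).1
  have hcT : Nat.card (PSU 3 F 5) = 126000 := by
    have hcard := Cfsg.Agent.H394.SqPsu3.card_psu3 hF
    norm_num at hcard
    omega
  have hr7 : r = 7 := by
    have h1 : r ∣ 2 ^ 4 * 3 ^ 2 * 5 ^ 3 * 7 := by rw [hcT] at hrT; norm_num; exact hrT
    have := h.ge
    have := h.n0
    rcases h.pr.dvd_mul.1 h1 with h3 | h3
    · rcases h.pr.dvd_mul.1 h3 with h4 | h4
      · rcases h.pr.dvd_mul.1 h4 with h5 | h5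
        · have := Nat.le_of_dvd (by norm_num) (h.pr.dvd_of_dvd_pow h5); omega
        · have := Nat.le_of_dvd (by norm_num) (h.pr.dvd_of_dvd_pow h5); omega
      · have := Nat.le_of_dvd (by norm_num) (h.pr.dvd_of_dvd_pow h4); omega
    · exact (Nat.prime_dvd_prime_iff_eq h.pr (by norm_num)).1 h3
  subst hr7
  -- the elements
  obtain ⟨xr, hxr⟩ := exists_prime_orderOf_dvd_card' 7 hrT
  obtain ⟨x3, hx3⟩ := exists_prime_orderOf_dvd_card' (G := PSU 3 F 5) 3 (by rw [hcT]; norm_num)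
  obtain ⟨x10, hx10'⟩ := exists_order_mul 5 hF (by norm_num) (by norm_num)
  have hx10 : orderOf x10 = 10 := by rw [hx10']; decide
  obtain ⟨a, ha, hgen⟩ := exists_gen hF (by norm_num)
  have hao := orderOf_gen ha hgen
  obtain ⟨f6, hf6⟩ : ∃ f, f = pr 3 F 5 (tor 5 a ha) := ⟨_, rfl⟩
  have hf6o : orderOf f6 = 6 := by rw [hf6, orderOf_tor hF, hao]
  obtain ⟨B, U, c, w, hro⟩ := exists_ro (p := 5) hF (by norm_num)
  have hN : (5 ^ 2 - 1) / Nat.gcd 3 (5 + 1) = 8 := by decide
  rw [hN] at hro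
  have hcB : Nat.card B = 1000 := by
    have := hro.card_B
    rw [hcT] at this
    norm_num at this
    omega
  have hT5 : ¬ 5 ^ (3 + 1) ∣ Nat.card (PSU 3 F 5) := by rw [hcT]; norm_num
  have hT2 : ¬ 2 ^ (4 + 1) ∣ Nat.card (PSU 3 F 5) := by rw [hcT]; norm_num
  have hcw : w * c * w⁻¹ = c ^ 3 := by
    rw [hro.wc, inv_eq_iff_mul_eq_one, ← pow_add]
    have h8 := pow_orderOf_eq_one c
    rwa [hro.oc] at h8
  rcases Cfsg.Agent.S5778.result 5 hF (by norm_num) (pre M) (pre_max hM) with ⟨W, hW0, hWs, he⟩ |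
    ⟨W, hW0, hWn, hW3, he⟩ | ⟨h5, -⟩ | ⟨-, h5, -⟩ | ⟨F₀, l, P, hl, hlo, hc, -, he⟩ | ⟨-, h7, -⟩ |
    ⟨p', R, hp', hqp, -, h11, -⟩ | hres
  · left
    obtain ⟨y, hy2, hy1, hyc⟩ := borel_comm 5 hF hW0 hWs he
    obtain ⟨g, hg⟩ := hro.eq_conj_B (k := 3) (by norm_num) hT5 hM hy2 hy1 hyc
    have hcM : Nat.card M = 1000 := by
      rw [← hcB, ← hg]
      exact (Cfsg.Agent.H938.Sax.card_comap (MulAut.conj g) M).symm
    have h3M : ¬ 3 ∣ Nat.card M := by rw [hcM]; norm_num
    have h7M : ¬ 7 ∣ Nat.card M := by rw [hcM]; norm_num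
    exact three_of (x := xr) (y := f6) (z := x3) (not_mem_of_dvd h7M (by rw [hxr]))
      (not_mem_of_dvd h3M (by rw [hf6o]; norm_num)) (not_mem_of_dvd h3M (by rw [hx3]))
      (by rw [hxr, hf6o]; norm_num) (by rw [hxr, hx3]; norm_num) (by rw [hf6o, hx3]; norm_num)
  · right
    have hrM := r_point h hW0 hW3 (he.trans_le inf_le_left)
    have hMc := point_card' hF (by norm_num) (by norm_num) hW0 hWn hW3 he
    have hM240 : Nat.card M ∣ 240 := by
      have h1 : 3 * Nat.card M ∣ 3 * 240 := by simpa using hMc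
      exact Nat.dvd_of_mul_dvd_mul_left (by norm_num) h1
    have hM25 : ¬ 5 ^ 2 ∣ Nat.card M := fun h9 => by
      have := h9.trans hM240
      revert this; norm_num
    obtain ⟨z5, hz5, hz5M⟩ := exists_missing_q hF (Or.inr rfl) hM25
    refine ⟨two_small hF (Or.inr rfl) h hrM hM25, fun R hR => ?_⟩
    have hx : ∀ φ : PSU 3 F 5 ≃* PSU 3 F 5, φ xr ∉ R := fun φ hφ => not_mem_of_dvd hrM (by rw [hxr]) φ (hR.le hφ)
    have hy : ∀ φ : PSU 3 F 5 ≃* PSU 3 F 5, φ z5 ∉ R := fun φ hφ => hz5M φ (hR.le hφ)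
    by_cases h5 : 5 ∣ Nat.card R
    swap
    · refine Three.of_two_primes (by norm_num : Nat.Prime 5) (by norm_num : Nat.Prime 7) (by norm_num)
        (by rw [hcT]; norm_num) h5 (fun h7 => hrM (h7.trans (Subgroup.card_dvd_of_le hR.le)))
        (not_SC_of_orderOf (by norm_num) (y := x10) (by rw [hx10]; norm_num) (by rw [hx10]; norm_num))
    by_cases h3 : 3 ∣ Nat.card R
    swap
    · exact three_of hx hy (not_mem_of_dvd h3 (x := x3) (by rw [hx3])) (by rw [hxr, hz5]; norm_num)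
        (by rw [hxr, hx3]; norm_num) (by rw [hz5, hx3]; norm_num)
    by_cases h8 : ∀ φ : PSU 3 F 5 ≃* PSU 3 F 5, φ c ∉ R
    · exact three_of hx hy h8 (by rw [hxr, hz5]; norm_num) (by rw [hxr, hro.oc]; norm_num)
        (by rw [hz5, hro.oc]; norm_num)
    exfalso
    push Not at h8
    obtain ⟨ψ, hψ⟩ := h8
    have hc'o : orderOf (ψ c) = 8 := by rw [MulEquiv.orderOf_eq, hro.oc]
    have hcR : Nat.card R = 120 := by
      have h8' : 8 ∣ Nat.card R := by rw [← hc'o]; exact orderOf_dvd_card_of_mem hψ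
      have h15 : 15 ∣ Nat.card R := Nat.lcm_dvd h3 h5
      have h120 : 120 ∣ Nat.card R := Nat.lcm_dvd h15 h8'
      have h1 : Nat.card R ∣ 240 := (Subgroup.card_dvd_of_le hR.le).trans hM240
      have h2 : Nat.card R ≠ 240 := by
        intro h96
        refine hR.ne (Subgroup.eq_of_le_of_card_ge hR.le ?_)
        rw [h96]
        exact Nat.le_of_dvd (by norm_num) hM240
      have key : ∀ n ∈ Nat.divisors 240, 120 ∣ n → n ≠ 240 → n = 120 := by decide
      exact key _ (Nat.mem_divisors.2 ⟨h1, by norm_num⟩) h120 h2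
    obtain ⟨x, y, hx5, hy3, hxy⟩ := exists_of_120 (G := R) hcR (w := ⟨ψ c, hψ⟩) (by rw [Subgroup.orderOf_mk, hc'o])
    have h1 := hro.card_cent_dvd (k := 3) (by norm_num) hT5 (y := (x : PSU 3 F 5)) (n := 1) (by
      have h8 := pow_orderOf_eq_one (x : PSU 3 F 5)
      rw [Subgroup.orderOf_coe, hx5] at h8
      rw [pow_one]; exact h8) (by
        intro h1
        have h2 : x = 1 := Subtype.ext h1
        rw [h2, orderOf_one] at hx5
        omega)
    have h2 : (y : PSU 3 F 5) ∈ centralizer ({(x : PSU 3 F 5)} : Set (PSU 3 F 5)) :=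
      Subgroup.mem_centralizer_singleton_iff.2 (congrArg Subtype.val hxy.eq.symm)
    have h4 := (orderOf_dvd_card_of_mem h2).trans h1
    rw [Subgroup.orderOf_coe, hy3, hcB] at h4
    revert h4; norm_num
  · exact absurd rfl h5
  · exact absurd rfl h5
  · exact (no_odd_root (Or.inr (Or.inr rfl)) hl hlo (by rw [← hc, hF]; norm_num)).elim
  · omega
  · omega
  · left
    obtain ⟨P, hP, hqp, hcases⟩ := Cfsg.Agent.S5779.result 5 hF (by norm_num) (pre M) (pre_max hM) hres
    have hMT : Nat.card M ∣ 126000 := by rw [← hcT]; exact Subgroup.card_subgroup_dvd_card M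
    -- elements of order `8` in subgroups of order divisible by `16`
    have h16 : 2 ^ 4 ∣ Nat.card M → ∃ g : PSU 3 F 5, g * c * g⁻¹ ∈ M ∧ g * w * g⁻¹ ∈ M := fun h16 =>
      sd_conj hT2 h16 hro.oc hro.w2 hcw
    rcases hcases with ⟨-, h5, -⟩ | ⟨⟨e⟩, -⟩ | ⟨⟨e⟩, -⟩
    · exact absurd rfl h5
    · -- `A₆`
      obtain ⟨M0, hM0n, ⟨i⟩⟩ := exists_core hF hP e
      have hM0 : Nat.card M0 = 360 := by
        rw [Nat.card_congr i.toEquiv]
        have h1 := card_alt 6 (by norm_num)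
        have h2 : Nat.factorial 6 = 720 := rfl
        rw [h2] at h1
        omega
      have hM1440 := card_dvd_aut hF hP e
      rw [Cfsg.Agent.H824.ProdLem.card_aut_a6] at hM1440
      have h360 : 360 ∣ Nat.card M := by rw [← hM0]; exact Subgroup.card_subgroup_dvd_card M0
      have hMcases : Nat.card M = 360 ∨ Nat.card M = 720 := by
        obtain ⟨k, hk⟩ := h360
        rw [hk] at hM1440 hMT
        have k1 : k ∣ 4 := Nat.dvd_of_mul_dvd_mul_left (by norm_num : 0 < 360) hM1440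
        have k2 : k ∣ 350 := Nat.dvd_of_mul_dvd_mul_left (by norm_num : 0 < 360) hMT
        have k3 : k ∣ Nat.gcd 4 350 := Nat.dvd_gcd k1 k2
        have k4 : k ∣ 2 := k3
        rcases (Nat.dvd_prime Nat.prime_two).1 k4 with rfl | rfl
        · left; rw [hk]
        · right; rw [hk]
      have h7M : ¬ 7 ∣ Nat.card M := by rcases hMcases with h1 | h1 <;> rw [h1] <;> norm_num
      have h25M : ¬ 5 ^ 2 ∣ Nat.card M := by rcases hMcases with h1 | h1 <;> rw [h1] <;> norm_num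
      obtain ⟨z5, hz5, hz5M⟩ := exists_missing_q hF (Or.inr rfl) h25M
      refine three_of (x := xr) (y := z5) (z := f6) (not_mem_of_dvd h7M (by rw [hxr])) hz5M
        (miss_of_order fun g hg => ?_) (by rw [hxr, hz5]; norm_num) (by rw [hxr, hf6o]; norm_num)
        (by rw [hz5, hf6o]; norm_num)
      rw [hf6o]
      rcases hMcases with h1 | h1
      · have h2 : M0 = ⊤ := Subgroup.eq_top_of_card_eq _ (by rw [hM0, h1])
        intro hg6
        have h3 : (⟨g, hg⟩ : M) ∈ M0 := by rw [h2]; trivial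
        exact alt6_six (i ⟨⟨g, hg⟩, h3⟩) (by rw [MulEquiv.orderOf_eq, Subgroup.orderOf_mk, Subgroup.orderOf_mk, hg6])
      · obtain ⟨k, hk1, hk2⟩ := h16 (by rw [h1]; norm_num)
        have := sd_no_six (G := M) h1 (c := ⟨k * c * k⁻¹, hk1⟩) (w := ⟨k * w * k⁻¹, hk2⟩)
          (by rw [Subgroup.orderOf_mk, orderOf_conj, hro.oc]) (Subtype.ext (by
            show k * w * k⁻¹ * (k * w * k⁻¹) = 1
            calc k * w * k⁻¹ * (k * w * k⁻¹) = k * (w * w) * k⁻¹ := by group
              _ = 1 := by rw [hro.w2]; group)) (Subtype.ext (by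
            show k * w * k⁻¹ * (k * c * k⁻¹) * (k * w * k⁻¹)⁻¹ = (k * c * k⁻¹) ^ 3
            rw [conj_pow, ← hcw]
            group)) hM0n i ⟨g, hg⟩
        rwa [Subgroup.orderOf_mk] at this
    · -- `A₇`
      obtain ⟨M0, hM0n, ⟨i⟩⟩ := exists_core hF hP e
      have hM0 : Nat.card M0 = 2520 := by
        rw [Nat.card_congr i.toEquiv]
        have h1 := card_alt 7 (by norm_num)
        have h2 : Nat.factorial 7 = 5040 := rfl
        rw [h2] at h1
        omega
      have hM5040 := (card_dvd_aut hF hP e).trans Cfsg.Agent.H947.El.card_aut_a7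
      have h2520 : 2520 ∣ Nat.card M := by rw [← hM0]; exact Subgroup.card_subgroup_dvd_card M0
      have h8M : ∀ g ∈ M, orderOf g ≠ 8 := fun g hg => a7_no_eight hF hP e hg
      have hMc : Nat.card M = 2520 := by
        obtain ⟨k, hk⟩ := h2520
        rw [hk] at hM5040
        have k4 : k ∣ 2 := Nat.dvd_of_mul_dvd_mul_left (by norm_num : 0 < 2520) hM5040
        rcases (Nat.dvd_prime Nat.prime_two).1 k4 with rfl | rfl
        · rw [hk]
        · obtain ⟨k, hk1, -⟩ := h16 (by rw [hk]; norm_num)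
          exact absurd (by rw [orderOf_conj, hro.oc]) (h8M _ hk1)
      have h2 : M0 = ⊤ := Subgroup.eq_top_of_card_eq _ (by rw [hM0, hMc])
      have h25M : ¬ 5 ^ 2 ∣ Nat.card M := by rw [hMc]; norm_num
      obtain ⟨z5, hz5, hz5M⟩ := exists_missing_q hF (Or.inr rfl) h25M
      refine three_of (x := c) (y := z5) (z := x10) (miss_of_order fun g hg => by rw [hro.oc]; exact h8M g hg) hz5M
        (miss_of_order fun g hg => ?_) (by rw [hro.oc, hz5]; norm_num) (by rw [hro.oc, hx10]; norm_num)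
        (by rw [hz5, hx10]; norm_num)
      rw [hx10]
      intro hg10
      have h3 : (⟨g, hg⟩ : M) ∈ M0 := by rw [h2]; trivial
      exact alt7_ten (i ⟨⟨g, hg⟩, h3⟩) (by rw [MulEquiv.orderOf_eq, Subgroup.orderOf_mk, Subgroup.orderOf_mk, hg10])

end Cfsg.Agent.H188.Der
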