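import Cfsg.Agent.H188.Der.U33B

/-!
# `RowS (PSU₃(5))`: the core of a residual subgroup (helper188, task 2988)
-/

set_option autoImplicit false

namespace Cfsg.Agent.H188.Der

open Cfsg Cfsg.Geo Cfsg.Agent.H439.Der Cfsg.Agent.H918 Module Subgroup Cfsg.Agent.H322.Der
  Cfsg.Agent.ClassicalGeometry.PSUAutBasic Cfsg.Agent.LieClassical.HermSiegel
  Cfsg.Agent.LieClassical.HermBasic Cfsg.Agent.LieClassical.SUBasic Cfsg.Agent.H907.Mx
open scoped MatrixGroups Matrix

section Perm

theorem perm7_ten (σ : Equiv.Perm (Fin 7)) (h10 : orderOf σ = 10) : Equiv.Perm.sign σ = -1 := by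
  have hle : ∀ n ∈ σ.cycleType, n = 2 ∨ n = 5 := by
    intro n hn
    have h2 : n ∣ 10 := h10 ▸ Equiv.Perm.dvd_of_mem_cycleType hn
    have h3 : n ≤ 7 := (Equiv.Perm.le_card_support_of_mem_cycleType hn).trans
      ((Finset.card_le_univ _).trans (by rw [Fintype.card_fin]))
    have h4 := Equiv.Perm.two_le_of_mem_cycleType hn
    have key : ∀ n < 8, n ∣ 10 → 2 ≤ n → n = 2 ∨ n = 5 := by decide
    exact key n (by omega) h2 h4
  have hsum : σ.cycleType.sum ≤ 7 := by
    rw [Equiv.Perm.sum_cycleType]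
    exact (Finset.card_le_univ _).trans (by rw [Fintype.card_fin])
  have h5 : 5 ∈ σ.cycleType := by
    by_contra h5
    have h1 : orderOf σ ∣ 2 := by
      rw [← Equiv.Perm.lcm_cycleType, Multiset.lcm_dvd]
      intro n hn
      rcases hle n hn with rfl | rfl
      · exact dvd_rfl
      · exact absurd hn h5
    rw [h10] at h1
    revert h1; decide
  have h2 : 2 ∈ σ.cycleType := by
    by_contra h2
    have h1 : orderOf σ ∣ 5 := by
      rw [← Equiv.Perm.lcm_cycleType, Multiset.lcm_dvd]
      intro n hn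
      rcases hle n hn with rfl | rfl
      · exact absurd hn h2
      · exact dvd_rfl
    rw [h10] at h1
    revert h1; decide
  obtain ⟨s, hs⟩ := Multiset.exists_cons_of_mem h5
  have h2s : 2 ∈ s := by
    rw [hs, Multiset.mem_cons] at h2
    rcases h2 with h2 | h2
    · omega
    · exact h2
  obtain ⟨t, ht⟩ := Multiset.exists_cons_of_mem h2s
  have ht0 : t = 0 := by
    apply Multiset.eq_zero_of_forall_notMem
    intro n hn
    have h4 := hle n (by rw [hs, ht]; exact Multiset.mem_cons_of_mem (Multiset.mem_cons_of_mem hn))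
    obtain ⟨t', ht'⟩ := Multiset.exists_cons_of_mem hn
    rw [hs, ht, ht', Multiset.sum_cons, Multiset.sum_cons, Multiset.sum_cons] at hsum
    omega
  rw [Equiv.Perm.sign_of_cycleType, hs, ht, ht0]
  decide

theorem perm6_six (σ : Equiv.Perm (Fin 6)) (h6 : orderOf σ = 6) : Equiv.Perm.sign σ = -1 := by
  have hle : ∀ n ∈ σ.cycleType, n = 2 ∨ n = 3 ∨ n = 6 := by
    intro n hn
    have h2 : n ∣ 6 := h6 ▸ Equiv.Perm.dvd_of_mem_cycleType hn
    have h4 := Equiv.Perm.two_le_of_mem_cycleType hn
    have h3 := Nat.le_of_dvd (by norm_num) h2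
    have key : ∀ n < 7, n ∣ 6 → 2 ≤ n → n = 2 ∨ n = 3 ∨ n = 6 := by decide
    exact key n (by omega) h2 h4
  have hsum : σ.cycleType.sum ≤ 6 := by
    rw [Equiv.Perm.sum_cycleType]
    exact (Finset.card_le_univ _).trans (by rw [Fintype.card_fin])
  by_cases h6' : 6 ∈ σ.cycleType
  · obtain ⟨s, hs⟩ := Multiset.exists_cons_of_mem h6'
    have ht0 : s = 0 := by
      apply Multiset.eq_zero_of_forall_notMem
      intro n hn
      have h4 := hle n (by rw [hs]; exact Multiset.mem_cons_of_mem hn)
      obtain ⟨t', ht'⟩ := Multiset.exists_cons_of_mem hn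
      rw [hs, ht', Multiset.sum_cons, Multiset.sum_cons] at hsum
      omega
    rw [Equiv.Perm.sign_of_cycleType, hs, ht0]
    decide
  have h3 : 3 ∈ σ.cycleType := by
    by_contra h3
    have h1 : orderOf σ ∣ 2 := by
      rw [← Equiv.Perm.lcm_cycleType, Multiset.lcm_dvd]
      intro n hn
      rcases hle n hn with rfl | rfl | rfl
      · exact dvd_rfl
      · exact absurd hn h3
      · exact absurd hn h6'
    rw [h6] at h1
    revert h1; decide
  have h2 : 2 ∈ σ.cycleType := by
    by_contra h2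
    have h1 : orderOf σ ∣ 3 := by
      rw [← Equiv.Perm.lcm_cycleType, Multiset.lcm_dvd]
      intro n hn
      rcases hle n hn with rfl | rfl | rfl
      · exact absurd hn h2
      · exact dvd_rfl
      · exact absurd hn h6'
    rw [h6] at h1
    revert h1; decide
  obtain ⟨s, hs⟩ := Multiset.exists_cons_of_mem h3
  have h2s : 2 ∈ s := by
    rw [hs, Multiset.mem_cons] at h2
    rcases h2 with h2 | h2
    · omega
    · exact h2
  obtain ⟨t, ht⟩ := Multiset.exists_cons_of_mem h2s
  have ht0 : t = 0 := by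
    apply Multiset.eq_zero_of_forall_notMem
    intro n hn
    have h4 := hle n (by rw [hs, ht]; exact Multiset.mem_cons_of_mem (Multiset.mem_cons_of_mem hn))
    obtain ⟨t', ht'⟩ := Multiset.exists_cons_of_mem hn
    rw [hs, ht, ht', Multiset.sum_cons, Multiset.sum_cons, Multiset.sum_cons] at hsum
    omega
  rw [Equiv.Perm.sign_of_cycleType, hs, ht, ht0]
  decide

theorem perm6_eight (σ : Equiv.Perm (Fin 6)) : orderOf σ ≠ 8 := by
  intro h8
  have h1 : orderOf σ ∣ 4 := by
    rw [← Equiv.Perm.lcm_cycleType, Multiset.lcm_dvd]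
    intro n hn
    have h2 : n ∣ 8 := h8 ▸ Equiv.Perm.dvd_of_mem_cycleType hn
    have h3 : n ≤ 6 := (Equiv.Perm.le_card_support_of_mem_cycleType hn).trans
      ((Finset.card_le_univ _).trans (by rw [Fintype.card_fin]))
    interval_cases n <;> revert h2 <;> decide
  rw [h8] at h1
  revert h1; decide

theorem alt7_ten (s : alternatingGroup (Fin 7)) : orderOf s ≠ 10 := by
  intro h
  rw [← Subgroup.orderOf_coe] at h
  have h1 := perm7_ten _ h
  have h2 := Equiv.Perm.mem_alternatingGroup.1 s.2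
  rw [h1] at h2
  revert h2; decide

theorem alt6_six (s : alternatingGroup (Fin 6)) : orderOf s ≠ 6 := by
  intro h
  rw [← Subgroup.orderOf_coe] at h
  have h1 := perm6_six _ h
  have h2 := Equiv.Perm.mem_alternatingGroup.1 s.2
  rw [h1] at h2
  revert h2; decide

theorem alt6_eight (s : alternatingGroup (Fin 6)) : orderOf s ≠ 8 := by
  intro h
  rw [← Subgroup.orderOf_coe] at h
  exact perm6_eight _ h

/-- two commuting involutions of `A₆` -/
theorem alt6_four : ∃ a b : alternatingGroup (Fin 6), a * a = 1 ∧ b * b = 1 ∧ a ≠ 1 ∧ b ≠ 1 ∧ a ≠ b ∧ a * b = b * a := by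
  refine ⟨⟨Equiv.swap 0 1 * Equiv.swap 2 3, ?_⟩, ⟨Equiv.swap 0 2 * Equiv.swap 1 3, ?_⟩, ?_⟩
  · rw [Equiv.Perm.mem_alternatingGroup]; decide
  · rw [Equiv.Perm.mem_alternatingGroup]; decide
  · simp only [Subtype.ext_iff, ne_eq]
    decide

theorem card_alt (n : ℕ) (hn : 2 ≤ n) : 2 * Nat.card (alternatingGroup (Fin n)) = n.factorial := by
  have : Nontrivial (Fin n) := Fin.nontrivial_iff_two_le.2 hn
  have h := two_mul_card_alternatingGroup (α := Fin n)
  rw [Fintype.card_perm, Fintype.card_fin] at h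
  rw [Nat.card_eq_fintype_card]
  exact h

end Perm

section Core

variable {F : Type*} [Field F] [Fintype F] {q : ℕ}

/-- the core of a residual maximal subgroup -/
theorem exists_core (hF : Fintype.card F = q ^ 2) {M : Subgroup (PSU 3 F q)} {P : Subgroup (GL (Fin 3) F)}
    (hP : IsResidualCore (pre M) P) {A : Type*} [Group A] (i : PQ P ≃* A) :
    ∃ M0 : Subgroup M, M0.Normal ∧ Nonempty (M0 ≃* A) := by
  let G := M.comap (pr 3 F q)
  let f : G →* M := (pr 3 F q).subgroupComap M
  have hf : Function.Surjective f := MonoidHom.subgroupComap_surjective_of_surjective _ _ pr_surjective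
  let g : G →* MulAut (PQ P) := (cQ hP).comp ((suHom 3 F q).subgroupMap G)
  have hker : f.ker = g.ker := by
    ext x
    rw [MonoidHom.mem_ker, MonoidHom.mem_ker]
    have h1 : f x = 1 ↔ pr 3 F q (x : SU 3 F q) = 1 := by
      rw [← Subtype.coe_inj]; rfl
    have h2 : g x = 1 ↔ suHom 3 F q (x : SU 3 F q) ∈ scalars (Fin 3) F := by
      show cQ hP _ = 1 ↔ _
      rw [cQ_ker]; rfl
    rw [h1, h2, mem_scalars_iff_center hF]
  -- the inner automorphisms
  have hinn : ∀ s : PQ P, MulAut.conj s ∈ g.range := by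
    intro s
    obtain ⟨x, rfl⟩ := QuotientGroup.mk_surjective s
    obtain ⟨m, hm, hmx⟩ := hP.le x.2
    refine ⟨⟨m, hm⟩, ?_⟩
    apply MulEquiv.ext
    intro t
    obtain ⟨y, rfl⟩ := QuotientGroup.mk_surjective t
    have e1 : cQ hP (⟨suHom 3 F q m, mem_pre.2 hm⟩ : pre M) (QuotientGroup.mk y : PQ P) =
        MulAut.conj (QuotientGroup.mk x : PQ P) (QuotientGroup.mk y : PQ P) := by
      rw [cQ_mk, MulAut.conj_apply]
      have : cP hP (⟨suHom 3 F q m, mem_pre.2 hm⟩ : pre M) y = x * y * x⁻¹ := by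
        apply Subtype.ext
        show (suHom 3 F q m : GL (Fin 3) F) * y * (suHom 3 F q m : GL (Fin 3) F)⁻¹ = x * y * (x : GL (Fin 3) F)⁻¹
        rw [hmx]
      rw [this]; rfl
    exact e1
  have hconj : Function.Injective (MulAut.conj : PQ P →* MulAut (PQ P)) := by
    rw [injective_iff_map_eq_one]
    intro s hs
    have h1 : s ∈ center (PQ P) := by
      rw [mem_center_iff]
      intro t
      have h2 : s * t * s⁻¹ = t := by
        have := congrArg (fun f : MulAut (PQ P) => f t) hs
        exact this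
      exact (mul_inv_eq_iff_eq_mul.1 h2).symm
    rw [center_bot hP.simple hP.nonabelian] at h1
    exact mem_bot.1 h1
  -- the isomorphism of `M` with the range
  let e1 : M ≃* G ⧸ f.ker := (QuotientGroup.quotientKerEquivOfSurjective f hf).symm
  let e2 : G ⧸ f.ker ≃* G ⧸ g.ker := QuotientGroup.quotientMulEquivOfEq hker
  let e3 : G ⧸ g.ker ≃* g.range := QuotientGroup.quotientKerEquivRange g
  let e : M ≃* g.range := (e1.trans e2).trans e3
  let I : Subgroup (MulAut (PQ P)) := (MulAut.conj : PQ P →* MulAut (PQ P)).range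
  have hI : I ≤ g.range := by
    rintro _ ⟨s, rfl⟩
    exact hinn s
  have hIn : I.Normal := by
    refine ⟨?_⟩
    rintro _ ⟨s, rfl⟩ α
    refine ⟨α s, ?_⟩
    apply MulEquiv.ext
    intro t
    show α s * t * (α s)⁻¹ = α (s * (α⁻¹ t) * s⁻¹)
    rw [map_mul, map_mul, map_inv]
    congr 2
    exact (MulEquiv.apply_symm_apply α t).symm
  refine ⟨(I.subgroupOf g.range).comap e.toMonoidHom, ?_, ⟨?_⟩⟩
  · have : (I.subgroupOf g.range).Normal := inferInstance
    infer_instance
  · have k1 : (I.subgroupOf g.range).comap e.toMonoidHom ≃* I.subgroupOf g.range :=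
      e.subgroupMap _ |>.trans (MulEquiv.subgroupCongr (Subgroup.map_comap_eq_self_of_surjective e.surjective _))
    exact k1.trans ((Subgroup.subgroupOfEquivOfLe hI).trans ((MonoidHom.ofInjective hconj).symm.trans i))

end Core

end Cfsg.Agent.H188.Der
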