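import Cfsg.Agent.H188.Der.U35A

/-!
# `RowS (PSU₃(5))`: groups `A₆ . 2` with semidihedral Sylow subgroups (helper188, task 2988)
-/

set_option autoImplicit false

namespace Cfsg.Agent.H188.Der

open Cfsg Cfsg.Geo Cfsg.Agent.H439.Der Cfsg.Agent.H918 Module Subgroup Cfsg.Agent.H322.Der

section SD

variable {G : Type*} [Group G] {c w : G}

theorem sd_pow (hw : w * w = 1) (hcw : w * c * w⁻¹ = c ^ 3) (k : ℕ) : c ^ k * w = w * c ^ (3 * k) := by
  have hwi : w⁻¹ = w := inv_eq_of_mul_eq_one_right hw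
  have h1 : w * c ^ k * w⁻¹ = c ^ (3 * k) := by rw [← conj_pow, hcw, ← pow_mul]
  rw [hwi] at h1
  rw [← h1]
  calc c ^ k * w = (w * w) * (c ^ k * w) := by rw [hw, one_mul]
    _ = w * (w * c ^ k * w) := by group

/-- the semidihedral subgroup of order `16` -/
def sd (hc : orderOf c = 8) (hw : w * w = 1) (hcw : w * c * w⁻¹ = c ^ 3) : Subgroup G where
  carrier := {g | ∃ k : ℕ, g = c ^ k ∨ g = w * c ^ k}
  one_mem' := ⟨0, Or.inl (by rw [pow_zero])⟩
  mul_mem' := by
    rintro _ _ ⟨k, rfl | rfl⟩ ⟨l, rfl | rfl⟩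
    · exact ⟨k + l, Or.inl (by rw [pow_add])⟩
    · refine ⟨3 * k + l, Or.inr ?_⟩
      rw [← mul_assoc, sd_pow hw hcw, pow_add, mul_assoc]
    · exact ⟨k + l, Or.inr (by rw [pow_add, mul_assoc])⟩
    · refine ⟨3 * k + l, Or.inl ?_⟩
      rw [mul_assoc, ← mul_assoc (c ^ k), sd_pow hw hcw, pow_add, mul_assoc, ← mul_assoc w w, hw, one_mul]
  inv_mem' := by
    have h8 : c ^ 8 = 1 := by rw [← hc, pow_orderOf_eq_one]
    rintro _ ⟨k, rfl | rfl⟩
    · refine ⟨7 * k, Or.inl ?_⟩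
      rw [inv_eq_iff_mul_eq_one, ← pow_add, show k + 7 * k = 8 * k by ring, pow_mul, h8, one_pow]
    · refine ⟨5 * k, Or.inr ?_⟩
      rw [inv_eq_iff_mul_eq_one, mul_assoc, ← mul_assoc (c ^ k), sd_pow hw hcw, mul_assoc, ← mul_assoc w w, hw, one_mul,
        ← pow_add, show 3 * k + 5 * k = 8 * k by ring, pow_mul, h8, one_pow]

theorem mem_sd {hc : orderOf c = 8} {hw : w * w = 1} {hcw : w * c * w⁻¹ = c ^ 3} {g : G} :
    g ∈ sd hc hw hcw ↔ ∃ k : ℕ, g = c ^ k ∨ g = w * c ^ k := Iff.rfl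

theorem card_sd [Finite G] (hc : orderOf c = 8) (hw : w * w = 1) (hcw : w * c * w⁻¹ = c ^ 3) :
    Nat.card (sd hc hw hcw) = 2 ^ 4 := by
  have h8 : c ^ 8 = 1 := by rw [← hc, pow_orderOf_eq_one]
  have h1 : Nat.card (sd hc hw hcw) ≤ 16 := by
    let f : Bool × Fin 8 → sd hc hw hcw := fun x => match x with
      | (false, k) => ⟨c ^ (k : ℕ), mem_sd.2 ⟨k, Or.inl rfl⟩⟩
      | (true, k) => ⟨w * c ^ (k : ℕ), mem_sd.2 ⟨k, Or.inr rfl⟩⟩
    have hf : Function.Surjective f := by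
      rintro ⟨g, hg⟩
      obtain ⟨k, hk⟩ := mem_sd.1 hg
      have hk8 : c ^ k = c ^ (k % 8) := by rw [← hc, pow_mod_orderOf]
      rcases hk with rfl | rfl
      · exact ⟨(false, ⟨k % 8, Nat.mod_lt _ (by norm_num)⟩), Subtype.ext hk8.symm⟩
      · exact ⟨(true, ⟨k % 8, Nat.mod_lt _ (by norm_num)⟩), Subtype.ext (congrArg (w * ·) hk8.symm)⟩
    have h2 := Nat.card_le_card_of_surjective f hf
    rwa [Nat.card_prod, Nat.card_eq_fintype_card (α := Bool), Nat.card_eq_fintype_card (α := Fin 8), Fintype.card_bool,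
      Fintype.card_fin] at h2
  have hcD : c ∈ sd hc hw hcw := mem_sd.2 ⟨1, Or.inl (by rw [pow_one])⟩
  have hwD : w ∈ sd hc hw hcw := mem_sd.2 ⟨0, Or.inr (by rw [pow_zero, mul_one])⟩
  have h2 : 8 ∣ Nat.card (sd hc hw hcw) := by rw [← hc]; exact orderOf_dvd_card_of_mem hcD
  have h3 : Nat.card (sd hc hw hcw) ≠ 8 := by
    intro h3
    have h4 : zpowers c = sd hc hw hcw := by
      refine Subgroup.eq_of_le_of_card_ge (zpowers_le.2 hcD) ?_
      rw [h3, Nat.card_zpowers, hc]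
    rw [← h4] at hwD
    obtain ⟨n, hn⟩ := mem_zpowers_iff.1 hwD
    have h5 : w * c * w⁻¹ = c := by
      rw [← hn]
      have := ((Commute.refl c).zpow_left n).eq
      rw [this, mul_inv_cancel_right]
    rw [h5] at hcw
    have h6 : c ^ 2 = 1 := by
      have : c ^ 2 * c = c := by rw [← pow_succ]; exact hcw.symm
      exact mul_eq_right.1 this
    have h7 := orderOf_dvd_of_pow_eq_one h6
    rw [hc] at h7
    revert h7; norm_num
  have h0 : 0 < Nat.card (sd hc hw hcw) := Nat.card_pos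
  obtain ⟨m, hm⟩ := h2
  omega

/-- the involutions of the semidihedral group -/
theorem sd_inv (hc : orderOf c = 8) (hw : w * w = 1) (hcw : w * c * w⁻¹ = c ^ 3) {x : G} (hx : x ∈ sd hc hw hcw)
    (hx2 : x * x = 1) (hx1 : x ≠ 1) : x = c ^ 4 ∨ ∃ j : ℕ, x = w * (c ^ 2) ^ j := by
  obtain ⟨k, hk⟩ := mem_sd.1 hx
  rcases hk with rfl | rfl
  · left
    rw [← pow_add] at hx2
    have h1 := orderOf_dvd_of_pow_eq_one hx2
    rw [hc] at h1
    have h2 : ¬ 8 ∣ k := fun h => hx1 (by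
      obtain ⟨m, rfl⟩ := h
      rw [pow_mul, ← hc, pow_orderOf_eq_one, one_pow])
    rw [pow_eq_pow_iff_modEq, hc]
    show k % 8 = 4 % 8
    omega
  · right
    have h1 : w * c ^ k * (w * c ^ k) = c ^ (4 * k) := by
      rw [mul_assoc, ← mul_assoc (c ^ k), sd_pow hw hcw, mul_assoc, ← mul_assoc w w, hw, one_mul, ← pow_add]
      congr 1; ring
    rw [h1] at hx2
    have h2 := orderOf_dvd_of_pow_eq_one hx2
    rw [hc] at h2
    refine ⟨k / 2, ?_⟩
    rw [← pow_mul]
    congr 2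
    omega

/-- two elements of a semidihedral Sylow `2`-subgroup in a subgroup of order divisible by `16` -/
theorem sd_conj [Finite G] {M : Subgroup G} (h32 : ¬ 2 ^ (4 + 1) ∣ Nat.card G) (h16 : 2 ^ 4 ∣ Nat.card M)
    (hc : orderOf c = 8) (hw : w * w = 1) (hcw : w * c * w⁻¹ = c ^ 3) :
    ∃ g : G, g * c * g⁻¹ ∈ M ∧ g * w * g⁻¹ ∈ M := by
  have h2f : Fact (Nat.Prime 2) := ⟨Nat.prime_two⟩
  obtain ⟨D, hD⟩ := Sylow.exists_subgroup_card_pow_prime (G := M) 2 (n := 4) h16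
  have hD' : Nat.card (D.map M.subtype) = 2 ^ 4 := by
    rw [Subgroup.card_map_of_injective (Subgroup.subtype_injective _), hD]
  obtain ⟨P, hP⟩ := exists_sylow_of_card (T := G) (p := 2) (U := sd hc hw hcw) (card_sd hc hw hcw) h32
  obtain ⟨Q, hQ⟩ := exists_sylow_of_card (T := G) (p := 2) (U := D.map M.subtype) hD' h32
  obtain ⟨g, hg⟩ := MulAction.exists_smul_eq G P Q
  have h1 : ∀ x ∈ sd hc hw hcw, g * x * g⁻¹ ∈ M := by
    intro x hx
    have h5 : g * x * g⁻¹ ∈ (Q : Subgroup G) := by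
      rw [← hg]
      refine ⟨x, ?_, rfl⟩
      show x ∈ (P : Subgroup G)
      rw [hP]
      exact hx
    rw [hQ] at h5
    obtain ⟨y, -, hy⟩ := h5
    rw [← hy]
    exact y.2
  exact ⟨g, h1 c (mem_sd.2 ⟨1, Or.inl (by rw [pow_one])⟩), h1 w (mem_sd.2 ⟨0, Or.inr (by rw [pow_zero, mul_one])⟩)⟩

/-- `M₁₀` has no elements of order `6` -/
theorem sd_no_six [Finite G] (hG : Nat.card G = 720) (hc : orderOf c = 8) (hw : w * w = 1) (hcw : w * c * w⁻¹ = c ^ 3)
    {M0 : Subgroup G} (hn : M0.Normal) (i : M0 ≃* alternatingGroup (Fin 6)) (g : G) : orderOf g ≠ 6 := by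
  have h2f : Fact (Nat.Prime 2) := ⟨Nat.prime_two⟩
  have hM0 : Nat.card M0 = 360 := by
    rw [Nat.card_congr i.toEquiv]
    have h1 := card_alt 6 (by norm_num)
    have h2 : Nat.factorial 6 = 720 := rfl
    rw [h2] at h1
    omega
  have hidx : M0.index = 2 := by
    have h1 := M0.card_mul_index
    rw [hG, hM0] at h1
    omega
  have h32 : ¬ 2 ^ (4 + 1) ∣ Nat.card G := by rw [hG]; norm_num
  obtain ⟨P, hP⟩ := exists_sylow_of_card (T := G) (p := 2) (U := sd hc hw hcw) (card_sd hc hw hcw) h32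
  have hcM : c ∉ M0 := fun h => alt6_eight (i ⟨c, h⟩) (by rw [MulEquiv.orderOf_eq, Subgroup.orderOf_mk, hc])
  have hc2 : c ^ 2 ∈ M0 := Subgroup.sq_mem_of_index_two hidx c
  have hwM : w ∈ M0 := by
    by_contra hwM
    obtain ⟨a, b, ha, hb, ha1, hb1, hab, hcomm⟩ := alt6_four
    set a' : G := ((i.symm a : M0) : G) with ha'
    set b' : G := ((i.symm b : M0) : G) with hb'
    have haa : a' * a' = 1 := by
      rw [ha', ← Subgroup.coe_mul, ← map_mul, ha, map_one]; rfl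
    have hbb : b' * b' = 1 := by
      rw [hb', ← Subgroup.coe_mul, ← map_mul, hb, map_one]; rfl
    have haM : a' ∈ M0 := (i.symm a).2
    have hbM : b' ∈ M0 := (i.symm b).2
    have ha'1 : a' ≠ 1 := by
      intro h
      apply ha1
      have h1 : i.symm a = 1 := Subtype.ext h
      rw [← i.apply_symm_apply a, h1, map_one]
    have hb'1 : b' ≠ 1 := by
      intro h
      apply hb1
      have h1 : i.symm b = 1 := Subtype.ext h
      rw [← i.apply_symm_apply b, h1, map_one]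
    have hab' : a' ≠ b' := by
      intro h
      exact hab (i.symm.injective (Subtype.ext h))
    have hcomm' : a' * b' = b' * a' := by
      rw [ha', hb', ← Subgroup.coe_mul, ← map_mul, hcomm, map_mul, Subgroup.coe_mul]
    have hV : IsPGroup 2 (zpowers a' ⊔ zpowers b' : Subgroup G) := by
      have hz : ∀ x : G, x * x = 1 → IsPGroup 2 (zpowers x) := by
        intro x hx
        rintro ⟨y, hy⟩
        obtain ⟨n, rfl⟩ := mem_zpowers_iff.1 hy
        refine ⟨1, Subtype.ext ?_⟩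
        show (x ^ n) ^ 2 ^ 1 = 1
        rw [pow_one, pow_two, ← zpow_add, ← two_mul, zpow_mul, zpow_ofNat, pow_two, hx, one_zpow]
      refine IsPGroup.to_sup_of_normal_right' (hz a' haa) (hz b' hbb) ?_
      rw [zpowers_le]
      apply mem_normalizer_of
      rw [hcomm', mul_inv_cancel_right]
      exact mem_zpowers b'
    obtain ⟨Q, hQ⟩ := hV.exists_le_sylow
    obtain ⟨g, hg⟩ := MulAction.exists_smul_eq G Q P
    have h1 : ∀ x ∈ (zpowers a' ⊔ zpowers b' : Subgroup G), g * x * g⁻¹ ∈ sd hc hw hcw := by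
      intro x hx
      have h5 : g * x * g⁻¹ ∈ (P : Subgroup G) := by
        rw [← hg]
        exact ⟨x, hQ hx, rfl⟩
      rwa [hP] at h5
    have h2 : ∀ x ∈ (zpowers a' ⊔ zpowers b' : Subgroup G), x ∈ M0 → x * x = 1 → x ≠ 1 → g * x * g⁻¹ = c ^ 4 := by
      intro x hx hxM hx2 hx1
      rcases sd_inv hc hw hcw (h1 x hx) (by
        calc g * x * g⁻¹ * (g * x * g⁻¹) = g * (x * x) * g⁻¹ := by group
          _ = 1 := by rw [hx2]; group) (fun h => hx1 (conj_eq_one_iff.1 h)) with h3 | ⟨j, h3⟩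
      · exact h3
      · exfalso
        apply hwM
        have h4 : g * x * g⁻¹ ∈ M0 := hn.conj_mem x hxM g
        rw [h3] at h4
        exact (Subgroup.mul_mem_cancel_right M0 (M0.pow_mem hc2 j)).1 h4
    have h3 := h2 a' (le_sup_left (b := zpowers b') (mem_zpowers a')) haM haa ha'1
    have h4 := h2 b' (le_sup_right (a := zpowers a') (mem_zpowers b')) hbM hbb hb'1
    rw [← h4] at h3
    exact hab' (mul_left_cancel (mul_right_cancel h3))
  have hinv : ∀ t : G, t * t = 1 → t ∈ M0 := by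
    intro t ht
    by_cases ht1 : t = 1
    · rw [ht1]; exact M0.one_mem
    obtain ⟨g, hg⟩ := exists_conj_mem (T := G) (p := 2) (U := sd hc hw hcw) (card_sd hc hw hcw) h32 (y := t) (n := 1)
      (by rw [pow_one, pow_two, ht])
    have h1 : g⁻¹ * t * g ∈ M0 := by
      rcases sd_inv hc hw hcw hg (by
        calc g⁻¹ * t * g * (g⁻¹ * t * g) = g⁻¹ * (t * t) * g := by group
          _ = 1 := by rw [ht]; group) (by
          intro h
          apply ht1
          calc t = g * (g⁻¹ * t * g) * g⁻¹ := by group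
            _ = 1 := by rw [h]; group) with h3 | ⟨j, h3⟩
      · rw [h3, show 4 = 2 * 2 by norm_num, pow_mul]
        exact M0.pow_mem hc2 2
      · rw [h3]
        exact M0.mul_mem hwM (M0.pow_mem hc2 j)
    have h2 := hn.conj_mem _ h1 g
    have h3 : g * (g⁻¹ * t * g) * g⁻¹ = t := by group
    rwa [h3] at h2
  intro hg6
  have h1 : g ^ 2 ∈ M0 := Subgroup.sq_mem_of_index_two hidx g
  have h2 : g ^ 3 ∈ M0 := hinv _ (by rw [← pow_add, show 3 + 3 = 6 by norm_num, ← hg6, pow_orderOf_eq_one])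
  have h3 : g ∈ M0 := by
    rw [pow_succ] at h2
    exact (Subgroup.mul_mem_cancel_left M0 h1).1 h2
  exact alt6_six (i ⟨g, h3⟩) (by rw [MulEquiv.orderOf_eq, Subgroup.orderOf_mk, hg6])

end SD

end Cfsg.Agent.H188.Der
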