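import Cfsg.Agent.H188.Der.Elt

/-!
# `RowS (PSU₃(8))` (helper188, task 2988)
-/

set_option autoImplicit false

namespace Cfsg.Agent.H188.Der

open Cfsg Cfsg.Geo Cfsg.Agent.H439.Der Cfsg.Agent.H918 Module Subgroup Cfsg.Agent.H322.Der
  Cfsg.Agent.ClassicalGeometry.PSUAutBasic Cfsg.Agent.LieClassical.HermSiegel
  Cfsg.Agent.LieClassical.HermBasic Cfsg.Agent.LieClassical.SUBasic
open scoped MatrixGroups Matrix

theorem key38' : ∀ m < 24, m ∣ 24 → ∀ N ∈ ({21, 42} : Finset ℕ), N ∣ 63 * m →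
    63 * m / N ≡ 1 [MOD 7] → 63 * m = 756 ∧ N = 21 := by decide

theorem key38 (n : ℕ) (h1512 : n ∣ 1512) (hlt : n < 1512) (h63 : 63 ∣ n) (N : ℕ) (hN : N ∈ ({21, 42} : Finset ℕ))
    (hd : N ∣ n) (h1 : n / N ≡ 1 [MOD 7]) : n = 756 ∧ N = 21 := by
  obtain ⟨m, rfl⟩ := h63
  exact key38' m (by omega) (Nat.dvd_of_mul_dvd_mul_left (by norm_num : 0 < 63) h1512) N hN hd h1

/-- no proper subgroups of `3 × L₂(8)` with elements of order `21` and `9` -/
theorem fin38 {T : Type*} [Group T] [Finite T] {B U : Subgroup T} {c w : T} (h : RO T 2 8 21 B U c w)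
    {R : Subgroup T} (hcR : c ∈ R) (h9 : 9 ∣ Nat.card R) (hR : Nat.card R ∣ 1512) (hR' : Nat.card R < 1512) :
    False := by
  have h7f : Fact (Nat.Prime 7) := ⟨by norm_num⟩
  set x : R := ⟨c ^ 3, R.pow_mem hcR 3⟩ with hx
  set c' : R := ⟨c, hcR⟩ with hc'
  have hxc : x = c' ^ 3 := rfl
  have hc'o : orderOf c' = 21 := by rw [hc', Subgroup.orderOf_mk, h.oc]
  have hxo : orderOf x = 7 := by rw [hxc, orderOf_pow, hc'o]; rfl
  have h21 : 21 ∣ Nat.card R := by rw [← hc'o]; exact orderOf_dvd_natCard c'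
  have h63 : 63 ∣ Nat.card R := by
    have := Nat.lcm_dvd h21 h9
    exact this
  have hcent : ∀ g : R, Commute g x → g ∈ zpowers c' := by
    intro g hg
    have h1 : Commute (g : T) (c ^ 3) := congrArg Subtype.val hg.eq
    have h2 := h.cent (k := 3) (by norm_num) (by
      intro h3
      have h4 := orderOf_dvd_of_pow_eq_one h3
      rw [h.oc] at h4
      revert h4; norm_num) h1
    obtain ⟨n, hn⟩ := mem_zpowers_iff.1 h2
    exact mem_zpowers_iff.2 ⟨n, Subtype.ext hn⟩
  have hC : Nat.card (centralizer ({x} : Set R)) = 21 := by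
    have h1 : centralizer ({x} : Set R) = zpowers c' := by
      apply le_antisymm
      · intro g hg
        exact hcent g (Subgroup.mem_centralizer_singleton_iff.1 hg)
      · rw [zpowers_le]
        refine Subgroup.mem_centralizer_singleton_iff.2 ?_
        rw [hxc]
        exact ((Commute.refl c').pow_right 3).eq
    rw [h1, Nat.card_zpowers, hc'o]
  have hNle : Nat.card (normalizer (zpowers x : Set R)) ≤ 42 := by
    classical
    have h1 : ∀ g : normalizer (zpowers x : Set R), ∃ p : Bool × zpowers c,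
        ((g : R) : T) = (if p.1 then w * (p.2 : T) else (p.2 : T)) := by
      intro g
      have h2 := (Subgroup.mem_normalizer_iff.1 g.2 x).1 (mem_zpowers x)
      rw [← SetLike.mem_coe, SetLike.mem_coe, ← mem_powers_iff_mem_zpowers] at h2
      obtain ⟨i, hi⟩ := h2
      have h3 : ((g : R) : T) * c ^ 3 * ((g : R) : T)⁻¹ = c ^ (3 * i) := by
        rw [pow_mul]
        exact (congrArg Subtype.val hi).symm
      have h4 : ¬ (8 - 1) ∣ 3 * i := by
        intro h5
        have h6 : c ^ (3 * i) = 1 := by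
          rw [← orderOf_dvd_iff_pow_eq_one, h.oc]
          have : 7 ∣ i := (Nat.Coprime.dvd_mul_left (by norm_num)).1 h5
          omega
        rw [h6] at h3
        have h7 : c ^ 3 = 1 := by
          rw [conj_eq_one_iff] at h3
          exact h3
        have h8 := orderOf_dvd_of_pow_eq_one h7
        rw [h.oc] at h8
        revert h8; norm_num
      rcases h.of_conj (k := 3) (by norm_num) h4 h3 with h5 | ⟨n, hn, h5⟩
      · exact ⟨(false, ⟨_, h5⟩), rfl⟩
      · exact ⟨(true, ⟨n, hn⟩), h5⟩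
    choose f hf using h1
    have hinj : Function.Injective f := by
      intro a b hab
      apply Subtype.ext
      apply Subtype.ext
      rw [hf a, hf b, hab]
    have h2 := Nat.card_le_card_of_injective f hinj
    rw [Nat.card_prod, Nat.card_zpowers, h.oc, Nat.card_eq_fintype_card (α := Bool), Fintype.card_bool] at h2
    exact h2
  have hN21 : 21 ∣ Nat.card (normalizer (zpowers x : Set R)) := by
    rw [← hc'o]
    apply orderOf_dvd_card_of_mem
    apply mem_normalizer_of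
    rw [hxc, ((Commute.refl c').pow_right 3).eq, mul_inv_cancel_right]
    exact mem_zpowers _
  have hNm : Nat.card (normalizer (zpowers x : Set R)) ∈ ({21, 42} : Finset ℕ) := by
    obtain ⟨k, hk⟩ := hN21
    have hpos : 0 < Nat.card (normalizer (zpowers x : Set R)) := Nat.card_pos
    rw [Finset.mem_insert, Finset.mem_singleton]
    omega
  have h49 : ¬ 7 ^ 2 ∣ Nat.card R := fun h1 => by
    have := h1.trans hR
    revert this; norm_num
  have h1 := card_norm_mul_index x
  have h2 := index_norm_modEq (p := 7) (k := 1) (by rw [pow_one, hxo]) h49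
  obtain ⟨h3, h4⟩ := key38 _ hR hR' h63 _ hNm ⟨_, h1.symm⟩ (by
    rw [← h1, Nat.mul_div_cancel_left _ Nat.card_pos]
    exact h2)
  exact no_756 h3 hxo hC h4

theorem rowS_u38 {F : Type*} [Field F] [Fintype F] (hF : Fintype.card F = 8 ^ 2) : RowS (PSU 3 F 8) := by
  have hfin : Finite (PSU 3 F 8) := Quotient.finite _
  apply RowS.of_coatoms
  intro M hM
  obtain ⟨p, n, r, h, hchar⟩ := Cfsg.Agent.H947.El.exists_PN hF (by norm_num)
  have hp2 : p = 2 := char_two_of_pow (F := F) h.pp h.n0 (k := 3) h.qp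
  subst hp2
  have hf2 : Fact (Nat.Prime 2) := ⟨Nat.prime_two⟩
  have hn3 : n = 3 := by
    have h1 : 2 ^ 3 = 2 ^ n := h.qp
    exact (Nat.pow_right_injective le_rfl h1).symm
  have hr18 : 18 < r := by
    have := h.ge
    omega
  have hrf : Fact r.Prime := ⟨h.pr⟩
  have hrT := (Cfsg.Agent.H947.El.psu3_orders hF h).1
  -- the elements
  obtain ⟨xr, hxr⟩ := exists_prime_orderOf_dvd_card' r hrT
  obtain ⟨x4, hx4⟩ : ∃ x : PSU 3 F 8, orderOf x = 4 := by
    obtain ⟨R, hR, a, ha, b, hb, hab⟩ := Cfsg.Agent.H794.PsuNotAb.exists_pair (p := 2) (n := 3) hF le_rfl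
    exact exists_orderOf_four hR ha hb hab
  obtain ⟨a, ha, hgen⟩ := exists_gen hF (by norm_num)
  have hao := orderOf_gen ha hgen
  have hf9 : orderOf (pr 3 F 8 (tor 8 a ha)) = 9 := by rw [orderOf_tor hF, hao]
  have ha3 : (a ^ 3) ^ (8 + 1) = 1 := by rw [← pow_mul, mul_comm, pow_mul, ha, one_pow]
  have ha3o : orderOf (a ^ 3) = 3 := by
    rw [orderOf_pow_of_dvd (by norm_num) (by rw [hao]; norm_num), hao]
  have hf3 : orderOf (pr 3 F 8 (tor 8 (a ^ 3) ha3)) = 3 := by rw [orderOf_tor hF, ha3o]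
  obtain ⟨B, U, c, w, hro⟩ := exists_ro (p := 2) hF (by norm_num)
  have hN : (8 ^ 2 - 1) / Nat.gcd 3 (8 + 1) = 21 := by decide
  rw [hN] at hro
  have h7 : ¬ SC (PSU 3 F 8) 7 := not_SC_of_orderOf (by norm_num) (y := c) (by rw [hro.oc]; norm_num)
    (by rw [hro.oc]; norm_num)
  have hrp := h.pr
  have hr21 : r ≠ 21 := by rintro rfl; revert hrp; norm_num
  rcases Cfsg.Agent.S5778.result 8 hF (by norm_num) (pre M) (pre_max hM) with ⟨W, hW0, hWs, he⟩ |
    ⟨W, hW0, hWn, hW3, he⟩ | ⟨-, D, hD, he⟩ | ⟨-, -, K, hK, -, he⟩ | ⟨F₀, l, P, hl, hlo, hc, -, he⟩ |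
    ⟨hodd, -⟩ | ⟨p', R, hp', hqp, -, h11, -⟩ | hres
  · left
    have hW3 : 2 * finrank F W < 3 := by
      rw [finrank_one_of_iso hF hW0 hWs]; norm_num
    have hrM := r_point h hW0 hW3 (he.trans_le inf_le_left)
    obtain ⟨e1, e2, e3⟩ := reg_of_order (a := a) (by rw [hao]; norm_num)
    obtain ⟨e1', e2', e3'⟩ := reg_of_order (a := a ^ 3) (by rw [ha3o]; norm_num)
    refine three_of (x := xr) (y := pr 3 F 8 (tor 8 a ha)) (z := pr 3 F 8 (tor 8 (a ^ 3) ha3))
      (not_mem_of_dvd hrM (by rw [hxr])) (borel_miss 2 hF hW0 hWs he ha e1 e2 e3)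
      (borel_miss 2 hF hW0 hWs he ha3 e1' e2' e3') ?_ ?_ ?_
    · rw [hxr, hf9]; omega
    · rw [hxr, hf3]; omega
    · rw [hf9, hf3]; norm_num
  · right
    have hrM := r_point h hW0 hW3 (he.trans_le inf_le_left)
    have h4M : ∀ g ∈ M, orderOf g ≠ 4 := fun g hg => point_no_four hF hW0 hWn hW3 he hg
    refine ⟨two_even hF h hrM h4M, fun R hR => ?_⟩
    have hMc := point_card' hF (by norm_num) (by norm_num) hW0 hWn hW3 he
    have hM1512 : Nat.card M ∣ 1512 := by
      have h1 : 3 * Nat.card M ∣ 3 * 1512 := by simpa using hMc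
      exact Nat.dvd_of_mul_dvd_mul_left (by norm_num) h1
    have hx : ∀ φ : PSU 3 F 8 ≃* PSU 3 F 8, φ xr ∉ R := fun φ hφ => not_mem_of_dvd hrM (by rw [hxr]) φ (hR.le hφ)
    have hy : ∀ φ : PSU 3 F 8 ≃* PSU 3 F 8, φ x4 ∉ R := fun φ hφ =>
      miss_of_order (x := x4) (fun g hg => by rw [hx4]; exact h4M g hg) φ (hR.le hφ)
    by_cases h9 : ∀ φ : PSU 3 F 8 ≃* PSU 3 F 8, φ (pr 3 F 8 (tor 8 a ha)) ∉ R
    · exact three_of hx hy h9 (by rw [hxr, hx4]; omega) (by rw [hxr, hf9]; omega) (by rw [hx4, hf9]; norm_num)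
    by_cases h21 : ∀ φ : PSU 3 F 8 ≃* PSU 3 F 8, φ c ∉ R
    · exact three_of hx hy h21 (by rw [hxr, hx4]; omega) (by rw [hxr, hro.oc]; exact hr21)
        (by rw [hx4, hro.oc]; norm_num)
    exfalso
    push Not at h9 h21
    obtain ⟨φ, hφ⟩ := h9
    obtain ⟨ψ, hψ⟩ := h21
    have hRc : Nat.card (R.comap ψ.toMonoidHom) = Nat.card R := Cfsg.Agent.H938.Sax.card_comap ψ R
    refine fin38 hro (R := R.comap ψ.toMonoidHom) hψ ?_ ?_ ?_
    · rw [hRc]
      have h1 := orderOf_dvd_card_of_mem hφ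
      rwa [Cfsg.Agent.H938.Sax.orderOf_mulEquiv, hf9] at h1
    · rw [hRc]
      exact (Subgroup.card_dvd_of_le hR.le).trans hM1512
    · rw [hRc]
      refine lt_of_lt_of_le ?_ (Nat.le_of_dvd (by norm_num) hM1512)
      by_contra hlt
      push Not at hlt
      exact hR.ne (Subgroup.eq_of_le_of_card_ge hR.le hlt)
  · left
    have hor : ∀ g ∈ M, orderOf g ∣ 3 ∨ orderOf g ∣ 18 := fun g hg => dec_order hD (he.trans_le inf_le_left) hg
    refine three_of (x := xr) (y := x4) (z := c) (miss_of_order fun g hg hgo => ?_)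
      (miss_of_order fun g hg hgo => ?_) (miss_of_order fun g hg hgo => ?_) (by rw [hxr, hx4]; omega)
      (by rw [hxr, hro.oc]; exact hr21) (by rw [hx4, hro.oc]; norm_num)
    · rcases hor g hg with h1 | h1
      · have := Nat.le_of_dvd (by norm_num) h1
        omega
      · have := Nat.le_of_dvd (by norm_num) h1
        omega
    · rcases hor g hg with h1 | h1 <;> rw [hgo, hx4] at h1 <;> revert h1 <;> norm_num
    · rcases hor g hg with h1 | h1 <;> rw [hgo, hro.oc] at h1 <;> revert h1 <;> norm_num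
  · left
    have h2M := field_odd hK (he.trans_le inf_le_left)
    obtain ⟨x6, hx6⟩ := exists_order_mul 2 hF (by norm_num) (by norm_num)
    have hx6' : orderOf x6 = 6 := by rw [hx6]; decide
    obtain ⟨x2, hx2⟩ := exists_prime_orderOf_dvd_card' 2 (Cfsg.Agent.H947.El.psu3_orders hF h).2.1
    exact Three.of_not_dvd h2M (not_SCC_of_orders (x := x2) (y := x4) (z := x6) (by rw [hx2]) (by rw [hx4]; norm_num)
      (by rw [hx6']; norm_num) (by rw [hx2, hx4]; norm_num) (by rw [hx2, hx6']; norm_num)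
      (by rw [hx4, hx6']; norm_num)) ⟨x2, by rw [hx2]⟩
  · left
    have h0 : Nat.card F₀ = 4 := root_64 hl hlo (by rw [← hc, hF])
    have h7M := subfield_no_seven hF h0 (he.trans_le inf_le_left)
    have hr := r_subfield h hl.two_le hc (he.trans_le inf_le_left)
    exact Three.of_two_primes (v := 7) (w := r) (by norm_num) h.pr (by omega) hrT h7M hr h7
  · exact absurd hodd (by decide)
  · omega
  · obtain ⟨P, hP, hqp, -⟩ := Cfsg.Agent.S5779.result 8 hF (by norm_num) (pre M) (pre_max hM) hres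
    exact absurd hqp (by norm_num)

end Cfsg.Agent.H188.Der
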